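import Cfsg.Agent.Lib.Invol.GlaubermanZStar
import Cfsg.Agent.Lib.Invol.StronglyEmbedded
import Cfsg.Agent.Lib.Linear.PSL2Seven
import Cfsg.Agent.S1225
import Mathlib.LinearAlgebra.Matrix.ToLin

/-!
# A self-centralising elementary abelian group of order 8 containing all conjugates it meets
-/

set_option autoImplicit false
set_option linter.style.haveILetI false
set_option maxHeartbeats 800000

namespace CfsgLib.AltEightRecog

open scoped Classical

variable {G : Type*} [Group G] [Finite G] (E : Subgroup G)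

/-- The data of the affine case. -/
structure AffineData : Prop where
  card : Nat.card E = 8
  sq : ∀ e ∈ E, e * e = 1
  self : Subgroup.centralizer (E : Set G) = E
  cardN : Nat.card (Subgroup.normalizer (E : Set G)) = 1344
  centN : ∀ e ∈ E, e ≠ 1 → Subgroup.centralizer ({e} : Set G) ≤ Subgroup.normalizer (E : Set G)
  trans : ∀ e ∈ E, ∀ f ∈ E, e ≠ 1 → f ≠ 1 → ∃ h ∈ Subgroup.normalizer (E : Set G), h * e * h⁻¹ = f
  closed : ∀ x ∈ Subgroup.normalizer (E : Set G), ∀ e ∈ E, e ≠ 1 → IsConj e x → x ∈ E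
  outer : ∃ z ∈ Subgroup.normalizer (E : Set G), z ∉ E ∧ z * z = 1

variable {E}

theorem inv_eq_of_sq {x : G} (h : x * x = 1) : x⁻¹ = x := inv_eq_of_mul_eq_one_right h

theorem AffineData.comm (D : AffineData E) {e f : G} (he : e ∈ E) (hf : f ∈ E) : e * f = f * e := by
  have h := Subgroup.mem_centralizer_iff.1 (D.self.ge hf) e he
  exact h

/-- An element of odd order fixing the chain of a transvection of `E` is trivial. -/
theorem AffineData.odd_trivial (D : AffineData E) {z : G} (hzN : z ∈ Subgroup.normalizer (E : Set G))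
    (hzE : z ∉ E) (hz2 : z * z = 1) :
    ∃ c ∈ E, ∃ w ∈ E, c ≠ 1 ∧ w ≠ 1 ∧ w ≠ c ∧ z * c = c * z ∧ z * w = w * z ∧
      (∀ b ∈ Subgroup.normalizer (E : Set G), b * z = z * b → b * c = c * b) ∧
      ∀ x ∈ Subgroup.normalizer (E : Set G), Odd (orderOf x) → x * z = z * x → x = 1 := by
  have hzi := inv_eq_of_sq hz2
  have hnorm : ∀ b ∈ Subgroup.normalizer (E : Set G), ∀ e ∈ E, b * e * b⁻¹ ∈ E := fun b hb e he =>
    (Subgroup.mem_normalizer_iff.1 hb e).1 he
  have hd : ∀ e ∈ E, e * (z * e * z⁻¹) ∈ E := fun e he => E.mul_mem he (hnorm z hzN e he)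
  let δ : E →* E :=
    { toFun := fun e => ⟨(e : G) * (z * e * z⁻¹), hd e e.2⟩
      map_one' := Subtype.ext (by simp)
      map_mul' := fun a b => Subtype.ext (by
        show (a : G) * b * (z * (a * b) * z⁻¹) = a * (z * a * z⁻¹) * (b * (z * b * z⁻¹))
        calc (a : G) * b * (z * (a * b) * z⁻¹) = a * ((b : G) * (z * a * z⁻¹)) * (z * b * z⁻¹) := by group
          _ = a * ((z * a * z⁻¹) * b) * (z * b * z⁻¹) := by rw [D.comm b.2 (hnorm z hzN a a.2)]
          _ = _ := by group) }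
  have hker : ∀ e : E, e ∈ δ.ker ↔ z * (e : G) = e * z := fun e => by
    rw [MonoidHom.mem_ker]
    constructor
    · intro h
      have h1 : (e : G) * (z * e * z⁻¹) = 1 := congrArg Subtype.val h
      have h2 : z * (e : G) * z⁻¹ = e := by
        rw [← inv_eq_of_mul_eq_one_right h1, inv_eq_of_sq (D.sq e e.2)]
      exact mul_inv_eq_iff_eq_mul.1 h2
    · intro h
      refine Subtype.ext ?_
      show (e : G) * (z * e * z⁻¹) = 1
      rw [h, mul_inv_cancel_right, D.sq e e.2]
  have himker : ∀ e ∈ δ.range, e ∈ δ.ker := by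
    rintro _ ⟨e, rfl⟩
    rw [hker]
    show z * ((e : G) * (z * e * z⁻¹)) = (e : G) * (z * e * z⁻¹) * z
    calc z * ((e : G) * (z * e * z⁻¹)) = (z * e * z⁻¹) * (e : G) * (e : G)⁻¹ * (z * z * e * z⁻¹) := by group
      _ = (e : G) * (z * e * z⁻¹) * (e : G)⁻¹ * (e * z⁻¹) := by
          rw [D.comm (hnorm z hzN e e.2) e.2, hz2, one_mul]
      _ = (e : G) * (z * e * z⁻¹) * z⁻¹ := by group
      _ = _ := by rw [hzi]
  have hcard := Subgroup.card_mul_index δ.ker
  rw [Subgroup.index_ker, D.card] at hcard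
  have hle : Nat.card δ.range ≤ Nat.card δ.ker := Subgroup.card_le_of_le fun e he => himker e he
  have hne : Nat.card δ.ker ≠ 8 := fun h0 => hzE (by
    rw [← D.self, Subgroup.mem_centralizer_iff]
    intro e he
    exact ((hker ⟨e, he⟩).1 ((Subgroup.eq_top_of_card_eq δ.ker (h0.trans D.card.symm)) ▸ Subgroup.mem_top _)).symm)
  have hk4 : Nat.card δ.ker = 4 := by
    have hdvd : Nat.card δ.ker ∣ 8 := Dvd.intro _ hcard
    have : Nat.card δ.ker ∈ Nat.divisors 8 := Nat.mem_divisors.2 ⟨hdvd, by norm_num⟩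
    rw [show Nat.divisors 8 = {1, 2, 4, 8} by decide] at this
    simp only [Finset.mem_insert, Finset.mem_singleton] at this
    rcases this with h | h | h | h
    · rw [h] at hcard hle; omega
    · rw [h] at hcard hle; omega
    · exact h
    · exact absurd h hne
  have hr2 : Nat.card δ.range = 2 := by rw [hk4] at hcard; omega
  obtain ⟨⟨c, hc⟩, hcu⟩ : ∃ c : δ.range, c ≠ 1 := by
    haveI : Nontrivial δ.range := Finite.one_lt_card_iff_nontrivial.1 (by omega)
    exact exists_ne 1
  have hall : ∀ y ∈ δ.range, y = 1 ∨ y = c := by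
    intro y hy
    obtain ⟨a, b, hab, huniv⟩ := Nat.card_eq_two_iff.1 hr2
    have h1 : (1 : δ.range) = a ∨ (1 : δ.range) = b := by
      have := huniv.ge (Set.mem_univ (1 : δ.range)); simpa using this
    have h2 : (⟨c, hc⟩ : δ.range) = a ∨ (⟨c, hc⟩ : δ.range) = b := by
      have := huniv.ge (Set.mem_univ (⟨c, hc⟩ : δ.range)); simpa using this
    have h3 : (⟨y, hy⟩ : δ.range) = a ∨ (⟨y, hy⟩ : δ.range) = b := by
      have := huniv.ge (Set.mem_univ (⟨y, hy⟩ : δ.range)); simpa using this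
    have : (⟨y, hy⟩ : δ.range) = 1 ∨ (⟨y, hy⟩ : δ.range) = ⟨c, hc⟩ := by
      rcases h1 with h1 | h1 <;> rcases h2 with h2 | h2 <;> rcases h3 with h3 | h3 <;>
        first
        | exact Or.inl (h3.trans h1.symm)
        | exact Or.inr (h3.trans h2.symm)
        | exact absurd (h2.trans h1.symm) hcu
    exact this.imp (congrArg Subtype.val) (congrArg Subtype.val)
  obtain ⟨w, hwk, hw1, hwc⟩ : ∃ w ∈ δ.ker, w ≠ 1 ∧ w ≠ c := by
    by_contra! h0
    have hsub : (δ.ker : Set E) ⊆ {1, c} := fun y hy => by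
      by_cases hy1 : y = 1
      · exact Or.inl hy1
      · exact Or.inr (h0 y hy hy1)
    have := Set.ncard_le_ncard hsub (Set.toFinite _)
    rw [← Nat.card_coe_set_eq] at this
    have h2 : ({1, c} : Set E).ncard ≤ 2 := (Set.ncard_insert_le _ _).trans (by simp)
    change Nat.card δ.ker ≤ _ at this
    omega
  have hc1 : (c : G) ≠ 1 := fun h => hcu (Subtype.ext (Subtype.ext h))
  have hzc : z * (c : G) = c * z := (hker c).1 (himker c hc)
  have hzw : z * (w : G) = w * z := (hker w).1 hwk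
  have hbc : ∀ b ∈ Subgroup.normalizer (E : Set G), b * z = z * b → b * (c : G) = c * b := by
    intro b hb hbz
    obtain ⟨e, he⟩ := hc
    have hbe : b * (e : G) * b⁻¹ ∈ E := hnorm b hb e e.2
    have hbzi : b * z⁻¹ = z⁻¹ * b := by rw [hzi]; exact hbz
    have h1 : (δ ⟨_, hbe⟩ : G) = b * (c : G) * b⁻¹ := by
      show b * (e : G) * b⁻¹ * (z * (b * e * b⁻¹) * z⁻¹) = _
      rw [← he]
      show _ = b * ((e : G) * (z * e * z⁻¹)) * b⁻¹
      calc b * (e : G) * b⁻¹ * (z * (b * e * b⁻¹) * z⁻¹) = b * e * b⁻¹ * ((z * b) * e * (z * b)⁻¹) := by group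
        _ = b * e * b⁻¹ * ((b * z) * e * (b * z)⁻¹) := by rw [hbz]
        _ = _ := by group
    rcases hall _ ⟨⟨_, hbe⟩, rfl⟩ with h | h
    · rw [h] at h1
      exact absurd (mul_left_cancel (mul_inv_eq_one.1 h1.symm |>.trans (mul_one b).symm)) hc1
    · rw [h] at h1
      exact mul_inv_eq_iff_eq_mul.1 h1.symm
  refine ⟨c, c.2, w, w.2, hc1, fun h => hw1 (Subtype.ext h), fun h => hwc (Subtype.ext h), hzc, hzw, hbc, ?_⟩
  intro x hx hodd hxz
  have hxE : x ∈ Subgroup.centralizer (E : Set G) := by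
    -- `x` fixes `c`, hence the kernel pointwise, hence the two cosets of the kernel
    have hpar : ∀ (S : Set G), S.Finite → S.ncard ≤ 2 → (∀ y ∈ S, x * y * x⁻¹ ∈ S) →
        ∀ y ∈ S, x * y * x⁻¹ = y := by
      intro S hSf hS hmaps y hy
      by_contra hne
      have hxx : x * (x * y * x⁻¹) * x⁻¹ = y := by
        by_contra hne2
        have h3 : ({y, x * y * x⁻¹, x * (x * y * x⁻¹) * x⁻¹} : Set G) ⊆ S := by
          rintro u (rfl | rfl | rfl)
          · exact hy
          · exact hmaps y hy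
          · exact hmaps _ (hmaps y hy)
        have := (Set.ncard_le_ncard h3 hSf).trans hS
        rw [Set.ncard_eq_three.2 ⟨y, _, _, Ne.symm hne, Ne.symm hne2, ?_, rfl⟩] at this
        · omega
        · intro h
          exact hne (mul_left_cancel (mul_right_cancel h.symm))
      obtain ⟨k, hk⟩ := hodd
      have hc2 : Commute (x ^ 2) y := by
        show x ^ 2 * y = y * x ^ 2
        rw [pow_two]
        calc x * x * y = x * (x * y * x⁻¹) * x⁻¹ * (x * x) := by group
          _ = y * (x * x) := by rw [hxx]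
      have hx1 : x = (x ^ 2) ^ (k + 1) := by
        rw [← pow_mul, show 2 * (k + 1) = orderOf x + 1 by omega, pow_succ, pow_orderOf_eq_one, one_mul]
      apply hne
      have := hc2.pow_left (k + 1)
      rw [← hx1] at this
      rw [this.eq, mul_inv_cancel_right]
    have hxzi : x * z⁻¹ = z⁻¹ * x := by rw [hzi]; exact hxz
    have hxc : x * (c : G) * x⁻¹ = c := mul_inv_eq_iff_eq_mul.2 (hbc x hx hxz)
    let W : Subgroup G := δ.ker.map E.subtype
    have hWx : ∀ y ∈ W, x * y * x⁻¹ ∈ W := by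
      rintro _ ⟨e, he, rfl⟩
      refine ⟨⟨_, hnorm x hx e e.2⟩, (hker _).2 ?_, rfl⟩
      show z * (x * e * x⁻¹) = x * e * x⁻¹ * z
      calc z * (x * (e : G) * x⁻¹) = (z * x) * e * x⁻¹ := by group
        _ = x * (z * e) * x⁻¹ := by rw [← hxz]; group
        _ = x * e * z * x⁻¹ := by rw [(hker e).1 he]; group
        _ = x * e * (x⁻¹ * (x * z) * x⁻¹) := by group
        _ = _ := by rw [hxz]; group
    have hcW : (c : G) ∈ W := ⟨c, himker c hc, rfl⟩
    have hW4 : Nat.card W = 4 := by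
      rw [Subgroup.card_map_of_injective E.subtype_injective, hk4]
    have hWfix : ∀ y ∈ W, x * y * x⁻¹ = y := by
      intro y hy
      by_cases hyc : y = 1 ∨ y = c
      · rcases hyc with rfl | rfl
        · simp
        · exact hxc
      refine hpar ((W : Set G) \ {1, (c : G)}) (Set.toFinite _) ?_ (fun u hu => ⟨hWx u hu.1, ?_⟩) y
        ⟨hy, by simpa using hyc⟩
      · have h2 : ({1, (c : G)} : Set G) ⊆ (W : Set G) := by
          rintro u (rfl | rfl)
          exacts [W.one_mem, hcW]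
        rw [Set.ncard_diff h2 (Set.toFinite _), Set.ncard_pair (Ne.symm hc1), ← Nat.card_coe_set_eq]
        change Nat.card W - 2 ≤ 2
        omega
      · rintro (h | h)
        · exact hu.2 (Or.inl (conj_eq_one_iff.1 h))
        · refine hu.2 (Or.inr (mul_left_cancel (mul_right_cancel (h.trans hxc.symm)) : u = (c : G)))
    rw [Subgroup.mem_centralizer_iff]
    intro e he
    by_cases heW : e ∈ W
    · exact (mul_inv_eq_iff_eq_mul.1 (hWfix e heW)).symm
    -- the image of `e` lies in `e W`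
    have he' : x * e * x⁻¹ ∈ E := hnorm x hx e he
    have hdiff : (e * (x * e * x⁻¹) : G) ∈ W := by
      by_contra hnot
      have hnot' : x * e * x⁻¹ ∉ W := fun h => heW (by
        have h4 := hWfix _ h
        have h5 : x * e * x⁻¹ = e := mul_left_cancel (mul_right_cancel h4)
        rwa [h5] at h)
      have hsub : W.index ≠ 0 := Subgroup.index_ne_zero_of_finite
      have hmem : e * (x * e * x⁻¹) ∈ E := E.mul_mem he he'
      have hidx : (δ.ker).index = 2 := by rw [Subgroup.index_ker, hr2]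
      have h6 := (Subgroup.mul_mem_iff_of_index_two hidx (a := ⟨e, he⟩) (b := ⟨_, he'⟩))
      have hne1 : (⟨e, he⟩ : E) ∉ δ.ker := fun h => heW ⟨_, h, rfl⟩
      have hne2 : (⟨_, he'⟩ : E) ∉ δ.ker := fun h => hnot' ⟨_, h, rfl⟩
      exact hnot ⟨_, h6.2 (iff_of_false hne1 hne2), rfl⟩
    obtain ⟨u, hu, hue⟩ : ∃ u ∈ W, x * e * x⁻¹ = e * u := ⟨_, hdiff, by
      rw [← mul_assoc, D.sq e he, one_mul]⟩
    have hu' : x * u * x⁻¹ = u := hWfix u hu
    have hpow : ∀ n : ℕ, x ^ n * e * (x ^ n)⁻¹ = e * u ^ n := by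
      intro n
      induction n with
      | zero => simp
      | succ n ih =>
        calc x ^ (n + 1) * e * (x ^ (n + 1))⁻¹ = x * (x ^ n * e * (x ^ n)⁻¹) * x⁻¹ := by
              rw [pow_succ']; group
          _ = x * (e * u ^ n) * x⁻¹ := by rw [ih]
          _ = (x * e * x⁻¹) * (x * u ^ n * x⁻¹) := by group
          _ = e * u * (x * u * x⁻¹) ^ n := by rw [hue, conj_pow]
          _ = _ := by rw [hu', mul_assoc, ← pow_succ']
    have hu1 := hpow (orderOf x)
    rw [pow_orderOf_eq_one, one_mul, inv_one, mul_one] at hu1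
    have huu : u * u = 1 := by
      obtain ⟨u0, -, rfl⟩ := hu
      exact D.sq _ u0.2
    obtain ⟨k, hk⟩ := hodd
    rw [hk, pow_succ, pow_mul, pow_two, huu, one_pow, one_mul] at hu1
    have : u = 1 := by simpa using hu1.symm
    rw [this, mul_one] at hue
    exact (mul_inv_eq_iff_eq_mul.1 hue).symm
  rw [D.self] at hxE
  have hord : orderOf x ∣ 2 := orderOf_dvd_iff_pow_eq_one.2 (by rw [pow_two]; exact D.sq x hxE)
  rcases (Nat.dvd_prime Nat.prime_two).1 hord with h | h
  · exact orderOf_eq_one_iff.1 h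
  · rw [h] at hodd; exact absurd hodd (by decide)

/-- All involution centralisers of the normaliser lie in it. -/
theorem AffineData.centralizer_le (D : AffineData E) {z : G} (hzN : z ∈ Subgroup.normalizer (E : Set G))
    (hzE : z ∉ E) (hz2 : z * z = 1) :
    Subgroup.centralizer ({z} : Set G) ≤ Subgroup.normalizer (E : Set G) := by
  obtain ⟨c, hcE, w, hwE, hc1, hw1, hwc, hzc, hzw, hbc, hodd⟩ := D.odd_trivial hzN hzE hz2
  set H := Subgroup.normalizer (E : Set G) with hH
  set K := Subgroup.centralizer ({z} : Set G) with hK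
  have hcK : c ∈ K := Subgroup.mem_centralizer_singleton_iff.2 hzc.symm
  have hwK : w ∈ K := Subgroup.mem_centralizer_singleton_iff.2 hzw.symm
  have hiso : Cfsg.IsIsolatedInvolution (⟨c, hcK⟩ : K) := by
    refine ⟨orderOf_eq_prime (Subtype.ext (by simp [pow_two, D.sq c hcE])) fun h => hc1 (congrArg Subtype.val h),
      fun g hg => ?_⟩
    set f : G := (g : G) * c * (g : G)⁻¹ with hf
    have hfc : f * c = c * f := (congrArg Subtype.val hg.eq).symm
    have hfH : f ∈ H := D.centN c hcE hc1 (Subgroup.mem_centralizer_singleton_iff.2 hfc)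
    have hfE : f ∈ E := D.closed f hfH c hcE hc1 (isConj_iff.2 ⟨g, rfl⟩)
    have hf1 : f ≠ 1 := fun h => hc1 (conj_eq_one_iff.1 h)
    have hgH : (g : G) ∈ H := by
      rw [hH, Subgroup.mem_normalizer_iff]
      have hmaps : ∀ e ∈ E, (g : G) * e * (g : G)⁻¹ ∈ E := by
        intro e he
        by_cases he1 : e = 1
        · simp [he1]
        obtain ⟨h, -, hh⟩ := D.trans c hcE e he hc1 he1
        refine D.closed _ (D.centN f hfE hf1 (Subgroup.mem_centralizer_singleton_iff.2 ?_)) c hcE hc1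
          (isConj_iff.2 ⟨(g : G) * h, ?_⟩)
        · calc (g : G) * e * (g : G)⁻¹ * f = g * (e * c) * (g : G)⁻¹ := by rw [hf]; group
            _ = g * (c * e) * (g : G)⁻¹ := by rw [D.comm he hcE]
            _ = _ := by rw [hf]; group
        · rw [← hh]; group
      intro e
      refine ⟨hmaps e, fun he => ?_⟩
      have hsurj : Function.Surjective (fun u : E => (⟨_, hmaps u u.2⟩ : E)) :=
        Finite.surjective_of_injective fun a b hab => Subtype.ext
          (mul_left_cancel (mul_right_cancel (congrArg Subtype.val hab)))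
      obtain ⟨u, hu⟩ := hsurj ⟨_, he⟩
      have : (u : G) = e := mul_left_cancel (mul_right_cancel (congrArg Subtype.val hu))
      exact this ▸ u.2
    refine Subtype.ext ?_
    show (g : G) * c * (g : G)⁻¹ = c
    exact mul_inv_eq_iff_eq_mul.2 (hbc g hgH (Subgroup.mem_centralizer_singleton_iff.1 g.2))
  set O := Cfsg.pPrimeCore 2 K with hO
  haveI : O.Normal := CfsgLib.Solvable.pPrimeCore_normal 2 K
  have hOodd : Odd (Nat.card O) := Nat.coprime_two_right.1 (CfsgLib.Solvable.pPrimeCore_card_coprime 2 K)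
  have hOinv : ∀ (e : G) (he : e ∈ E) (heK : e ∈ K), e ≠ 1 →
      ∀ y ∈ O, (⟨e, heK⟩ : K) * y * (⟨e, heK⟩ : K)⁻¹ = y⁻¹ := by
    intro e he heK he1 y hy
    set a : K := ⟨e, heK⟩
    have haa : a * a = 1 := Subtype.ext (D.sq e he)
    have hai : a⁻¹ = a := inv_eq_of_mul_eq_one_right haa
    have hfix : ∀ u ∈ O, a * u * a⁻¹ = u → u = 1 := by
      intro u hu hau
      have hau' : e * (u : G) = u * e := congrArg Subtype.val (mul_inv_eq_iff_eq_mul.1 hau)
      refine Subtype.ext (hodd u (D.centN e he he1 (Subgroup.mem_centralizer_singleton_iff.2 hau'.symm)) ?_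
        (Subgroup.mem_centralizer_singleton_iff.1 u.2))
      rw [Subgroup.orderOf_coe]
      exact hOodd.of_dvd_nat (O.orderOf_dvd_natCard hu)
    let φ : O → O := fun u => ⟨(u : K)⁻¹ * (a * u * a⁻¹),
      O.mul_mem (O.inv_mem u.2) ((inferInstance : O.Normal).conj_mem _ u.2 a)⟩
    have hφ : Function.Injective φ := fun u v huv => by
      have h1 : (u : K)⁻¹ * (a * u * a⁻¹) = (v : K)⁻¹ * (a * v * a⁻¹) := congrArg Subtype.val huv
      have h2 : a * ((v : K) * (u : K)⁻¹)⁻¹ * a⁻¹ = ((v : K) * (u : K)⁻¹)⁻¹ := by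
        calc a * ((v : K) * (u : K)⁻¹)⁻¹ * a⁻¹ = (a * u * a⁻¹) * (a * v * a⁻¹)⁻¹ := by group
          _ = (u : K) * ((u : K)⁻¹ * (a * u * a⁻¹)) * (a * v * a⁻¹)⁻¹ := by group
          _ = (u : K) * ((v : K)⁻¹ * (a * v * a⁻¹)) * (a * v * a⁻¹)⁻¹ := by rw [h1]
          _ = _ := by group
      have h3 := hfix _ (O.inv_mem (O.mul_mem v.2 (O.inv_mem u.2))) h2
      exact Subtype.ext (mul_inv_eq_one.1 (inv_eq_one.1 h3)).symm
    obtain ⟨u, hu⟩ := Finite.surjective_of_injective hφ ⟨y, hy⟩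
    have hu' : (u : K)⁻¹ * (a * u * a⁻¹) = y := congrArg Subtype.val hu
    rw [← hu', hai]
    calc a * ((u : K)⁻¹ * (a * u * a)) * a = a * (u : K)⁻¹ * a * u * (a * a) := by group
      _ = a⁻¹ * (u : K)⁻¹ * a⁻¹ * u := by rw [haa, mul_one, hai]
      _ = _ := by group
  have hO1 : O = ⊥ := by
    refine eq_bot_iff.2 fun y hy => ?_
    have hcw : c * w ∈ E := E.mul_mem hcE hwE
    have hcwK : c * w ∈ K := K.mul_mem hcK hwK
    have hcw1 : c * w ≠ 1 := fun h => hwc (by
      rw [← inv_eq_of_mul_eq_one_right h, inv_eq_of_sq (D.sq c hcE)])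
    have h1 := hOinv _ hcw hcwK hcw1 y hy
    have h2 : (⟨c * w, hcwK⟩ : K) * y * (⟨c * w, hcwK⟩ : K)⁻¹ = y := by
      rw [show (⟨c * w, hcwK⟩ : K) = ⟨c, hcK⟩ * ⟨w, hwK⟩ from rfl]
      calc (⟨c, hcK⟩ : K) * ⟨w, hwK⟩ * y * (⟨c, hcK⟩ * ⟨w, hwK⟩)⁻¹
          = (⟨c, hcK⟩ : K) * (⟨w, hwK⟩ * y * (⟨w, hwK⟩ : K)⁻¹) * (⟨c, hcK⟩ : K)⁻¹ := by group
        _ = (⟨c, hcK⟩ : K) * y⁻¹ * (⟨c, hcK⟩ : K)⁻¹ := by rw [hOinv w hwE hwK hw1 y hy]
        _ = y := by rw [hOinv c hcE hcK hc1 y⁻¹ (O.inv_mem hy), inv_inv]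
    rw [h2] at h1
    have hord : orderOf y ∣ 2 := orderOf_dvd_iff_pow_eq_one.2 (by
      rw [pow_two]; nth_rewrite 2 [h1]; exact mul_inv_cancel y)
    have hodd' : Odd (orderOf y) := hOodd.of_dvd_nat (O.orderOf_dvd_natCard hy)
    rcases (Nat.dvd_prime Nat.prime_two).1 hord with h | h
    · exact Subgroup.mem_bot.2 (orderOf_eq_one_iff.1 h)
    · rw [h] at hodd'; exact absurd hodd' (by decide)
  intro g hg
  have h := CfsgLib.Invol.zStar hiso ⟨g, hg⟩
  rw [← hO, hO1, Subgroup.mem_bot] at h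
  have h' : (c : G) * g = g * c := by
    have h'' : c * g * c⁻¹ * g⁻¹ = 1 := congrArg Subtype.val h
    exact mul_inv_eq_iff_eq_mul.1 (mul_inv_eq_one.1 h'')
  exact D.centN c hcE hc1 (Subgroup.mem_centralizer_singleton_iff.2 h'.symm)

/-- The normaliser is the whole group. -/
theorem AffineData.normalizer_eq_top (D : AffineData E) : Subgroup.normalizer (E : Set G) = ⊤ := by
  set H := Subgroup.normalizer (E : Set G) with hH
  by_contra hne
  have hev : Even (Nat.card H) := by rw [hH, D.cardN]; decide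
  have hcl : ∀ t ∈ H, t ≠ 1 → t * t = 1 → Subgroup.centralizer ({t} : Set G) ≤ H := by
    intro t ht ht1 ht2
    by_cases htE : t ∈ E
    · exact D.centN t htE ht1
    · exact D.centralizer_le ht htE ht2
  have hinv : ∀ t : G, orderOf t = 2 → t ≠ 1 ∧ t * t = 1 := fun t ht =>
    ⟨fun h => by rw [h, orderOf_one] at ht; omega, by rw [← pow_two, ← ht, pow_orderOf_eq_one]⟩
  have hE2 : ∀ e ∈ E, e ≠ 1 → orderOf e = 2 := fun e he h1 =>
    orderOf_eq_prime (by rw [pow_two]; exact D.sq e he) h1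
  have hfus : ∀ e ∈ E, e ≠ 1 → ∀ g : G, g * e * g⁻¹ ∈ H → g ∈ H := by
    intro e he he1 g hg
    have hge : g * e * g⁻¹ ∈ E := D.closed _ hg e he he1 (isConj_iff.2 ⟨g, rfl⟩)
    have hge1 : g * e * g⁻¹ ≠ 1 := fun h => he1 (conj_eq_one_iff.1 h)
    obtain ⟨h, hh, hhe⟩ := D.trans _ hge _ he hge1 he1
    have hc : h * g ∈ Subgroup.centralizer ({e} : Set G) :=
      Subgroup.mem_centralizer_singleton_iff.2 (mul_inv_eq_iff_eq_mul.1 (by
        calc h * g * e * (h * g)⁻¹ = h * (g * e * g⁻¹) * h⁻¹ := by group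
          _ = e := hhe))
    have h7 := H.mul_mem (H.inv_mem hh) (D.centN e he he1 hc)
    rwa [inv_mul_cancel_left] at h7
  have hSE : Cfsg.IsStronglyEmbedded H := by
    rw [CfsgLib.Invol.isStronglyEmbedded_iff_fusion hne hev]
    intro t ht ht2 g hg
    obtain ⟨ht1, htt⟩ := hinv t ht2
    by_cases htE : t ∈ E
    · exact hfus t htE ht1 g hg
    obtain ⟨c, hcE, -, -, hc1, -, -, htc, -, -, -⟩ := D.odd_trivial ht htE htt
    have hgt1 : g * t * g⁻¹ ≠ 1 := fun h => ht1 (conj_eq_one_iff.1 h)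
    refine hfus c hcE hc1 g (hcl _ hg hgt1 ?_ (Subgroup.mem_centralizer_singleton_iff.2 ?_))
    · rw [show g * t * g⁻¹ * (g * t * g⁻¹) = g * (t * t) * g⁻¹ by group, htt, mul_one, mul_inv_cancel]
    · calc g * c * g⁻¹ * (g * t * g⁻¹) = g * (c * t) * g⁻¹ := by group
        _ = g * (t * c) * g⁻¹ := by rw [htc]
        _ = _ := by group
  obtain ⟨z, hzN, hzE, hz2⟩ := D.outer
  have hz1 : z ≠ 1 := fun h => hzE (h ▸ E.one_mem)
  obtain ⟨c, hcE, -, -, hc1, -, -, -, -, -, -⟩ := D.odd_trivial hzN hzE hz2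
  obtain ⟨g, hg⟩ : ∃ g : G, g ∉ H := by
    by_contra! h
    exact hne (eq_top_iff.2 fun g _ => h g)
  have hu : g * c * g⁻¹ ∉ H := fun h => hg (hfus c hcE hc1 g h)
  have hconj := (Cfsg.Agent.S1225.result H hSE (g * c * g⁻¹)
    (by rw [CfsgLib.Invol.orderOf_conj, hE2 c hcE hc1]) hu z z
    (orderOf_eq_prime (by rw [pow_two]; exact hz2) hz1) hzN
    (orderOf_eq_prime (by rw [pow_two]; exact hz2) hz1) hzN).2 c z (hE2 c hcE hc1)
    (orderOf_eq_prime (by rw [pow_two]; exact hz2) hz1)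
  exact hzE (D.closed z hzN c hcE hc1 hconj)

/-- The affine conclusion. -/
theorem AffineData.conclusion (D : AffineData E) :
    ∃ (N : Subgroup G) (_ : N.Normal), IsMulCommutative N ∧ (∀ n ∈ N, n ^ 2 = 1) ∧ Nat.card N = 8 ∧
      Nonempty (G ⧸ N ≃* Matrix.ProjectiveSpecialLinearGroup (Fin 3) (ZMod 2)) := by
  haveI hn : E.Normal := Subgroup.normalizer_eq_top_iff.1 D.normalizer_eq_top
  letI : CommGroup E :=
    { Subgroup.toGroup E with mul_comm := fun a b => Subtype.ext (D.comm a.2 b.2) }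
  haveI : Module (ZMod 2) (Additive E) := AddCommGroup.zmodModule (n := 2) (fun x => by
    show Additive.ofMul ((Additive.toMul x) ^ 2) = 0
    rw [show (Additive.toMul x) ^ 2 = 1 from Subtype.ext (by
      show ((Additive.toMul x : E) : G) ^ 2 = 1
      rw [pow_two]; exact D.sq _ (Additive.toMul x).2)]
    rfl)
  haveI : Finite (Additive E) := inferInstanceAs (Finite E)
  haveI : Module.Finite (ZMod 2) (Additive E) := Module.Finite.of_finite
  have hfr : Module.finrank (ZMod 2) (Additive E) = 3 := by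
    have h := Module.natCard_eq_pow_finrank (K := ZMod 2) (V := Additive E)
    rw [show Nat.card (Additive E) = 8 from D.card, Nat.card_zmod] at h
    exact (Nat.pow_right_injective (le_refl 2) (h.symm.trans (by norm_num : (8 : ℕ) = 2 ^ 3))).symm ▸ rfl
  let b := (Module.finBasisOfFinrankEq (ZMod 2) (Additive E) hfr)
  let σ : G →* MulAut E := MulAut.conjNormal
  let ρ : G →* Module.End (ZMod 2) (Additive E) :=
    { toFun := fun g => AddMonoidHom.toZModLinearMap 2 (AddMonoidHom.mk'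
        (fun x : Additive E => Additive.ofMul (σ g (Additive.toMul x)))
        (fun x y => congrArg Additive.ofMul (map_mul (σ g) _ _)))
      map_one' := LinearMap.ext fun x => by
        show Additive.ofMul (σ 1 (Additive.toMul x)) = x
        rw [map_one]; rfl
      map_mul' := fun g k => LinearMap.ext fun x => by
        show Additive.ofMul (σ (g * k) (Additive.toMul x)) = Additive.ofMul (σ g (σ k (Additive.toMul x)))
        rw [map_mul]; rfl }
  let M : G →* GL (Fin 3) (ZMod 2) :=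
    MonoidHom.toHomUnits ((LinearMap.toMatrixAlgEquiv b).toAlgHom.toRingHom.toMonoidHom.comp ρ)
  have hker : M.ker = E := by
    ext g
    rw [MonoidHom.mem_ker]
    constructor
    · intro h
      have h1 : ρ g = 1 := (LinearMap.toMatrixAlgEquiv b).injective
        ((congrArg Units.val h).trans (map_one _).symm)
      rw [← D.self, Subgroup.mem_centralizer_iff]
      intro e he
      have h2 : ((Additive.toMul (ρ g (Additive.ofMul ⟨e, he⟩)) : E) : G) = g * e * g⁻¹ :=
        MulAut.conjNormal_apply _ _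
      rw [h1] at h2
      exact (mul_inv_eq_iff_eq_mul.1 h2.symm).symm
    · intro hg
      have h1 : ρ g = 1 := LinearMap.ext fun x => by
        refine congrArg Additive.ofMul (Subtype.ext ?_ : σ g (Additive.toMul x) = Additive.toMul x)
        rw [MulAut.conjNormal_apply, D.comm hg (Additive.toMul x).2, mul_inv_cancel_right]
      refine Units.ext ?_
      show LinearMap.toMatrixAlgEquiv b (ρ g) = _
      rw [h1, map_one]; rfl
  have hG : Nat.card G = 1344 := by
    rw [← D.cardN, D.normalizer_eq_top, Subgroup.card_top]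
  have hQ : Nat.card (G ⧸ E) = 168 := by
    have h := Subgroup.card_eq_card_quotient_mul_card_subgroup E
    rw [hG, D.card] at h
    omega
  let f : G ⧸ E →* GL (Fin 3) (ZMod 2) := QuotientGroup.lift E M hker.ge
  have hf : Function.Injective f := by
    rw [injective_iff_map_eq_one]
    intro q hq
    obtain ⟨g, rfl⟩ := QuotientGroup.mk_surjective q
    exact (QuotientGroup.eq_one_iff g).2 (hker ▸ MonoidHom.mem_ker.2 hq)
  have hGL : Nat.card (GL (Fin 3) (ZMod 2)) = 168 := by
    rw [Matrix.card_GL_field]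
    simp [Fin.prod_univ_three]
  have hbij : Function.Bijective f := (Nat.bijective_iff_injective_and_card f).2 ⟨hf, hQ.trans hGL.symm⟩
  let toGL := (Matrix.SpecialLinearGroup.toGL : Matrix.SpecialLinearGroup (Fin 3) (ZMod 2) →* GL (Fin 3) (ZMod 2))
  have hto : Function.Bijective toGL := by
    refine ⟨fun a b h => Subtype.ext (congrArg Units.val h), fun a => ⟨⟨a.1, ?_⟩, Units.ext rfl⟩⟩
    have h := Matrix.GeneralLinearGroup.val_det_apply a
    rw [← h, Subsingleton.elim (Matrix.GeneralLinearGroup.det a) 1, Units.val_one]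
  have hc : Subgroup.center (Matrix.SpecialLinearGroup (Fin 3) (ZMod 2)) = ⊥ := by
    rw [← Subgroup.card_eq_one, CfsgLib.Linear.card_center_SL, ZMod.card]
    rfl
  exact ⟨E, hn, ⟨⟨fun a b => Subtype.ext (D.comm a.2 b.2)⟩⟩, fun n hn' => by rw [pow_two]; exact D.sq n hn',
    D.card, ⟨(MulEquiv.ofBijective f hbij).trans ((MulEquiv.ofBijective toGL hto).symm.trans
      (QuotientGroup.quotientBot.symm.trans (QuotientGroup.quotientMulEquivOfEq hc.symm)))⟩⟩

end CfsgLib.AltEightRecog
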