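import Cfsg.Agent.Lib.AltEightRecog.EightHalf
import Cfsg.Agent.Lib.PlusPres.Hom
import Cfsg.Agent.Lib.Linear.SL4Two
import Mathlib.Data.Fintype.Prod

/-!
# The subgroup isomorphic to the alternating group of degree 8

Two self-centralising elementary groups of order eight in the model centraliser with normalisers of
order 1344 yield root elements satisfying the elementary relations of `SL(4,2)`.
-/

set_option autoImplicit false
set_option maxRecDepth 100000
set_option linter.style.haveILetI false
set_option linter.unusedSectionVars false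
set_option linter.unusedSimpArgs false
set_option maxHeartbeats 4000000

namespace CfsgLib.AltEightRecog

/-- The root element `(1,2)`. -/
def p12 : CA := ⟨2, 16⟩
/-- The root element `(1,3)`. -/
def p13 : CA := ⟨4, 7⟩
/-- The root element `(2,4)`. -/
def p24 : CA := ⟨0, 7⟩
/-- The root element `(3,4)`. -/
def p34 : CA := ⟨0, 16⟩

theorem lab_col : Lab p12 p13 p24 p34 := by
  constructor <;> decide +kernel

theorem lab_row : Lab p34 p24 p13 p12 := by
  constructor <;> decide +kernel

theorem span_facts (q r : CA) (h : (q = p24 ∧ r = p34) ∨ (q = p13 ∧ r = p12)) :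
    (∀ a ∈ span3 q r, ∀ b ∈ span3 q r, a * b ∈ span3 q r) ∧
    (∀ a ∈ span3 q r, a⁻¹ = a) := by
  rcases h with ⟨rfl, rfl⟩ | ⟨rfl, rfl⟩ <;> constructor <;> decide +kernel

/-- The elementary group of order eight of the class of `ac`. -/
def eC : Subgroup CA where
  carrier := {x | x ∈ span3 p24 p34}
  one_mem' := by decide
  mul_mem' := fun ha hb => (span_facts _ _ (Or.inl ⟨rfl, rfl⟩)).1 _ ha _ hb
  inv_mem' := fun {a} ha => by
    rw [Set.mem_setOf_eq, (span_facts _ _ (Or.inl ⟨rfl, rfl⟩)).2 a ha]; exact ha

/-- The elementary group of order eight of the class of `ad`. -/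
def eD : Subgroup CA where
  carrier := {x | x ∈ span3 p13 p12}
  one_mem' := by decide
  mul_mem' := fun ha hb => (span_facts _ _ (Or.inr ⟨rfl, rfl⟩)).1 _ ha _ hb
  inv_mem' := fun {a} ha => by
    rw [Set.mem_setOf_eq, (span_facts _ _ (Or.inr ⟨rfl, rfl⟩)).2 a ha]; exact ha

theorem eC_iff : ∀ x : CA, x ∈ span3 p24 p34 ↔ (inCore x = true ∧ (x.b = 0 ∨ x.b = 7)) := by
  decide +kernel

theorem mem_eC {x : CA} : x ∈ eC ↔ (inCore x = true ∧ (x.b = 0 ∨ x.b = 7)) := eC_iff x

theorem eC_classes : ∀ x ∈ span3 p24 p34, x = 1 ∨ x = az ∨ ∃ g, g * ac * g⁻¹ = x := by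
  decide +kernel

theorem eD_classes : ∀ x ∈ span3 p13 p12, x = 1 ∨ x = az ∨ ∃ g, g * ad * g⁻¹ = x := by
  decide +kernel

/-- Ordered bases of a list viewed as a space of dimension three. -/
def bases (q r : CA) : Finset (CA × CA × CA) :=
  (((span3 q r).toFinset) ×ˢ ((span3 q r).toFinset) ×ˢ ((span3 q r).toFinset)).filter
    fun t => t.1 ≠ 1 ∧ t.2.1 ≠ 1 ∧ t.2.1 ≠ t.1 ∧ t.2.2 ∉ [1, t.1, t.2.1, t.1 * t.2.1]

theorem bases_facts (q r : CA) (h : (q = p24 ∧ r = p34) ∨ (q = p13 ∧ r = p12)) :
    (bases q r).card = 168 ∧ ((az * q, q, r) ∈ bases q r) ∧ ((az, q, r) ∈ bases q r) := by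
  rcases h with ⟨rfl, rfl⟩ | ⟨rfl, rfl⟩ <;> refine ⟨?_, ?_, ?_⟩ <;> decide +kernel

variable {G : Type*} [Group G]

theorem exists_transvection [Finite G] (D : AltCent G) {q12 q13 q r : CA} (L : Lab q12 q13 q r)
    (h : (q = p24 ∧ r = p34) ∨ (q = p13 ∧ r = p12)) (E : Subgroup CA)
    (hE : ∀ x, x ∈ E ↔ x ∈ span3 q r)
    (hN : Nat.card (Subgroup.normalizer ((E.map D.hom : Subgroup G) : Set G)) = 1344) :
    ∃ n0 : G, n0 * D.hom az * n0⁻¹ = D.hom az * D.hom q ∧ n0 * D.hom q * n0⁻¹ = D.hom q ∧
      n0 * D.hom r * n0⁻¹ = D.hom r := by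
  classical
  set N := Subgroup.normalizer ((E.map D.hom : Subgroup G) : Set G) with hNdef
  haveI : Fintype N := Fintype.ofFinite N
  have hspan : az ∈ span3 q r ∧ q ∈ span3 q r ∧ r ∈ span3 q r := by simp [span3]
  have hex : ∀ g : N, ∀ w ∈ span3 q r, ∃ w' ∈ span3 q r,
      D.hom w' = (g : G) * D.hom w * (g : G)⁻¹ := by
    intro g w hw
    obtain ⟨w', hw', e⟩ := (Subgroup.mem_normalizer_iff.mp g.2 _).mp
      (Subgroup.mem_map_of_mem D.hom ((hE w).mpr hw))
    exact ⟨w', (hE w').mp hw', e⟩
  choose φ hφmem hφ using hex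
  let f : N → CA × CA × CA := fun g =>
    (φ g az hspan.1, φ g q hspan.2.1, φ g r hspan.2.2)
  obtain ⟨hcard, htgt, hbase⟩ := bases_facts q r h
  have hsub : Finset.univ.image f ⊆ bases q r := by
    intro t ht
    obtain ⟨g, -, rfl⟩ := Finset.mem_image.mp ht
    have hb := (Finset.mem_filter.mp hbase).2
    simp only [List.mem_cons, List.not_mem_nil, or_false, not_or] at hb
    obtain ⟨h1, h2, h3, h4, h5, h6, h7⟩ := hb
    have conv : ∀ (a b : CA) (ha : a ∈ span3 q r) (b' : CA),
        D.hom b' = (g : G) * D.hom b * (g : G)⁻¹ → φ g a ha = b' → a = b := by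
      intro a b ha b' hb' e
      have := hφ g a ha
      rw [e, hb', mul_left_inj, mul_right_inj] at this
      exact (D.inj this).symm
    refine Finset.mem_filter.mpr ⟨Finset.mem_product.mpr ⟨List.mem_toFinset.mpr (hφmem g _ _),
      Finset.mem_product.mpr ⟨List.mem_toFinset.mpr (hφmem g _ _),
        List.mem_toFinset.mpr (hφmem g _ _)⟩⟩, fun e => h1 (conv _ 1 _ _ (by simp) e),
      fun e => h2 (conv _ 1 _ _ (by simp) e), fun e => h3 (conv _ _ _ _ (hφ g _ _) e), ?_⟩
    simp only [List.mem_cons, List.not_mem_nil, or_false, not_or]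
    refine ⟨fun e => h4 (conv _ 1 _ _ (by simp) e), fun e => h5 (conv _ _ _ _ (hφ g _ _) e),
      fun e => h6 (conv _ _ _ _ (hφ g _ _) e), fun e => h7 (conv _ (az * q) _ _ ?_ e)⟩
    rw [map_mul, hφ, hφ, map_mul]
    group
  have hfib : ∀ b ∈ Finset.univ.image f,
      (Finset.univ.filter fun g => f g = b).card ≤ 8 := by
    intro b hb
    obtain ⟨g0, -, rfl⟩ := Finset.mem_image.mp hb
    calc (Finset.univ.filter fun g => f g = f g0).card
        ≤ ((span3 q r).toFinset.image D.hom).card := by
          refine Finset.card_le_card_of_injOn (fun g => (g0 : G)⁻¹ * (g : G)) ?_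
            (fun a _ b _ e => Subtype.ext (mul_left_cancel e))
          intro g hg
          have hg' : f g = f g0 := (Finset.mem_filter.mp (Finset.mem_coe.mp hg)).2
          simp only [f, Prod.mk.injEq] at hg'
          obtain ⟨e1, e2, e3⟩ := hg'
          have key : ∀ (a : CA) (ha : a ∈ span3 q r), φ g a ha = φ g0 a ha →
              (g0 : G)⁻¹ * g * D.hom a = D.hom a * ((g0 : G)⁻¹ * g) := by
            intro a ha e
            have e' : (g : G) * D.hom a * (g : G)⁻¹ = (g0 : G) * D.hom a * (g0 : G)⁻¹ := by
              rw [← hφ g a ha, ← hφ g0 a ha, e]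
            calc (g0 : G)⁻¹ * g * D.hom a = (g0 : G)⁻¹ * (g * D.hom a * (g : G)⁻¹) * g := by group
              _ = D.hom a * ((g0 : G)⁻¹ * g) := by rw [e']; group
          obtain ⟨w, hw⟩ := mem_range_of_commute D (key az _ e1)
          have hw2 : w * q = q * w := D.inj (by rw [map_mul, map_mul, hw]; exact key q _ e2)
          have hw3 : w * r = r * w := D.inj (by rw [map_mul, map_mul, hw]; exact key r _ e3)
          exact Finset.mem_coe.mpr (Finset.mem_image.mpr
            ⟨w, List.mem_toFinset.mpr (L.cent w hw2 hw3), hw⟩)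
      _ ≤ (span3 q r).toFinset.card := Finset.card_image_le
      _ ≤ 8 := (List.toFinset_card_le _).trans (le_of_eq rfl)
  have heq : Finset.univ.image f = bases q r := by
    refine Finset.eq_of_subset_of_card_le hsub ?_
    have := Finset.card_le_mul_card_image (Finset.univ : Finset N) 8 hfib
    rw [Finset.card_univ, ← Nat.card_eq_fintype_card, hN] at this
    rw [hcard]
    omega
  obtain ⟨g, -, hg⟩ := Finset.mem_image.mp (heq.symm ▸ htgt)
  simp only [f, Prod.mk.injEq] at hg
  obtain ⟨e1, e2, e3⟩ := hg
  refine ⟨g, ?_, ?_, ?_⟩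
  · rw [← hφ g az hspan.1, e1, map_mul]
  · rw [← hφ g q hspan.2.1, e2]
  · rw [← hφ g r hspan.2.2, e3]

/-- Two elementary roots `p, q` have commutator `r`. -/
def Stp (p q r : G) : Prop := p * q * p * q = r

theorem stp_of {p q r : G} (h : p * q * p = r * q) (hq : q * q = 1) : Stp p q r := by
  show p * q * p * q = r
  rw [h, mul_assoc, hq, mul_one]

theorem Stp.flip {p q r : G} (h : Stp p q r) (hp : p * p = 1) (hq : q * q = 1) (hr : r * r = 1) :
    Stp q p r := by
  show q * p * q * p = r
  have e : p * q * p * q = r := h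
  calc q * p * q * p = (p * q * p * q)⁻¹ := by
        simp only [mul_inv_rev, inv_of_sq hp, inv_of_sq hq, mul_assoc]
    _ = r := by rw [e, inv_of_sq hr]

theorem Stp.conj {p q r : G} (h : Stp p q r) {s : G} (hs : s * s = 1) :
    Stp (s * p * s) (s * q * s) (s * r * s) := by
  show s * p * s * (s * q * s) * (s * p * s) * (s * q * s) = s * r * s
  rw [← show p * q * p * q = r from h]
  simp only [mul_assoc, ← mul_assoc s s, hs, one_mul]

theorem commute_conj {p q : G} (h : Commute p q) {s : G} (hs : s * s = 1) :
    Commute (s * p * s) (s * q * s) := by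
  show s * p * s * (s * q * s) = s * q * s * (s * p * s)
  simp only [mul_assoc, ← mul_assoc s s, hs, one_mul]
  rw [← mul_assoc p q, h.eq, mul_assoc]

theorem sq_conj {p : G} (h : p * p = 1) {s : G} (hs : s * s = 1) : s * p * s * (s * p * s) = 1 := by
  simp only [mul_assoc, ← mul_assoc s s, hs, one_mul, ← mul_assoc p p, h]

theorem conj_back {p q s : G} (h : s * p * s = q) (hs : s * s = 1) : s * q * s = p := by
  rw [← h]; simp only [mul_assoc, ← mul_assoc s s, hs, one_mul, mul_one]

theorem commute_of_conj_eq {p n : G} (h : n * p * n = p) (hn : n * n = 1) : Commute n p :=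
  calc n * p = n * p * (n * n) := by rw [hn, mul_one]
    _ = p * n := by rw [← mul_assoc, h]

theorem gen_table : ∀ w : CA, ∃ a b c d e : Bool, ∃ s ∈ [1, p23, p32, p23 * p32, p32 * p23,
    p23 * p32 * p23], (bif a then az else 1) * (bif b then p13 else 1) * (bif c then p24 else 1) *
      (bif d then p12 else 1) * (bif e then p34 else 1) * s = w := by
  decide +kernel

theorem cent_four : ∀ w : CA, w * p13 = p13 * w → w * p23 = p23 * w → w * p24 = p24 * w →
    ∃ a b c d : Bool, w = (bif a then p13 else 1) * (bif b then az else 1) * (bif c then p23 else 1) *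
      (bif d then p24 else 1) := by
  decide +kernel

theorem fixed_four : ∀ a b c d : Bool,
    (bif a then p13 * p23 else 1) * (bif b then az * p24 else 1) * (bif c then p23 else 1) *
      (bif d then p24 else 1) =
      (bif a then p13 else 1) * (bif b then az else 1) * (bif c then p23 else 1) *
        (bif d then p24 else 1) →
    (bif a then p13 else 1) * (bif b then az * p13 else 1) * (bif c then p23 else 1) *
      (bif d then p24 * p23 else 1) =
      (bif a then p13 else 1) * (bif b then az else 1) * (bif c then p23 else 1) *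
        (bif d then p24 else 1) →
    (bif a then p13 else 1) * (bif b then az else 1) * (bif c then p23 else 1) *
        (bif d then p24 else 1) = 1 ∨
      (bif a then p13 else 1) * (bif b then az else 1) * (bif c then p23 else 1) *
        (bif d then p24 else 1) = p23 := by
  decide +kernel

theorem hom_sq (D : AltCent G) {w : CA} (h : w * w = 1) : D.hom w * D.hom w = 1 := by
  rw [← map_mul, h, map_one]

theorem hom_bif (D : AltCent G) (a : Bool) (x : CA) :
    D.hom (bif a then x else 1) = bif a then D.hom x else 1 := by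
  cases a <;> simp

theorem conj_bif {s : G} (hs : s * s = 1) (a : Bool) {x x' : G} (h : s * x * s = x') :
    s * (bif a then x else 1) * s = bif a then x' else 1 := by
  cases a <;> simp [h, hs]

/-- Among the two choices of the second root one commutes with the first. -/
theorem exists_commuting (D : AltCent G) {n m : G} (hn : Side D p12 p13 p24 p34 n)
    (hm : Side D p34 p24 p13 p12 m) :
    ∃ m', Side D p34 p24 p13 p12 m' ∧ Commute n m' := by
  set z := D.hom az with hz
  set B := D.hom p13 with hB
  set P := D.hom p24 with hP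
  set X := D.hom p23 with hX
  have zz : z * z = 1 := hom_sq D (by decide +kernel)
  have BB : B * B = 1 := hom_sq D (by decide +kernel)
  have PP : P * P = 1 := hom_sq D (by decide +kernel)
  have XX : X * X = 1 := hom_sq D (by decide +kernel)
  have cc : ∀ a b : CA, a * b = b * a → D.hom a * D.hom b = D.hom b * D.hom a := fun a b e => by
    rw [← map_mul, ← map_mul, e]
  have zB : z * B = B * z := cc _ _ (by decide +kernel)
  have zP : z * P = P * z := cc _ _ (by decide +kernel)
  have BX : B * X = X * B := cc _ _ (by decide +kernel)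
  have BP : B * P = P * B := cc _ _ (by decide +kernel)
  have XP : X * P = P * X := cc _ _ (by decide +kernel)
  have zX : z * X = X * z := cc _ _ (by decide +kernel)
  have n1 : n * z * n = z * P := hn.c14
  have n2 : n * P * n = P := hn.c24
  have n3 : n * X * n = X := hn.c23
  have n4 : n * B * n = B * X := hn.c13
  have m1 : m * z * m = z * B := hm.c14
  have m2 : m * B * m = B := hm.c24
  have m3 : m * X * m = X := hm.c23
  have m4 : m * P * m = P * X := hm.c13
  have nn := hn.sq
  have mm := hm.sq
  set c := n * m * n * m with hc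
  have ci : c⁻¹ = m * n * m * n := by
    rw [hc]; simp only [mul_inv_rev, inv_of_sq nn, inv_of_sq mm, mul_assoc]
  have hfix : ∀ a, n * (m * (n * (m * a * m) * n) * m) * n = a → c * a = a * c := by
    intro a e
    refine mul_inv_eq_iff_eq_mul.mp ?_
    refine Eq.trans ?_ e
    rw [ci, hc]; group
  have c1 : c * z = z * c := by
    refine hfix _ ?_
    have f1 : n * (z * B) * n = z * P * (B * X) := by rw [cvm n nn, n1, n4]
    have f2 : m * (z * P * (B * X)) * m = z * P := by
      calc m * (z * P * (B * X)) * m = (m * z * m) * (m * P * m) * ((m * B * m) * (m * X * m)) := by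
            simp only [mul_assoc, ← mul_assoc m m, mm, one_mul]
        _ = z * (B * P) * (X * (B * X)) := by rw [m1, m4, m2, m3]; simp only [mul_assoc]
        _ = z * P := by
          rw [BP, BX]
          simp only [mul_assoc, ← mul_assoc X X, XX, one_mul, BB, mul_one]
    have f3 : n * (z * P) * n = z := by rw [cvm n nn, n1, n2, mul_assoc, PP, mul_one]
    rw [m1, f1, f2, f3]
  have c2 : c * B = B * c := by
    refine hfix _ ?_
    rw [m2, n4, cvm m mm, m2, m3, cvm n nn, n4, n3, mul_assoc, XX, mul_one]
  have c3 : c * X = X * c := by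
    refine hfix _ ?_
    rw [m3, n3, m3, n3]
  have c4 : c * P = P * c := by
    refine hfix _ ?_
    have f1 : n * (P * X) * n = P * X := by rw [cvm n nn, n2, n3]
    have f2 : m * (P * X) * m = P := by rw [cvm m mm, m4, m3, mul_assoc P X X, XX, mul_one]
    rw [m4, f1, f2, n2]
  obtain ⟨w, hw⟩ := mem_range_of_commute D c1
  obtain ⟨a, b, c', d, hwe⟩ := cent_four w (D.inj (by rw [map_mul, map_mul, hw]; exact c2))
    (D.inj (by rw [map_mul, map_mul, hw]; exact c3)) (D.inj (by rw [map_mul, map_mul, hw]; exact c4))
  have hcsq : c * c = 1 := by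
    rw [← hw, hwe, ← map_mul]
    have : ∀ a b c d : Bool, ((bif a then p13 else 1) * (bif b then az else 1) *
        (bif c then p23 else 1) * (bif d then p24 else 1)) * ((bif a then p13 else 1) *
        (bif b then az else 1) * (bif c then p23 else 1) * (bif d then p24 else 1)) = 1 := by
      decide +kernel
    rw [this, map_one]
  have cn : n * c * n = c := by
    conv_rhs => rw [← inv_of_sq hcsq, ci]
    rw [hc]; simp only [← mul_assoc, nn, one_mul]
  have cm : m * c * m = c := by
    conv_rhs => rw [← inv_of_sq hcsq, ci]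
    rw [hc]; simp only [mul_assoc, mm, mul_one]
  have hcw : c = (bif a then B else 1) * (bif b then z else 1) * (bif c' then X else 1) *
      (bif d then P else 1) := by
    rw [← hw, hwe, map_mul, map_mul, map_mul, hom_bif, hom_bif, hom_bif, hom_bif]
  have e1 := fixed_four a b c' d (D.inj ?_) (D.inj ?_)
  rotate_left
  · simp only [map_mul, hom_bif]
    rw [← hcw]
    conv_rhs => rw [← cn, hcw, cvm n nn, cvm n nn, cvm n nn, conj_bif nn a n4, conj_bif nn b n1,
      conj_bif nn c' n3, conj_bif nn d n2]
  · simp only [map_mul, hom_bif]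
    rw [← hcw]
    conv_rhs => rw [← cm, hcw, cvm m mm, cvm m mm, cvm m mm, conj_bif mm a m2, conj_bif mm b m1,
      conj_bif mm c' m3, conj_bif mm d m4]
  rw [← hwe] at e1
  rcases e1 with e | e
  · refine ⟨m, hm, ?_⟩
    have h1 : n * m * (n * m) = 1 := by
      rw [e, map_one] at hw
      rw [← mul_assoc, ← hc, ← hw]
    calc n * m = (n * m)⁻¹ := (inv_of_sq h1).symm
      _ = m * n := by rw [mul_inv_rev, inv_of_sq nn, inv_of_sq mm]
  · refine ⟨z * m * z, ?_, ?_⟩
    · have zc : ∀ x : CA, z * D.hom x * z = D.hom x := fun x => by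
        rw [hz, ← map_mul, ← map_mul, lab_col.central, mul_assoc, lab_col.sz, mul_one]
      have cz : ∀ x : G, z * m * z * x * (z * m * z) = z * (m * (z * x * z) * m) * z := fun x => by
        simp only [mul_assoc]
      refine ⟨sq_conj mm zz, ?_, ?_, ?_, ?_, ?_, ?_, ?_, ?_⟩
      · rw [cz, zc, hm.c14, cvm z zz, zc, zc]
      · rw [cz, zc, hm.c24, zc]
      · rw [cz, zc, hm.c34, zc]
      · rw [cz, zc, hm.c23, zc]
      · rw [cz, zc, hm.c13, cvm z zz, zc, zc]
      · rw [cz, zc, hm.tri, cvm z zz, cvm z zz, zc]
      · have e' : D.hom (p23 * p32 * p23) * (z * m * z) * D.hom (p23 * p32 * p23) =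
            z * (D.hom (p23 * p32 * p23) * m * D.hom (p23 * p32 * p23)) * z := by
          rw [cvm z zz, cvm z zz, zc]
        rw [e']
        exact commute_conj hm.cw zz
      · rw [show D.hom p32 * (z * m * z) * D.hom p32 = z * (D.hom p32 * m * D.hom p32) * z by
          rw [cvm z zz, cvm z zz, zc], hm.c32, cvm z zz, cvm z zz, cvm z zz, zc]
    · have hzmz : z * m * z = B * m := by
        calc z * m * z = z * (m * z * m) * m := by simp only [mul_assoc, mm, mul_one]
          _ = B * m := by rw [m1, ← mul_assoc z z B, zz, one_mul]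
      rw [hzmz]
      have hX' : n * m * n * m = X := by rw [← hc, ← hw, e]
      have h1 : n * (B * m) * (n * (B * m)) = 1 := by
        calc n * (B * m) * (n * (B * m)) = (n * B * n) * (n * m * n * m) * (m * B * m) := by
              simp only [mul_assoc, ← mul_assoc n n, nn, one_mul, ← mul_assoc m m, mm]
          _ = 1 := by rw [n4, hX', m2, mul_assoc B X X, XX, mul_one, BB]
      have hBm : (B * m)⁻¹ = B * m := inv_of_sq (by
        calc B * m * (B * m) = B * (m * B * m) := by group
          _ = 1 := by rw [m2, BB])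
      calc n * (B * m) = (n * (B * m))⁻¹ := (inv_of_sq h1).symm
        _ = B * m * n := by rw [mul_inv_rev, inv_of_sq nn, hBm]

/-- The twelve root elements. -/
def rootTable (x12 x13 x14 x21 x23 x24 x31 x32 x34 x41 x42 x43 : G) : Fin 4 → Fin 4 → G :=
  ![![1, x12, x13, x14], ![x21, 1, x23, x24], ![x31, x32, 1, x34], ![x41, x42, x43, 1]]

theorem exists_sl_hom (D : AltCent G) {n m : G} (hn : Side D p12 p13 p24 p34 n)
    (hm : Side D p34 p24 p13 p12 m) (hK : Commute n m) :
    ∃ φ : Matrix.SpecialLinearGroup (Fin 4) (ZMod 2) →* G, D.hom.range ≤ φ.range := by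
  classical
  set z := D.hom az with hz
  set A := D.hom p12 with hA
  set B := D.hom p13 with hB
  set P := D.hom p24 with hP
  set Q := D.hom p34 with hQ
  set X := D.hom p23 with hX
  set Y := D.hom p32 with hY
  set W := D.hom (p23 * p32 * p23) with hW
  set v := W * n * W with hv
  set u := W * m * W with hu
  have zz : z * z = 1 := hom_sq D (by decide +kernel)
  have AA : A * A = 1 := hom_sq D (by decide +kernel)
  have BB : B * B = 1 := hom_sq D (by decide +kernel)
  have PP : P * P = 1 := hom_sq D (by decide +kernel)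
  have QQ : Q * Q = 1 := hom_sq D (by decide +kernel)
  have XX : X * X = 1 := hom_sq D (by decide +kernel)
  have YY : Y * Y = 1 := hom_sq D (by decide +kernel)
  have WW : W * W = 1 := hom_sq D (by decide +kernel)
  have cc : ∀ a b : CA, a * b = b * a → Commute (D.hom a) (D.hom b) := fun a b e => by
    show D.hom a * D.hom b = D.hom b * D.hom a
    rw [← map_mul, ← map_mul, e]
  have st : ∀ a b c : CA, a * b * a * b = c → Stp (D.hom a) (D.hom b) (D.hom c) := fun a b c e => by
    show D.hom a * D.hom b * D.hom a * D.hom b = D.hom c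
    rw [← map_mul, ← map_mul, ← map_mul, e]
  have cj : ∀ a b c : CA, a * b * a = c → D.hom a * D.hom b * D.hom a = D.hom c := fun a b c e => by
    rw [← map_mul, ← map_mul, e]
  -- inside the centraliser
  have C1213 : Commute A B := cc _ _ (by decide +kernel)
  have C1214 : Commute A z := cc _ _ (by decide +kernel)
  have C1232 : Commute A Y := cc _ _ (by decide +kernel)
  have C1234 : Commute A Q := cc _ _ (by decide +kernel)
  have C1314 : Commute B z := cc _ _ (by decide +kernel)
  have C1323 : Commute B X := cc _ _ (by decide +kernel)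
  have C1324 : Commute B P := cc _ _ (by decide +kernel)
  have C1423 : Commute z X := cc _ _ (by decide +kernel)
  have C1424 : Commute z P := cc _ _ (by decide +kernel)
  have C1432 : Commute z Y := cc _ _ (by decide +kernel)
  have C1434 : Commute z Q := cc _ _ (by decide +kernel)
  have C2324 : Commute X P := cc _ _ (by decide +kernel)
  have C2434 : Commute P Q := cc _ _ (by decide +kernel)
  have C3234 : Commute Y Q := cc _ _ (by decide +kernel)
  have S123 : Stp A X B := st _ _ _ (by decide +kernel)
  have S124 : Stp A P z := st _ _ _ (by decide +kernel)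
  have S132 : Stp B Y A := st _ _ _ (by decide +kernel)
  have S134 : Stp B Q z := st _ _ _ (by decide +kernel)
  have S234 : Stp X Q P := st _ _ _ (by decide +kernel)
  have S324 : Stp Y P Q := st _ _ _ (by decide +kernel)
  have WA : W * A * W = B := cj _ _ _ (by decide +kernel)
  have WB : W * B * W = A := cj _ _ _ (by decide +kernel)
  have Wz : W * z * W = z := cj _ _ _ (by decide +kernel)
  have WP : W * P * W = Q := cj _ _ _ (by decide +kernel)
  have WQ : W * Q * W = P := cj _ _ _ (by decide +kernel)
  have WX : W * X * W = Y := cj _ _ _ (by decide +kernel)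
  have WY : W * Y * W = X := cj _ _ _ (by decide +kernel)
  have Wn : W * n * W = v := rfl
  have Wm : W * m * W = u := rfl
  have Wv : W * v * W = n := conj_back Wn WW
  have Wu : W * u * W = m := conj_back Wm WW
  -- the first new root and its conjugate
  have nn := hn.sq
  have mm := hm.sq
  have vv : v * v = 1 := sq_conj nn WW
  have uu : u * u = 1 := sq_conj mm WW
  have C2123 : Commute n X := commute_of_conj_eq hn.c23 nn
  have C2124 : Commute n P := commute_of_conj_eq hn.c24 nn
  have C2134 : Commute n Q := commute_of_conj_eq hn.c34 nn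
  have C2131 : Commute n v := hn.cw
  have S213 : Stp n B X := stp_of (hn.c13.trans C1323.eq) BB
  have S214 : Stp n z P := stp_of (hn.c14.trans C1424.eq) zz
  have S321 : Stp Y n v := stp_of hn.c32 nn
  have S312 : Stp v A Y := by simpa only [Wn, WB, WX] using S213.conj WW
  have S314 : Stp v z Q := by simpa only [Wn, Wz, WP] using S214.conj WW
  have S231 : Stp X v n := by simpa only [WY, Wn, Wv] using S321.conj WW
  have C3132 : Commute v Y := by simpa only [Wn, WX] using commute_conj C2123 WW
  have C3134 : Commute v Q := by simpa only [Wn, WP] using commute_conj C2124 WW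
  have C3124 : Commute v P := by simpa only [Wn, WQ] using commute_conj C2134 WW
  -- the second new root and its conjugate
  have C4323 : Commute m X := commute_of_conj_eq hm.c23 mm
  have C4313 : Commute m B := commute_of_conj_eq hm.c24 mm
  have C4312 : Commute m A := commute_of_conj_eq hm.c34 mm
  have C4342 : Commute m u := hm.cw
  have S243 : Stp P m X := (stp_of (hm.c13.trans C2324.eq.symm) PP).flip mm PP XX
  have S143 : Stp z m B := (stp_of (hm.c14.trans C1314.eq.symm) zz).flip mm zz BB
  have S432 : Stp m Y u := (stp_of hm.c32 mm).flip YY mm uu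
  have S342 : Stp Q u Y := by simpa only [WP, Wm, WX] using S243.conj WW
  have S142 : Stp z u A := by simpa only [Wz, Wm, WB] using S143.conj WW
  have S423 : Stp u X m := by simpa only [Wm, WY, Wu] using S432.conj WW
  have C4232 : Commute u Y := by simpa only [Wm, WX] using commute_conj C4323 WW
  have C4212 : Commute u A := by simpa only [Wm, WB] using commute_conj C4313 WW
  have C4213 : Commute u B := by simpa only [Wm, WA] using commute_conj C4312 WW
  have C3142 : Commute v u := by simpa only [Wn, Wm] using commute_conj hK WW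
  -- the reflection exchanging the first two indices
  set s := A * n * A with hs
  have ss : s * s = 1 := sq_conj nn AA
  have sA : s * A * s = n := by
    calc s * A * s = A * (n * (A * A * A) * n) * A := by rw [hs]; group
      _ = A * (n * A * n) * A := by rw [AA, one_mul]
      _ = n := by rw [hn.tri, ← hA]; simp only [mul_assoc, AA, mul_one, ← mul_assoc A A, one_mul]
  have sn : s * n * s = A := conj_back sA ss
  have cA : ∀ {x : G}, Commute A x → A * x * A = x := fun {x} h => by
    rw [h.eq, mul_assoc, AA, mul_one]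
  have cn : ∀ {x : G}, Commute n x → n * x * n = x := fun {x} h => by
    rw [h.eq, mul_assoc, nn, mul_one]
  have AXA : A * X * A = B * X := by
    rw [← show A * X * A * X = B from S123, mul_assoc _ X X, XX, mul_one]
  have AzP : A * (z * P) * A = P := by
    rw [cvm A AA, cA C1214, show A * P * A = z * P by
      rw [← show A * P * A * P = z from S124, mul_assoc _ P P, PP, mul_one], ← mul_assoc, zz, one_mul]
  have sz : s * z * s = P := by
    calc s * z * s = A * (n * (A * z * A) * n) * A := by rw [hs]; group
      _ = P := by rw [cA C1214, hn.c14, AzP]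
  have sP : s * P * s = z := conj_back sz ss
  have sB : s * B * s = X := by
    calc s * B * s = A * (n * (A * B * A) * n) * A := by rw [hs]; group
      _ = X := by
        rw [cA C1213, hn.c13, cvm A AA, cA C1213, AXA, ← mul_assoc, BB, one_mul]
  have sX : s * X * s = B := conj_back sB ss
  have sQ : s * Q * s = Q := by
    calc s * Q * s = A * (n * (A * Q * A) * n) * A := by rw [hs]; group
      _ = Q := by rw [cA C1234, hn.c34, cA C1234]
  have sm : s * m * s = m := by
    calc s * m * s = A * (n * (A * m * A) * n) * A := by rw [hs]; group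
      _ = m := by rw [cA C4312.symm, cn hK, cA C4312.symm]
  have nYn : n * Y * n = Y * v := by
    rw [← show Y * n * Y * n = v from S321]
    simp only [← mul_assoc, YY, one_mul]
  have AvA : A * v * A = v * Y := by
    rw [← show v * A * v * A = Y from S312]
    simp only [← mul_assoc, vv, one_mul]
  have sY : s * Y * s = v := by
    calc s * Y * s = A * (n * (A * Y * A) * n) * A := by rw [hs]; group
      _ = v := by
        rw [cA C1232, nYn, cvm A AA, cA C1232, AvA, C3132.eq, ← mul_assoc, YY, one_mul]
  have sv : s * v * s = Y := conj_back sY ss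
  set t := s * u * s with ht
  have tt : t * t = 1 := sq_conj uu ss
  have su : s * u * s = t := rfl
  have st' : s * t * s = u := conj_back su ss
  have S431 : Stp m v t := by simpa only [sm, sY, su] using S432.conj ss
  have C4132 : Commute t Y := by simpa only [sv, su] using (commute_conj C3142 ss).symm
  have mYm : m * Y * m = u * Y := by
    rw [← show m * Y * m * Y = u from S432, mul_assoc _ Y Y, YY, mul_one]
  have mvm : m * v * m = t * v := by
    rw [← show m * v * m * v = t from S431, mul_assoc _ v v, vv, mul_one]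
  have nun : n * u * n = u * t := by
    calc n * u * n = n * (m * Y * m * Y) * n := by
          rw [show m * Y * m * Y = u from S432]
      _ = (n * m * n) * (n * Y * n) * (n * m * n) * (n * Y * n) := by
          simp only [mul_assoc, ← mul_assoc n n, nn, one_mul]
      _ = (m * Y * m) * (m * v * m) * (Y * v) := by
          rw [cn hK, nYn]; simp only [mul_assoc, ← mul_assoc m m, mm, one_mul]
      _ = u * ((Y * t) * (v * Y)) * v := by rw [mYm, mvm]; group
      _ = u * t := by
          rw [← C4132.eq, C3132.eq, mul_assoc t Y, ← mul_assoc Y Y, YY, one_mul, ← mul_assoc u t v,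
            mul_assoc, vv, mul_one]
  have C4142 : Commute t u := by
    have h1 : u * t * (u * t) = 1 := nun ▸ sq_conj uu nn
    calc t * u = (u * t)⁻¹ := by rw [mul_inv_rev, inv_of_sq uu, inv_of_sq tt]
      _ = u * t := inv_of_sq h1
  have S421 : Stp u n t :=
    (stp_of (nun.trans C4142.eq.symm) uu).flip nn uu tt
  -- the remaining relations by conjugation
  have S241 : Stp P t n := by simpa only [sz, su, sA] using S142.conj ss
  have S341 : Stp Q t v := by simpa only [sQ, su, sY] using S342.conj ss
  have S413 : Stp t B m := by simpa only [su, sX, sm] using S423.conj ss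
  have S412 : Stp t A u := by simpa only [su, sn, st'] using S421.conj ss
  have C4131 : Commute t v := by simpa only [su, sY] using commute_conj C4232 ss
  have C4121 : Commute t n := by simpa only [su, sA] using commute_conj C4212 ss
  have C4123 : Commute t X := by simpa only [su, sB] using commute_conj C4213 ss
  have C4143 : Commute t m := by simpa only [su, sm] using (commute_conj C4342 ss).symm
  -- the homomorphism
  let R := rootTable A B z n X P v Y Q t u m
  let y : Fin 4 → Fin 4 → ZMod 2 → G := fun a b c => if c = 0 then 1 else R a b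
  have hR2 : ∀ a b, R a b * R a b = 1 := by
    intro a b
    fin_cases a <;> fin_cases b <;>
      simp [R, rootTable, zz, AA, BB, PP, QQ, XX, YY, nn, mm, vv, uu, tt]
  have two : ∀ c : ZMod 2, c = 0 ∨ c = 1 := by decide
  have hadd : ∀ a b : Fin 4, a ≠ b → ∀ c d : ZMod 2, y a b c * y a b d = y a b (c + d) := by
    intro a b _ c d
    rcases two c with rfl | rfl <;> rcases two d with rfl | rfl <;> simp [y, hR2]
    exact fun h => absurd (by decide) h
  have hcomm : ∀ a b c d : Fin 4, a ≠ b → c ≠ d → a ≠ d → b ≠ c → ∀ e f : ZMod 2,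
      Commute (y a b e) (y c d f) := by
    intro a b c d hab hcd had hbc e f
    rcases two e with rfl | rfl
    · simp [y]
    rcases two f with rfl | rfl
    · simp [y]
    simp only [y, one_ne_zero, if_false]
    fin_cases a <;> fin_cases b <;> (first | exact absurd rfl hab | skip) <;>
      fin_cases c <;> (first | exact absurd rfl hbc | skip) <;>
      fin_cases d <;> (first | exact absurd rfl hcd | exact absurd rfl had | skip) <;>
      simp only [R, rootTable] <;>
      (first | exact Commute.refl _ | assumption | (apply Commute.symm; assumption))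
  have hstep : ∀ a b c : Fin 4, a ≠ b → b ≠ c → a ≠ c → ∀ e f : ZMod 2,
      y a b e * y b c f = y a c (e * f) * y b c f * y a b e := by
    intro a b c hab hbc hac e f
    rcases two e with rfl | rfl
    · simp [y]
    rcases two f with rfl | rfl
    · simp [y]
    simp only [y, mul_one, one_ne_zero, if_false]
    suffices hstp : Stp (R a b) (R b c) (R a c) by
      have hh : R a b * R b c * R a b * R b c = R a c := hstp
      rw [← hh]
      simp only [mul_assoc, ← mul_assoc (R b c) (R b c), hR2, one_mul,
        ← mul_assoc (R a b) (R a b), mul_one]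
    fin_cases a <;> fin_cases b <;> (first | exact absurd rfl hab | skip) <;>
      fin_cases c <;> (first | exact absurd rfl hbc | exact absurd rfl hac | skip) <;>
      simp only [R, rootTable] <;> assumption
  obtain ⟨φ, hφ⟩ := PlusPres.exists_elHom (F := ZMod 2) (N := 4) (by norm_num) y hadd hcomm hstep
  refine ⟨φ, ?_⟩
  have hy : ∀ a b, a ≠ b → R a b ∈ φ.range := fun a b hab => by
    have e := hφ a b hab 1
    simp only [y, one_ne_zero, if_false] at e
    exact e ▸ ⟨_, rfl⟩
  have mA : A ∈ φ.range := hy 0 1 (by decide)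
  have mB : B ∈ φ.range := hy 0 2 (by decide)
  have mz : z ∈ φ.range := hy 0 3 (by decide)
  have mX : X ∈ φ.range := hy 1 2 (by decide)
  have mP : P ∈ φ.range := hy 1 3 (by decide)
  have mY : Y ∈ φ.range := hy 2 1 (by decide)
  have mQ : Q ∈ φ.range := hy 2 3 (by decide)
  have mb : ∀ (a : Bool) (x : G), x ∈ φ.range → (bif a then x else 1) ∈ φ.range := fun a x hx => by
    cases a
    · exact one_mem _
    · exact hx
  rintro _ ⟨w, rfl⟩
  obtain ⟨a, b, c, d, e, sx, hsx, rfl⟩ := gen_table w
  simp only [map_mul, hom_bif]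
  refine mul_mem (mul_mem (mul_mem (mul_mem (mul_mem (mb a _ mz) (mb b _ mB)) (mb c _ mP))
    (mb d _ mA)) (mb e _ mQ)) ?_
  simp only [List.mem_cons, List.not_mem_nil, or_false] at hsx
  rcases hsx with rfl | rfl | rfl | rfl | rfl | rfl
  · rw [map_one]; exact one_mem _
  · exact mX
  · exact mY
  · rw [map_mul]; exact mul_mem mX mY
  · rw [map_mul]; exact mul_mem mY mX
  · rw [map_mul, map_mul]; exact mul_mem (mul_mem mX mY) mX

theorem class_facts : (∃ g : CA, g * ad * g⁻¹ = p13) ∧ (∃ g : CA, g * ac * g⁻¹ = p24) ∧
    ∃ g : CA, g * au * g⁻¹ = p23 * az := by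
  decide +kernel

/-- The subgroup isomorphic to the alternating group of degree eight. -/
theorem exists_alt_eight [Finite G] (D : AltCent G)
    (hC : Nat.card (Subgroup.normalizer ((eC.map D.hom : Subgroup G) : Set G)) = 1344)
    (hD : Nat.card (Subgroup.normalizer ((eD.map D.hom : Subgroup G) : Set G)) = 1344)
    (hac : IsConj (D.hom az) (D.hom ac)) (had : IsConj (D.hom az) (D.hom ad))
    (hau : ¬ IsConj (D.hom az) (D.hom au)) :
    ∃ G0 : Subgroup G, D.hom.range ≤ G0 ∧ Nonempty (G0 ≃* alternatingGroup (Fin 8)) := by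
  obtain ⟨⟨g1, hg1⟩, ⟨g2, hg2⟩, ⟨g3, hg3⟩⟩ := class_facts
  have h13 : IsConj (D.hom az) (D.hom p13) :=
    had.trans (D.hom.map_isConj (isConj_iff.mpr ⟨g1, hg1⟩))
  have h24 : IsConj (D.hom az) (D.hom p24) :=
    hac.trans (D.hom.map_isConj (isConj_iff.mpr ⟨g2, hg2⟩))
  have h23 : ¬ IsConj (D.hom az) (D.hom (p23 * az)) := fun h =>
    hau (h.trans (D.hom.map_isConj (isConj_iff.mpr ⟨g3, hg3⟩)).symm)
  obtain ⟨n0, a1, a2, a3⟩ :=
    exists_transvection D lab_col (Or.inl ⟨rfl, rfl⟩) eC (fun _ => Iff.rfl) hC
  obtain ⟨n, hn⟩ := exists_side D lab_col a1 a2 a3 h13 h23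
  obtain ⟨m0, b1, b2, b3⟩ :=
    exists_transvection D lab_row (Or.inr ⟨rfl, rfl⟩) eD (fun _ => Iff.rfl) hD
  obtain ⟨m, hm⟩ := exists_side D lab_row b1 b2 b3 h24 h23
  obtain ⟨m', hm', hK⟩ := exists_commuting D hn hm
  obtain ⟨φ, hle⟩ := exists_sl_hom D hn hm' hK
  refine ⟨φ.range, hle, ?_⟩
  haveI := Linear.SL4Two.isSimpleGroup_SL4Two
  have hker : φ.ker = ⊥ := by
    refine ((MonoidHom.normal_ker φ).eq_bot_or_eq_top).resolve_right fun ht => ?_
    obtain ⟨x, hx⟩ := hle ⟨az, rfl⟩
    have h1 : φ x = 1 := MonoidHom.mem_ker.mp (ht ▸ Subgroup.mem_top x)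
    rw [h1] at hx
    exact absurd (D.inj (hx.symm.trans (map_one D.hom).symm)) (by decide +kernel)
  obtain ⟨e⟩ := Linear.SL4Two.equiv_A8
  exact ⟨(MonoidHom.ofInjective ((MonoidHom.ker_eq_bot_iff φ).mp hker)).symm.trans e⟩

end CfsgLib.AltEightRecog
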