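import Mathlib

/-!
# Counting lemma for the self-centralising fours-squared subgroup

`A` is elementary abelian of order `16` and self-centralising, `s ∈ A`, the stabiliser of `s` in
`N(A)` has order `64`, induces a four group on `A` fixing only `1, s`, and `N(A)` controls the
fusion of `s` in `A`.  If the number `c` of conjugates of `s` in `A` is odd and at most `15`,
then `c ∈ {1, 3, 9}` and `|N(A)| = 64 c`.
-/

set_option autoImplicit false

namespace CfsgLib.AltEightRecog.Count

variable {X : Type*} [Group X] [Finite X]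

/-- The fixed points of an automorphism, as a subgroup. -/
def fixSub (α : MulAut X) : Subgroup X :=
  MonoidHom.eqLocus α.toMonoidHom (MonoidHom.id X)

omit [Finite X] in
theorem mem_fixSub {α : MulAut X} {x : X} : x ∈ fixSub α ↔ α x = x := Iff.rfl

theorem fix_modEq {p : ℕ} [Fact p.Prime] (α : MulAut X) (hα : α ^ p = 1) (W : Subgroup X)
    (hW : ∀ w ∈ W, α w ∈ W) :
    Nat.card W ≡ Nat.card {w : W // α w.1 = w.1} [MOD p] := by
  classical
  let f : Function.End W := fun w => ⟨α w.1, hW w.1 w.2⟩
  have hpow : ∀ (k : ℕ) (w : W), ((f ^ k) w).1 = (α ^ k) w.1 := by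
    intro k
    induction k with
    | zero => intro w; rfl
    | succ k ih =>
      intro w
      rw [pow_succ' f, pow_succ' α]
      show α ((f ^ k) w).1 = α ((α ^ k) w.1)
      rw [ih w]
  have hf : f ^ p ^ 1 = 1 := by
    funext w
    apply Subtype.ext
    rw [pow_one, hpow, hα]
    rfl
  have := Fintype.ofFinite W
  have key := Equiv.Perm.card_fixedPoints_modEq (α := W) (f := f) hf
  rw [← Nat.card_eq_fintype_card, ← Nat.card_eq_fintype_card] at key
  have e : Nat.card (Function.fixedPoints f) = Nat.card {w : W // α w.1 = w.1} := by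
    refine Nat.card_congr (Equiv.subtypeEquivRight fun w => ?_)
    constructor
    · intro h; exact congrArg Subtype.val h
    · intro h; exact Subtype.ext h
  rw [e] at key
  exact key

theorem dvd16 {n : ℕ} (h : n ∣ 16) : n = 1 ∨ n = 2 ∨ n = 4 ∨ n = 8 ∨ n = 16 := by
  have h1 : n ≤ 16 := Nat.le_of_dvd (by norm_num) h
  interval_cases n <;> simp_all

theorem no_prime_dvd (hX : Nat.card X = 16) (hsq : ∀ x : X, x * x = 1) (R : Subgroup (MulAut X))
    (s : X) (hs : s ≠ 1) (V : Subgroup R) (hV4 : Nat.card V = 4) (hVsq : ∀ v ∈ V, v * v = 1)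
    (hVstab : ∀ r : R, r.1 s = s ↔ r ∈ V)
    (hVfix : ∀ x : X, (∀ v ∈ V, (v : R).1 x = x) → x = 1 ∨ x = s)
    {c : ℕ} (hR : Nat.card R = 4 * c) (hodd : Odd c) (hle : c ≤ 15)
    {p : ℕ} [hp : Fact p.Prime] (hp5 : 5 ≤ p) (hpc : p ∣ c) : False := by
  classical
  have hcomm : ∀ x y : X, x * y = y * x := fun x y => by
    have hi : ∀ z : X, z⁻¹ = z := fun z => inv_eq_of_mul_eq_one_right (hsq z)
    have := hi (x * y)
    rw [mul_inv_rev, hi, hi] at this
    exact this.symm
  have hc0 : 0 < c := hodd.pos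
  have : Fact (Nat.Prime 2) := ⟨Nat.prime_two⟩
  have hVi : V.index = c := by
    have := V.card_mul_index
    rw [hV4, hR] at this
    omega
  have hV2 : IsPGroup 2 V := IsPGroup.of_card (n := 2) (by rw [hV4]; norm_num)
  have hnd : ¬ 2 ∣ V.index := by rw [hVi]; exact hodd.not_two_dvd_nat
  have hN : Subgroup.normalizer ((hV2.toSylow hnd : Sylow 2 R) : Set R) ≤
      Subgroup.centralizer ((hV2.toSylow hnd : Sylow 2 R) : Set R) := by
    intro r hr
    rw [Subgroup.mem_centralizer_iff]
    have hfix : r.1 s = 1 ∨ r.1 s = s := by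
      refine hVfix _ fun v hv => ?_
      have hm : r⁻¹ * v * r ∈ V := (Subgroup.mem_normalizer_iff''.1 hr v).1 hv
      have h2 : r.1⁻¹ (v.1 (r.1 s)) = s := ((hVstab _).2 hm)
      have h3 := congrArg r.1 h2
      rwa [MulAut.apply_inv_self] at h3
    have hrV : r ∈ V := by
      rcases hfix with h | h
      · exact absurd ((map_eq_one_iff r.1 r.1.injective).1 h) hs
      · exact (hVstab r).1 h
    intro v hv
    have hi : ∀ z ∈ V, z⁻¹ = z := fun z hz => inv_eq_of_mul_eq_one_right (hVsq z hz)
    have := hi _ (V.mul_mem hv hrV)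
    rw [mul_inv_rev, hi r hrV, hi v hv] at this
    exact this.symm
  set P : Sylow 2 R := hV2.toSylow hnd with hP
  have hcompl := MonoidHom.ker_transferSylow_isComplement' P hN
  set K := (MonoidHom.transferSylow P hN).ker
  have hK : Nat.card K = c := by
    have h := hcompl.card_mul_card
    have hPc : Nat.card (P : Subgroup R) = 4 := hV4
    rw [hPc, hR] at h
    omega
  obtain ⟨⟨α, hαK⟩, hαo⟩ := exists_prime_orderOf_dvd_card' (G := K) p (hK ▸ hpc)
  rw [Subgroup.orderOf_mk] at hαo
  have hα1 : α ≠ 1 := by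
    intro h; rw [h, orderOf_one] at hαo; omega
  -- uniqueness of the subgroup of order `p` in `K`
  have huniq : ∀ y ∈ K, orderOf y = p → y ∈ Subgroup.zpowers α := by
    intro y hyK hyo
    by_contra hy
    have hdis : Disjoint (Subgroup.zpowers α) (Subgroup.zpowers y) := by
      rw [Subgroup.disjoint_def]
      intro z hzα hzy
      by_contra hz1
      have hz : orderOf z = p := by
        have := orderOf_dvd_of_mem_zpowers hzy
        rw [hyo] at this
        exact ((Nat.dvd_prime hp.out).1 this).resolve_left fun h => hz1 (orderOf_eq_one_iff.1 h)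
      have e : Subgroup.zpowers z = Subgroup.zpowers y :=
        Subgroup.eq_of_le_of_card_ge (Subgroup.zpowers_le.2 hzy)
          (by rw [Nat.card_zpowers, Nat.card_zpowers, hz, hyo])
      exact hy (Subgroup.zpowers_le.2 hzα (e ▸ Subgroup.mem_zpowers y))
    have hinj := Subgroup.mul_injective_of_disjoint hdis
    let g : Subgroup.zpowers α × Subgroup.zpowers y → K := fun q =>
      ⟨q.1.1 * q.2.1, K.mul_mem (Subgroup.zpowers_le.2 hαK q.1.2) (Subgroup.zpowers_le.2 hyK q.2.2)⟩
    have hg : Function.Injective g := fun a b h => hinj (congrArg Subtype.val h)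
    have hle2 := Nat.card_le_card_of_injective g hg
    rw [Nat.card_prod, Nat.card_zpowers, Nat.card_zpowers, hαo, hyo, hK] at hle2
    nlinarith
  have hdich : ∀ v ∈ V, v * α * v⁻¹ = α⁻¹ ∨ v * α = α * v := by
    intro v hv
    have hvi : v⁻¹ = v := inv_eq_of_mul_eq_one_right (hVsq v hv)
    have hxK : v * α * v⁻¹ ∈ K := (MonoidHom.normal_ker _).conj_mem α hαK v
    have hxo : orderOf (v * α * v⁻¹) = p := by
      rw [← MulAut.conj_apply, ← hαo]
      exact orderOf_injective (MulAut.conj v).toMonoidHom (MulAut.conj v).injective α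
    have hxm := huniq _ hxK hxo
    have hcx : α * (v * α * v⁻¹) = v * α * v⁻¹ * α := by
      obtain ⟨k, hk⟩ := hxm
      rw [← hk]
      exact (Commute.self_zpow α k)
    by_cases hz : α * (v * α * v⁻¹) = 1
    · exact Or.inl (inv_eq_of_mul_eq_one_right hz).symm
    · right
      have hzm : α * (v * α * v⁻¹) ∈ Subgroup.zpowers α :=
        Subgroup.mul_mem _ (Subgroup.mem_zpowers α) hxm
      have hvz : Commute v (α * (v * α * v⁻¹)) := by
        show v * (α * (v * α * v⁻¹)) = α * (v * α * v⁻¹) * v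
        calc v * (α * (v * α * v⁻¹)) = v * α * v⁻¹ * (v * v * α * v⁻¹) := by group
          _ = v * α * v⁻¹ * α * v := by rw [hVsq v hv, one_mul, hvi]; group
          _ = α * (v * α * v⁻¹) * v := by rw [hcx]
      have hzo : orderOf (α * (v * α * v⁻¹)) = p := by
        have := orderOf_dvd_of_mem_zpowers hzm
        rw [hαo] at this
        exact ((Nat.dvd_prime hp.out).1 this).resolve_left fun h => hz (orderOf_eq_one_iff.1 h)
      have e : Subgroup.zpowers (α * (v * α * v⁻¹)) = Subgroup.zpowers α :=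
        Subgroup.eq_of_le_of_card_ge (Subgroup.zpowers_le.2 hzm)
          (by rw [Nat.card_zpowers, Nat.card_zpowers, hzo, hαo])
      obtain ⟨k, hk⟩ := (e.symm ▸ Subgroup.mem_zpowers α :
        α ∈ Subgroup.zpowers (α * (v * α * v⁻¹)))
      have h' : Commute v ((α * (v * α * v⁻¹)) ^ k) := hvz.zpow_right k
      rw [show (α * (v * α * v⁻¹)) ^ k = α from hk] at h'
      exact h'
  have hbeta : ∃ β ∈ V, β ≠ 1 ∧ β * α = α * β := by
    obtain ⟨v, hv, hv1⟩ : ∃ v ∈ V, v ≠ 1 := by
      by_contra h
      push Not at h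
      have : V = ⊥ := (Subgroup.eq_bot_iff_forall V).2 h
      rw [this, Subgroup.card_bot] at hV4
      omega
    obtain ⟨w, hw, hw1, hwv⟩ : ∃ w ∈ V, w ≠ 1 ∧ w ≠ v := by
      by_contra h
      push Not at h
      have hinj : Function.Injective fun x : V => decide (x.1 = 1) := by
        intro a b hab
        apply Subtype.ext
        simp only [decide_eq_decide] at hab
        by_cases ha : a.1 = 1
        · rw [ha, hab.1 ha]
        · rw [h a.1 a.2 ha, h b.1 b.2 (fun hb => ha (hab.2 hb))]
      have := Nat.card_le_card_of_injective _ hinj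
      rw [hV4, Nat.card_eq_fintype_card, Fintype.card_bool] at this
      omega
    rcases hdich v hv with h1 | h1
    · rcases hdich w hw with h2 | h2
      · refine ⟨v * w, V.mul_mem hv hw, fun h => hwv ?_, ?_⟩
        · rw [← inv_eq_of_mul_eq_one_right h]
          exact inv_eq_of_mul_eq_one_right (hVsq v hv)
        · have h3 : v * w * α * (v * w)⁻¹ = α := by
            calc v * w * α * (v * w)⁻¹ = v * (w * α * w⁻¹) * v⁻¹ := by group
              _ = (v * α * v⁻¹)⁻¹ := by rw [h2]; group
              _ = α := by rw [h1, inv_inv]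
          exact mul_inv_eq_iff_eq_mul.1 h3
      · exact ⟨w, hw, hw1, h2⟩
    · exact ⟨v, hv, hv1, h1⟩
  obtain ⟨β, hβV, hβ1, hβα⟩ := hbeta
  set W : Subgroup X := fixSub β.1 with hWdef
  set F : Subgroup X := fixSub α.1 with hFdef
  have hαp : α.1 ^ p = 1 := by
    rw [← SubmonoidClass.coe_pow, ← hαo, pow_orderOf_eq_one]; rfl
  have hcm : ∀ x : X, β.1 (α.1 x) = α.1 (β.1 x) := fun x => by
    have := congrArg (fun r : R => r.1 x) hβα
    exact this
  -- `F` has order `1` or `2`
  have hF16 : Nat.card F ∣ 16 := hX ▸ F.card_subgroup_dvd_card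
  have hFne : Nat.card F ≠ 16 := by
    intro h
    have hT : F = ⊤ := F.eq_top_of_card_eq (h.trans hX.symm)
    apply hα1
    apply Subtype.ext
    ext x
    exact mem_fixSub.1 (show x ∈ F by rw [hT]; exact Subgroup.mem_top x)
  have hF := fix_modEq α.1 hαp (⊤ : Subgroup X) (fun _ _ => Subgroup.mem_top _)
  rw [Subgroup.card_top, hX] at hF
  have eF : Nat.card {w : (⊤ : Subgroup X) // α.1 w.1 = w.1} = Nat.card F :=
    Nat.card_congr
      { toFun := fun w => ⟨w.1.1, w.2⟩
        invFun := fun w => ⟨⟨w.1, Subgroup.mem_top _⟩, w.2⟩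
        left_inv := fun _ => rfl
        right_inv := fun _ => rfl }
  rw [eF] at hF
  have hple : p ≤ 15 := (Nat.le_of_dvd hc0 hpc).trans hle
  have hprime := hp.out
  have hFle : Nat.card F ≤ 2 := by
    rcases dvd16 hF16 with h | h | h | h | h <;> rw [h] at hF ⊢ <;> try omega
    all_goals (interval_cases p <;> first | omega | (unfold Nat.ModEq at hF; omega) | exact absurd hprime (by norm_num))
  have hFW : F ≤ W := by
    intro x hx
    show β.1 x = x
    have hy : β.1 x ∈ F := by
      show α.1 (β.1 x) = β.1 x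
      rw [← hcm, mem_fixSub.1 hx]
    by_cases hx1 : x = 1
    · rw [hx1, map_one]
    · by_contra hne
      have hy1 : β.1 x ≠ 1 := fun h => hx1 ((map_eq_one_iff β.1 β.1.injective).1 h)
      let g : Fin 3 → F := ![1, ⟨x, hx⟩, ⟨β.1 x, hy⟩]
      have hg : Function.Injective g := by
        intro i j hij
        have := congrArg Subtype.val hij
        fin_cases i <;> fin_cases j <;> simp [g] at this ⊢ <;>
          first
            | exact hx1 this | exact hx1 this.symm | exact hy1 this | exact hy1 this.symm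
            | exact hne this | exact hne this.symm
      have := Nat.card_le_card_of_injective g hg
      rw [Nat.card_eq_fintype_card, Fintype.card_fin] at this
      omega
  -- `W` has order `4` or `8`
  have hW16 : Nat.card W ∣ 16 := hX ▸ W.card_subgroup_dvd_card
  have hWne : Nat.card W ≠ 16 := by
    intro h
    have hT : W = ⊤ := W.eq_top_of_card_eq (h.trans hX.symm)
    apply hβ1
    apply Subtype.ext
    ext x
    exact mem_fixSub.1 (show x ∈ W by rw [hT]; exact Subgroup.mem_top x)
  have hWge : 4 ≤ Nat.card W := by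
    let ψ : X →* X :=
      { toFun := fun a => a * β.1 a
        map_one' := by simp
        map_mul' := fun a b => by
          simp only [map_mul]
          rw [mul_assoc, ← mul_assoc b, hcomm b (β.1 a)]
          simp only [mul_assoc] }
    have hββ : ∀ a, β.1 (β.1 a) = a := fun a => by
      exact congrArg (fun r : R => r.1 a) (hVsq β hβV)
    have hrange : ψ.range ≤ W := by
      rintro x ⟨a, rfl⟩
      show β.1 (a * β.1 a) = a * β.1 a
      rw [map_mul, hββ, hcomm]
    have hker : ψ.ker = W := by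
      ext a
      show a * β.1 a = 1 ↔ β.1 a = a
      constructor
      · intro h; rw [← inv_eq_of_mul_eq_one_right h, inv_eq_of_mul_eq_one_right (hsq a)]
      · intro h; rw [h, hsq]
    have h1 := ψ.ker.card_mul_index
    rw [Subgroup.index_ker, hker, hX] at h1
    have h2 : Nat.card ψ.range ≤ Nat.card W :=
      Nat.le_of_dvd Nat.card_pos (Subgroup.card_dvd_of_le hrange)
    nlinarith
  have hWc := fix_modEq α.1 hαp W (fun w hw => by
    show β.1 (α.1 w) = α.1 w
    rw [hcm, mem_fixSub.1 hw])
  have eW : Nat.card {w : W // α.1 w.1 = w.1} = Nat.card F :=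
    Nat.card_congr
      { toFun := fun w => ⟨w.1.1, w.2⟩
        invFun := fun w => ⟨⟨w.1, hFW w.2⟩, w.2⟩
        left_inv := fun _ => rfl
        right_inv := fun _ => rfl }
  rw [eW] at hWc
  have key : 16 ≡ Nat.card W [MOD p] := hF.trans hWc.symm
  rcases dvd16 hW16 with h | h | h | h | h <;> rw [h] at key hWge hWne <;> try omega
  all_goals (interval_cases p <;> first | (unfold Nat.ModEq at key; omega) | exact absurd hprime (by norm_num))

end CfsgLib.AltEightRecog.Count

namespace CfsgLib.AltEightRecog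

open Count in
/-- The counting lemma. -/
theorem count_cases {G : Type*} [Group G] [Finite G] (A : Subgroup G) (hA : Nat.card A = 16)
    (hsq : ∀ a ∈ A, a * a = 1) (hself : Subgroup.centralizer (A : Set G) = A) (s : G)
    (hsA : s ∈ A) (hs1 : s ≠ 1)
    (hstab : Nat.card ↥(Subgroup.normalizer (A : Set G) ⊓ Subgroup.centralizer {s}) = 64)
    (hsqS : ∀ x ∈ Subgroup.normalizer (A : Set G) ⊓ Subgroup.centralizer {s}, x * x ∈ A)
    (hfix : ∀ a ∈ A,
      (∀ x ∈ Subgroup.normalizer (A : Set G) ⊓ Subgroup.centralizer {s}, x * a = a * x) →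
        a = 1 ∨ a = s)
    (htrans : ∀ a ∈ A, IsConj s a → ∃ n ∈ Subgroup.normalizer (A : Set G), n * s * n⁻¹ = a)
    (hodd : Odd (Nat.card {a : G // a ∈ A ∧ IsConj s a}))
    (hle : Nat.card {a : G // a ∈ A ∧ IsConj s a} ≤ 15) :
    (Nat.card {a : G // a ∈ A ∧ IsConj s a} = 1 ∨ Nat.card {a : G // a ∈ A ∧ IsConj s a} = 3 ∨
        Nat.card {a : G // a ∈ A ∧ IsConj s a} = 9) ∧
      Nat.card ↥(Subgroup.normalizer (A : Set G)) =
        64 * Nat.card {a : G // a ∈ A ∧ IsConj s a} := by
  classical
  set c := Nat.card {a : G // a ∈ A ∧ IsConj s a} with hc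
  set N : Subgroup G := Subgroup.normalizer (A : Set G) with hNdef
  let φ : N →* MulAut A := A.normalizerMonoidHom
  have hφ : ∀ (n : N) (a : A), ((φ n a : A) : G) = n.1 * a.1 * (n.1)⁻¹ := fun n a => by
    exact rfl
  let s' : A := ⟨s, hsA⟩
  let St : Subgroup N := (Subgroup.centralizer ({s} : Set G)).subgroupOf N
  have hSt : ∀ n : N, n ∈ St ↔ φ n s' = s' := fun n => by
    rw [Subgroup.mem_subgroupOf, Subgroup.mem_centralizer_singleton_iff]
    constructor
    · intro h; apply Subtype.ext; rw [hφ]; show n.1 * s * n.1⁻¹ = s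
      rw [h, mul_inv_cancel_right]
    · intro h; have := congrArg Subtype.val h; rw [hφ] at this
      exact mul_inv_eq_iff_eq_mul.1 this
  have hStc : Nat.card St = 64 := by
    rw [← hstab]
    exact Nat.card_congr
      { toFun := fun x => ⟨x.1.1, x.1.2, x.2⟩
        invFun := fun x => ⟨⟨x.1, x.2.1⟩, x.2.2⟩
        left_inv := fun _ => rfl
        right_inv := fun _ => rfl }
  have hidx : St.index = c := by
    rw [hc, Subgroup.index_eq_card]
    refine Nat.card_congr (Equiv.ofBijective
      (Quotient.lift (fun n : N => (⟨n.1 * s * n.1⁻¹,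
          (Subgroup.mem_normalizer_iff.1 n.2 s).1 hsA, isConj_iff.2 ⟨n.1, rfl⟩⟩ :
          {a : G // a ∈ A ∧ IsConj s a})) ?_) ⟨?_, ?_⟩)
    · intro a b hab
      have hab' := QuotientGroup.leftRel_apply.1 hab
      rw [Subgroup.mem_subgroupOf, Subgroup.mem_centralizer_singleton_iff] at hab'
      apply Subtype.ext
      show a.1 * s * a.1⁻¹ = b.1 * s * b.1⁻¹
      push_cast at hab'
      calc a.1 * s * a.1⁻¹ = a.1 * (s * (a.1⁻¹ * b.1)) * b.1⁻¹ := by group
        _ = a.1 * ((a.1⁻¹ * b.1) * s) * b.1⁻¹ := by rw [hab']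
        _ = b.1 * s * b.1⁻¹ := by group
    · intro x y hxy
      induction x using Quotient.inductionOn with
      | _ a =>
        induction y using Quotient.inductionOn with
        | _ b =>
          apply Quotient.sound
          refine QuotientGroup.leftRel_apply.2 ?_
          rw [Subgroup.mem_subgroupOf, Subgroup.mem_centralizer_singleton_iff]
          have h : a.1 * s * a.1⁻¹ = b.1 * s * b.1⁻¹ := congrArg Subtype.val hxy
          push_cast
          calc a.1⁻¹ * b.1 * s = a.1⁻¹ * (b.1 * s * b.1⁻¹) * b.1 := by group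
            _ = a.1⁻¹ * (a.1 * s * a.1⁻¹) * b.1 := by rw [h]
            _ = s * (a.1⁻¹ * b.1) := by group
    · rintro ⟨a, haA, hac⟩
      obtain ⟨n, hn, rfl⟩ := htrans a haA hac
      exact ⟨Quotient.mk _ ⟨n, hn⟩, rfl⟩
  have hNc : Nat.card N = 64 * c := by
    rw [← St.card_mul_index, hStc, hidx]
  refine ⟨?_, hNc⟩
  have hAN : A ≤ N := Subgroup.le_normalizer
  have hker : φ.ker = A.subgroupOf N := by
    show A.normalizerMonoidHom.ker = _
    rw [Subgroup.normalizerMonoidHom_ker, hself]
  have hkc : Nat.card φ.ker = 16 := by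
    rw [hker, Nat.card_congr (Subgroup.subgroupOfEquivOfLe hAN).toEquiv, hA]
  have hR : Nat.card φ.range = 4 * c := by
    have h := φ.ker.card_mul_index
    rw [Subgroup.index_ker, hkc, hNc] at h
    omega
  let ψ : St →* φ.range := φ.rangeRestrict.comp St.subtype
  have hψker : ψ.ker = φ.ker.subgroupOf St := by
    ext x
    rw [MonoidHom.mem_ker, Subgroup.mem_subgroupOf, MonoidHom.mem_ker]
    exact ⟨fun h => congrArg Subtype.val h, fun h => Subtype.ext h⟩
  have hkSt : φ.ker ≤ St := fun n hn => (hSt n).2 (by rw [MonoidHom.mem_ker.1 hn]; rfl)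
  have hV4 : Nat.card ψ.range = 4 := by
    have h := ψ.ker.card_mul_index
    rw [Subgroup.index_ker, hψker, Nat.card_congr (Subgroup.subgroupOfEquivOfLe hkSt).toEquiv,
      hkc, hStc] at h
    omega
  by_contra hbad
  push Not at hbad
  obtain ⟨h1, h3, h9⟩ := hbad
  obtain ⟨p, hp, hp5, hpc⟩ : ∃ p : ℕ, p.Prime ∧ 5 ≤ p ∧ p ∣ c := by
    obtain ⟨k, hk⟩ := hodd
    have : k ≤ 7 := by omega
    interval_cases k
    · omega
    · omega
    · exact ⟨5, by norm_num, le_rfl, by omega⟩
    · exact ⟨7, by norm_num, by norm_num, by omega⟩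
    · omega
    · exact ⟨11, by norm_num, by norm_num, by omega⟩
    · exact ⟨13, by norm_num, by norm_num, by omega⟩
    · exact ⟨5, by norm_num, le_rfl, by omega⟩
  haveI : Fact p.Prime := ⟨hp⟩
  refine no_prime_dvd hA (fun x => Subtype.ext (hsq x.1 x.2)) φ.range s'
    (fun h => hs1 (congrArg Subtype.val h)) ψ.range hV4 ?_ ?_ ?_ hR hodd hle hp5 hpc
  · rintro v ⟨m, rfl⟩
    rw [← map_mul]
    show ψ (m * m) = 1
    rw [← MonoidHom.mem_ker, hψker, Subgroup.mem_subgroupOf, hker, Subgroup.mem_subgroupOf]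
    exact hsqS m.1.1 ⟨m.1.2, m.2⟩
  · rintro ⟨r, n, rfl⟩
    constructor
    · intro h
      exact ⟨⟨n, (hSt n).2 h⟩, rfl⟩
    · rintro ⟨m, hm⟩
      have e : φ m.1 = φ n := congrArg Subtype.val hm
      show φ n s' = s'
      rw [← e]
      exact (hSt m.1).1 m.2
  · intro x hx
    rcases hfix x.1 x.2 (fun y hy => by
      have h := hx (ψ ⟨⟨y, hy.1⟩, hy.2⟩) ⟨_, rfl⟩
      have h' : ((φ ⟨y, hy.1⟩ x : A) : G) = x.1 := congrArg Subtype.val h
      rw [hφ] at h'
      exact mul_inv_eq_iff_eq_mul.1 h') with h | h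
    · exact Or.inl (Subtype.ext h)
    · exact Or.inr (Subtype.ext h)

end CfsgLib.AltEightRecog
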