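import Cfsg.Agent.Lib.AltEightRecog.Facts
import Cfsg.Agent.Lib.AltEightRecog.Count

/-!
The possible fusion patterns of the involution classes of the centraliser.
-/

set_option autoImplicit false
set_option maxRecDepth 100000

namespace CfsgLib.AltEightRecog

variable {G : Type*} [Group G]

/-- The class with label `k` is fused to the central involution. -/
def PatK (D : AltCent G) (k : ℕ) : Prop := IsConj (D.hom az) (D.hom (crep k))

/-- The elementary abelian subgroup of order `16` of the model. -/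
def inASub : Subgroup CA where
  carrier := {x | inA x = true}
  one_mem' := by show inA 1 = true; decide +kernel
  mul_mem' := fun {x y} hx hy => inA_mul x y hx hy
  inv_mem' := fun {x} hx => by
    show inA x⁻¹ = true
    rw [inv_eq_of_mul_eq_one_right (inA_facts.1 x hx)]
    exact hx

theorem mem_inASub {x : CA} : x ∈ inASub ↔ inA x = true := Iff.rfl

theorem inASub_card : Nat.card inASub = 16 := by
  rw [Nat.subtype_card (Finset.univ.filter fun x : CA => inA x)
    (fun x => by simp [mem_inASub])]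
  exact inA_facts.2.2.2.2.2.2

theorem conj_iff_lab (D : AltCent G) (x : CA) (h : lab x ≠ 0) :
    IsConj (D.hom az) (D.hom x) ↔ PatK D (lab x) := by
  have hc : IsConj (D.hom (crep (lab x))) (D.hom x) := by
    rw [isConj_iff]
    exact ⟨D.hom (cjr x), by rw [← map_inv, ← map_mul, ← map_mul, conj_crep x h]⟩
  exact ⟨fun h1 => h1.trans hc.symm, fun h1 => h1.trans hc⟩

theorem outer_lab : ∀ x : CA, inCore x = false → x * x = 1 → 5 ≤ lab x := by decide +kernel

/-- A commutative subgroup of order `16` and exponent `2` of the model is conjugate to `inA`. -/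
theorem conj_to_inA (B : Subgroup CA) (hB : Nat.card B = 16) (hsq : ∀ x ∈ B, x * x = 1)
    (hcomm : ∀ x ∈ B, ∀ y ∈ B, x * y = y * x) :
    ∃ l : CA, ∀ x : CA, x ∈ B ↔ inA (l⁻¹ * x * l) = true := by
  classical
  let FB : Finset CA := Finset.univ.filter fun x => x ∈ B
  have hFB : FB.card = 16 := by
    rw [← hB, Nat.subtype_card FB (fun x => by simp [FB])]
  have hout : ∃ x ∈ B, inCore x = false := by
    by_contra hn
    push Not at hn
    simp only [Bool.not_eq_false] at hn
    obtain ⟨b, hb, hb'⟩ := Finset.exists_mem_notMem_of_card_lt_card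
      (show ({1, az} : Finset CA).card < FB.card by
        rw [hFB]; exact lt_of_le_of_lt Finset.card_le_two (by norm_num))
    obtain ⟨c, hc, hc'⟩ := Finset.exists_mem_notMem_of_card_lt_card
      (show ({1, az, b, b * az} : Finset CA).card < FB.card by
        rw [hFB]; exact lt_of_le_of_lt Finset.card_le_four (by norm_num))
    have hbB : b ∈ B := (Finset.mem_filter.1 hb).2
    have hcB : c ∈ B := (Finset.mem_filter.1 hc).2
    simp only [Finset.mem_insert, Finset.mem_singleton, not_or] at hb' hc'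
    have hle := core_comm b c (by
      simp only [List.all_cons, List.all_nil, Bool.and_true, Bool.and_eq_true, bne_iff_ne,
        beq_iff_eq, hn b hbB, hn c hcB, hcomm b hbB c hcB, true_and]
      exact ⟨⟨fun h => hc'.1 h.symm, fun h => hc'.2.1 h.symm, fun h => hc'.2.2.1 h.symm,
        fun h => hc'.2.2.2 h.symm⟩, fun h => hb'.1 h.symm, fun h => hb'.2 h.symm⟩)
    have hsub : FB ⊆ Finset.univ.filter fun x : CA => inCore x && (x * b == b * x) && (x * c == c * x) := by
      intro x hx
      have hxB : x ∈ B := (Finset.mem_filter.1 hx).2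
      simp [hn x hxB, hcomm x hxB b hbB, hcomm x hxB c hcB]
    have := Finset.card_le_card hsub
    omega
  obtain ⟨x, hx, hxc⟩ := hout
  have h5 := outer_lab x hxc (hsq x hx)
  refine ⟨cjr x, ?_⟩
  let m : CA → CA := fun y => (cjr x)⁻¹ * y * cjr x
  have hm : Function.Injective m := fun a b h => by simpa [m] using h
  have hmem : ∀ y ∈ B, inA (m y) = true := fun y hy => (outer_cent x h5 y).1 (hcomm y hy x hx)
  have heq : FB.image m = Finset.univ.filter fun y : CA => inA y := by
    apply Finset.eq_of_subset_of_card_le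
    · intro y hy
      obtain ⟨w, hw, rfl⟩ := Finset.mem_image.1 hy
      simp [hmem w (Finset.mem_filter.1 hw).2]
    · rw [Finset.card_image_of_injective _ hm, hFB, inA_facts.2.2.2.2.2.2]
  intro y
  refine ⟨hmem y, fun h => ?_⟩
  have : m y ∈ FB.image m := by rw [heq]; simp [m, h]
  obtain ⟨w, hw, hwy⟩ := Finset.mem_image.1 this
  exact hm hwy ▸ (Finset.mem_filter.1 hw).2

variable (D : AltCent G)

theorem exists_hom_of_commute {g : G} (h : g * D.hom az = D.hom az * g) : ∃ x, D.hom x = g := by
  have : g ∈ D.hom.range := by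
    rw [D.range_eq, Subgroup.mem_centralizer_singleton_iff]; exact h
  exact this

theorem inA_map_card : Nat.card ↥(inASub.map D.hom) = 16 := by
  rw [← inASub_card]
  exact Nat.card_congr (Subgroup.equivMapOfInjective inASub D.hom D.inj).toEquiv.symm

theorem inA_map_self :
    Subgroup.centralizer ((inASub.map D.hom : Subgroup G) : Set G) = inASub.map D.hom := by
  apply le_antisymm
  · intro g hg
    rw [Subgroup.mem_centralizer_iff] at hg
    obtain ⟨x, rfl⟩ := exists_hom_of_commute D (hg _ ⟨az, inA_facts.2.1, rfl⟩).symm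
    refine ⟨x, inA_facts.2.2.2.2.2.1 x fun y hy => D.inj ?_, rfl⟩
    rw [map_mul, map_mul]
    exact (hg _ ⟨y, hy, rfl⟩).symm
  · rintro g ⟨x, hx, rfl⟩
    rw [Subgroup.mem_centralizer_iff]
    rintro h ⟨y, hy, rfl⟩
    rw [← map_mul, ← map_mul, inA_facts.2.2.2.2.1 y x hy hx]

theorem inA_stab_iff (g : G) :
    g ∈ Subgroup.normalizer ((inASub.map D.hom : Subgroup G) : Set G) ⊓
        Subgroup.centralizer {D.hom az} ↔
      ∃ x : CA, (∀ y : CA, inA y = true → inA (x * y * x⁻¹) = true) ∧ D.hom x = g := by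
  rw [Subgroup.mem_inf, Subgroup.mem_centralizer_singleton_iff, Subgroup.mem_normalizer_iff]
  constructor
  · rintro ⟨hn, hc⟩
    obtain ⟨x, rfl⟩ := exists_hom_of_commute D hc
    refine ⟨x, fun y hy => ?_, rfl⟩
    obtain ⟨w, hw, hwe⟩ := (hn (D.hom y)).1 ⟨y, hy, rfl⟩
    rw [← map_inv, ← map_mul, ← map_mul] at hwe
    exact D.inj hwe ▸ hw
  · rintro ⟨x, hx, rfl⟩
    refine ⟨fun h => ⟨?_, ?_⟩, ?_⟩
    · rintro ⟨y, hy, rfl⟩
      exact ⟨_, hx y hy, by simp⟩
    · rintro ⟨w, hw, hwe⟩
      have hinj : Set.InjOn (fun y : CA => x * y * x⁻¹) {y | inA y = true} :=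
        fun a _ b _ h => by simpa using h
      have hsurj := Finset.surj_on_of_inj_on_of_card_le (s := Finset.univ.filter fun y : CA => inA y)
        (t := Finset.univ.filter fun y : CA => inA y) (fun y _ => x * y * x⁻¹)
        (fun y hy => by simpa using hx y (Finset.mem_filter.1 hy).2)
        (fun a b ha hb h => by simpa using h) le_rfl w (Finset.mem_filter.2 ⟨Finset.mem_univ _, hw⟩)
      obtain ⟨y, hy, rfl⟩ := hsurj
      refine ⟨y, (Finset.mem_filter.1 hy).2, ?_⟩
      simpa using hwe
    · have : D.hom x ∈ D.hom.range := ⟨x, rfl⟩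
      rw [D.range_eq, Subgroup.mem_centralizer_singleton_iff] at this
      exact this

theorem inA_stab_card :
    Nat.card ↥(Subgroup.normalizer ((inASub.map D.hom : Subgroup G) : Set G) ⊓
      Subgroup.centralizer {D.hom az}) = 64 := by
  rw [← stab_facts.1, Nat.subtype_card ((Finset.univ.filter fun x : CA =>
    ∀ y : CA, inA y = true → inA (x * y * x⁻¹) = true).map ⟨D.hom, D.inj⟩)
    (fun g => by
      rw [inA_stab_iff, Finset.mem_map]
      simp only [Finset.mem_filter, Finset.mem_univ, true_and, Function.Embedding.coeFn_mk])]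
  rw [Finset.card_map]

theorem inA_htrans : ∀ a ∈ inASub.map D.hom, IsConj (D.hom az) a →
    ∃ n ∈ Subgroup.normalizer ((inASub.map D.hom : Subgroup G) : Set G),
      n * D.hom az * n⁻¹ = a := by
  intro a ha hconj
  obtain ⟨g, hg⟩ := isConj_iff.1 hconj
  let B : Subgroup CA := ((inASub.map D.hom).map (MulAut.conj g⁻¹).toMonoidHom).comap D.hom
  have hle : (inASub.map D.hom).map (MulAut.conj g⁻¹).toMonoidHom ≤ D.hom.range := by
    rintro _ ⟨b, hb, rfl⟩
    rw [D.range_eq, Subgroup.mem_centralizer_singleton_iff]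
    have hba : b * a = a * b := by
      obtain ⟨x, hx, rfl⟩ := hb
      obtain ⟨y, hy, rfl⟩ := ha
      rw [← map_mul, ← map_mul, inA_facts.2.2.2.2.1 x y hx hy]
    show g⁻¹ * b * g⁻¹⁻¹ * D.hom az = D.hom az * (g⁻¹ * b * g⁻¹⁻¹)
    have e : D.hom az = g⁻¹ * a * g := by rw [← hg]; group
    rw [e]
    calc g⁻¹ * b * g⁻¹⁻¹ * (g⁻¹ * a * g) = g⁻¹ * (b * a) * g := by group
      _ = g⁻¹ * (a * b) * g := by rw [hba]
      _ = g⁻¹ * a * g * (g⁻¹ * b * g⁻¹⁻¹) := by group
  have hBmap : B.map D.hom = (inASub.map D.hom).map (MulAut.conj g⁻¹).toMonoidHom :=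
    Subgroup.map_comap_eq_self hle
  have hB : Nat.card B = 16 := by
    rw [Nat.card_congr (Subgroup.equivMapOfInjective B D.hom D.inj).toEquiv, hBmap,
      ← Nat.card_congr (Subgroup.equivMapOfInjective _ _ (MulAut.conj g⁻¹).injective).toEquiv,
      inA_map_card]
  have hsq : ∀ x ∈ B, x * x = 1 := by
    intro x hx
    obtain ⟨_, ⟨w, hw, rfl⟩, e⟩ := hx
    apply D.inj
    rw [map_mul, ← e, ← map_mul, ← map_mul, inA_facts.1 w hw, map_one, map_one]
  have hcomm : ∀ x ∈ B, ∀ y ∈ B, x * y = y * x := by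
    intro x hx y hy
    obtain ⟨_, ⟨w, hw, rfl⟩, e⟩ := hx
    obtain ⟨_, ⟨v, hv, rfl⟩, e'⟩ := hy
    apply D.inj
    rw [map_mul, map_mul, ← e, ← e', ← map_mul, ← map_mul, ← map_mul, ← map_mul,
      inA_facts.2.2.2.2.1 w v hw hv]
  obtain ⟨l, hl⟩ := conj_to_inA B hB hsq hcomm
  refine ⟨g * D.hom l, ?_, ?_⟩
  · rw [Subgroup.mem_normalizer_iff]
    intro h
    constructor
    · rintro ⟨w, hw, rfl⟩
      have : l * w * l⁻¹ ∈ B := (hl _).2 (by
        rw [show l⁻¹ * (l * w * l⁻¹) * l = w by group]; exact hw)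
      obtain ⟨b, hb, e⟩ := this
      have e' : g⁻¹ * b * g⁻¹⁻¹ = D.hom (l * w * l⁻¹) := e
      rw [show g * D.hom l * D.hom w * (g * D.hom l)⁻¹ = b by
        rw [map_mul, map_mul, map_inv] at e'
        calc g * D.hom l * D.hom w * (g * D.hom l)⁻¹
            = g * (D.hom l * D.hom w * (D.hom l)⁻¹) * g⁻¹ := by group
          _ = g * (g⁻¹ * b * g⁻¹⁻¹) * g⁻¹ := by rw [e']
          _ = b := by group]
      exact hb
    · intro hh
      have hmem : g⁻¹ * (g * D.hom l * h * (g * D.hom l)⁻¹) * g⁻¹⁻¹ ∈ B.map D.hom := by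
        rw [hBmap]; exact ⟨_, hh, rfl⟩
      obtain ⟨x, hx, e⟩ := hmem
      refine ⟨l⁻¹ * x * l, (hl x).1 hx, ?_⟩
      rw [map_mul, map_mul, map_inv, e]
      group
  · have hc : D.hom l * D.hom az = D.hom az * D.hom l := by
      have : D.hom l ∈ D.hom.range := ⟨l, rfl⟩
      rw [D.range_eq, Subgroup.mem_centralizer_singleton_iff] at this
      exact this
    calc g * D.hom l * D.hom az * (g * D.hom l)⁻¹
        = g * (D.hom l * D.hom az) * (D.hom l)⁻¹ * g⁻¹ := by group
      _ = g * (D.hom az * D.hom l) * (D.hom l)⁻¹ * g⁻¹ := by rw [hc]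
      _ = g * D.hom az * g⁻¹ := by group
      _ = a := hg

open scoped Classical in
/-- The possible fusion patterns: one of the core classes, or two of them and one outer class. -/
theorem pattern [Finite G] (hne : ∃ k ∈ [2, 3, 4], PatK D k) :
    ((decide (PatK D 2)).toNat + (decide (PatK D 3)).toNat + (decide (PatK D 4)).toNat = 1 ∧
        ¬ PatK D 5 ∧ ¬ PatK D 6) ∨
      ((decide (PatK D 2)).toNat + (decide (PatK D 3)).toNat + (decide (PatK D 4)).toNat = 2 ∧
        (decide (PatK D 5)).toNat + (decide (PatK D 6)).toNat = 1 ∧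
        Nat.card ↥(Subgroup.normalizer ((inASub.map D.hom : Subgroup G) : Set G)) = 576 ∧
        ∀ a ∈ inASub.map D.hom, IsConj (D.hom az) a →
          ∃ n ∈ Subgroup.normalizer ((inASub.map D.hom : Subgroup G) : Set G),
            n * D.hom az * n⁻¹ = a) := by
  have hc : Nat.card {a : G // a ∈ inASub.map D.hom ∧ IsConj (D.hom az) a} =
      1 + 2 * ((decide (PatK D 2)).toNat + (decide (PatK D 3)).toNat + (decide (PatK D 4)).toNat) +
        4 * ((decide (PatK D 5)).toNat + (decide (PatK D 6)).toNat) := by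
    rw [← inA_count, Nat.subtype_card ((Finset.univ.filter fun x : CA => inA x &&
      [false, true, decide (PatK D 2), decide (PatK D 3), decide (PatK D 4), decide (PatK D 5),
        decide (PatK D 6)].getD (lab x) false).map ⟨D.hom, D.inj⟩) ?_, Finset.card_map]
    intro g
    rw [Finset.mem_map]
    simp only [Finset.mem_filter, Finset.mem_univ, true_and, Function.Embedding.coeFn_mk,
      Bool.and_eq_true]
    have key : ∀ x : CA, inA x = true →
        ([false, true, decide (PatK D 2), decide (PatK D 3), decide (PatK D 4), decide (PatK D 5),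
          decide (PatK D 6)].getD (lab x) false = true ↔ IsConj (D.hom az) (D.hom x)) := by
      intro x hx
      by_cases h0 : lab x = 0
      · rw [h0]
        simp only [List.getD_cons_zero, Bool.false_eq_true, false_iff]
        intro hconj
        have h1 := inA_facts.1 x hx
        have hx1 : x = 1 := by
          by_contra hx1
          exact (lab_eq_zero_iff x).1 h0 ⟨h1, hx1⟩
        rw [hx1, map_one, isConj_iff] at hconj
        obtain ⟨c, hc⟩ := hconj
        have haz : D.hom az = 1 := by
          rw [mul_inv_eq_one] at hc; exact mul_left_cancel (hc.trans (mul_one c).symm)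
        rw [← map_one D.hom] at haz
        exact absurd (D.inj haz) (by decide +kernel)
      · rw [conj_iff_lab D x h0]
        have h6 := lab_le x
        have h1 : PatK D 1 := IsConj.refl _
        interval_cases h : lab x <;> simp_all
    constructor
    · rintro ⟨x, ⟨hx, hb⟩, rfl⟩
      exact ⟨⟨x, hx, rfl⟩, (key x hx).1 hb⟩
    · rintro ⟨⟨x, hx, rfl⟩, hconj⟩
      exact ⟨x, ⟨hx, (key x hx).2 hconj⟩, rfl⟩
  have hb2 := Bool.toNat_le (decide (PatK D 2))
  have hb3 := Bool.toNat_le (decide (PatK D 3))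
  have hb4 := Bool.toNat_le (decide (PatK D 4))
  have hb5 := Bool.toNat_le (decide (PatK D 5))
  have hb6 := Bool.toNat_le (decide (PatK D 6))
  obtain ⟨hcases, hN⟩ := count_cases (inASub.map D.hom) (inA_map_card D)
    (by rintro _ ⟨x, hx, rfl⟩; rw [← map_mul, inA_facts.1 x hx, map_one])
    (inA_map_self D) (D.hom az) ⟨az, inA_facts.2.1, rfl⟩
    (fun h => absurd (D.inj (h.trans D.hom.map_one.symm)) (by decide +kernel))
    (inA_stab_card D)
    (by
      intro g hg
      obtain ⟨x, hx, rfl⟩ := (inA_stab_iff D g).1 hg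
      exact ⟨x * x, stab_facts.2.1 x hx, map_mul _ _ _⟩)
    (by
      rintro _ ⟨y, hy, rfl⟩ h
      rcases stab_facts.2.2 y hy (fun x hx => D.inj (by
        rw [map_mul, map_mul]; exact h _ ((inA_stab_iff D _).2 ⟨x, hx, rfl⟩))) with e | e
      · exact Or.inl (by rw [e, map_one])
      · exact Or.inr (by rw [e]))
    (inA_htrans D) (by rw [hc]; exact ⟨(decide (PatK D 2)).toNat + (decide (PatK D 3)).toNat + (decide (PatK D 4)).toNat +
      2 * ((decide (PatK D 5)).toNat + (decide (PatK D 6)).toNat), by ring⟩)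
    (by rw [hc]; omega)
  rw [hc] at hcases hN
  have h234 : 1 ≤ (decide (PatK D 2)).toNat + (decide (PatK D 3)).toNat + (decide (PatK D 4)).toNat := by
    obtain ⟨k, hk, hp⟩ := hne
    simp only [List.mem_cons, List.not_mem_nil, or_false] at hk
    rcases hk with rfl | rfl | rfl <;> simp [hp] <;> omega
  rcases hcases with h | h | h
  · omega
  · left
    refine ⟨by omega, fun hp => ?_, fun hp => ?_⟩
    · have : (decide (PatK D 5)).toNat = 1 := by simp [hp]
      omega
    · have : (decide (PatK D 6)).toNat = 1 := by simp [hp]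
      omega
  · right
    refine ⟨by omega, by omega, ?_, inA_htrans D⟩
    rw [hN, h]

end CfsgLib.AltEightRecog
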