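import Cfsg.Agent.Lib.AltEightRecog.Standard
import Cfsg.Agent.Lib.AltEightRecog.Pattern
import Mathlib.GroupTheory.SpecificGroups.Alternating

/-!
# The setting for the recognition of A9: the centraliser of an involution of the second class
-/

set_option autoImplicit false
set_option maxRecDepth 100000

namespace CfsgLib.AltEightRecog

/-- The involution of the second class whose centraliser is studied. -/
def nr : CA := ⟨4, 0⟩

/-- Its partner in the normal four-group of its centraliser. -/
def nv : CA := au

/-- The central involution times `nr`. -/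
def ny : CA := ⟨3, 0⟩

theorem nine_facts : lab nr = 4 ∧ lab nv = 6 ∧ lab (nr * nv) = 6 ∧ lab ny = 4 ∧ nr * ny = az ∧
    nr * nv = nv * nr ∧ inA nr = true ∧ inA nv = true ∧ inA ny = true ∧
    (Finset.univ.filter fun x : CA => x * nr = nr * x).card = 32 ∧
    (∀ x : CA, x * nr = nr * x → x * nv * x⁻¹ = nv ∨ x * nv * x⁻¹ = nr * nv) := by decide +kernel

variable {G : Type*} [Group G]

/-- The hypotheses for the recognition of A9. -/
structure NineSetting (D : AltCent G) (G0 : Subgroup G) : Prop where
  std : Standard D
  le : D.hom.range ≤ G0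
  alt : Nonempty (G0 ≃* alternatingGroup (Fin 8))
  card_A : Nat.card (Subgroup.normalizer ((inASub.map D.hom : Subgroup G) : Set G)) = 576
  trans_A : ∀ a ∈ inASub.map D.hom, IsConj (D.hom az) a →
    ∃ n ∈ Subgroup.normalizer ((inASub.map D.hom : Subgroup G) : Set G), n * D.hom az * n⁻¹ = a
  simple : IsSimpleGroup G
  nonabelian : ¬ IsMulCommutative G

/-- The centraliser of `nr`. -/
def centR (D : AltCent G) : Subgroup G := Subgroup.centralizer ({D.hom nr} : Set G)

/-- The four-group of `nr` and `nv`. -/
def fourV (D : AltCent G) : Subgroup G := Subgroup.closure ({D.hom nr, D.hom nv} : Set G)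

/-- The conclusion about `centR` when it is larger than in A8. -/
structure NineCent (D : AltCent G) : Prop where
  card : Nat.card (centR D) = 480
  normal : ∀ g ∈ centR D, ∀ v ∈ fourV D, g * v * g⁻¹ ∈ fourV D
  card_V : Nat.card (fourV D) = 4
  perfect_quot : ∀ g : G, g ∈ centR D → g * D.hom nv = D.hom nv * g →
    ∃ v ∈ fourV D, ∃ c ∈ ⁅centR D ⊓ Subgroup.centralizer ({D.hom nv} : Set G),
      centR D ⊓ Subgroup.centralizer ({D.hom nv} : Set G)⁆, v * c = g

/-- The pairs of a conjugate of `az` and a conjugate of `nr` whose product has `v` among its powers. -/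
def PairSet (D : AltCent G) (v : G) : Type _ :=
  {p : G × G // IsConj (D.hom az) p.1 ∧ IsConj (D.hom nr) p.2 ∧ v ∈ Subgroup.zpowers (p.1 * p.2)}

end CfsgLib.AltEightRecog
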