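import Cfsg.Agent.Lib.AltEightRecog.Model

/-!
Facts about the model of the centraliser in A8, checked by enumeration. The tables are generated.
-/

set_option autoImplicit false
set_option maxRecDepth 100000

namespace CfsgLib.AltEightRecog

/-- The classes of the involutions. -/
def labTab : ℕ := 0x205000020500000025500551305000000000000000000604000000030600000000500004000000000000000035000064000000000000000036000054000000030500000000600004306000000000000000000504206000020600000026600660

/-- Conjugating elements. -/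
def conjTab : ℕ := 0x340038000000001a002200000000000018281a0000341800070008000000000000000000000000000000000000340007000000000000000100220000000000000000020000000001000000000000000000000000000000000c1000000000180c0000000000000000000000000000000003280000000000030000000000000006000a00000000000000001a00000000060000380000000000000000000000000000000000000400000400080000000002000a0000000000000010020000040000

/-- A Sylow 2-subgroup. -/
def sylTab : ℕ := 0xc300c3c300c3c300c3c300c3c300c3c300c3c300c3c300c3

/-- Six automorphisms. -/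
def autTab : ℕ → ℕ
  | 0 => 0x403d3e3c3f416a676866696ba4a2a6a3a7a5a9acabadaaa8787a7d7b7c797577737672749b999698979a110f0c0e0d108f8d8a8c8b8e626064616563242629272825aeb0b3b1b2af373a393b38366d706f716e6c1b1d191c181a1613141215177f828183807e555857595654939591949092bebbbcbabdbf4745424443464a484c494d4b9c9ea19fa09d06080b090a073032353334315d5f5b5e5a5c23211e201f22b9b7b4b6b5b8888586848789524f504e51532c2a2e2b2f2d010403050200
  | 1 => 0x408905ac6b522ea7ab025168a32a853c674e2da43f8601a830790eb75c75961fb40d725b20997a335f769a23347d11b8377eba136c55911814bd566f1c95823b7059921b3881be17478eb1084b6229a00bb2654c9f268d444861259c438aae078f4609b0634aa128b30a4d64279e458c60499d248b4206af7f3612bb546d1990bc156e57941d3a8358711a93803916bf7831b60f745d1e970cb55a739821327b775e229b7c35b9108841ad04536aa62f03aa69502ba23d844f66a52c873ea900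
  | 2 => 0x100a3e4468760d075749817b3c42594cbfaa6673837dbda8788dadb3a3967a8f1c29120cabb11927373da698140e3a405f4aa29cacb95d4813061d23a49e1608706aa9b71b216d671f2569633f312228808e565c6b657e8b90a54134545a92a7979d514b87799aa038466e74534d3643182d897c6c721a2f77622a2404117560bbae959b2c26beb05852010f9399554f3045050b2b1e324794a1bab40309919f7f852e20bcb68288b8b2868c505eb5af6f613933848a716417024e5b3b351500
  | 3 => 0x1071354c83b25ebf7b023968738ab53c074e1544578661a830190e9fbc8d967fb43d122b20b17a0347a63a0b94ad2988977e5a436c25311874a556877c652253a041924b38698e2f5fbe99081b621170235295acb72675a44801559c132aae67771621b0934ab9589b6a1d040f9e5d2c60a96d24bba2064f1f36728b549d79905c2d6e3f344d9a6b28891a63805146a77891b62714451e370c85baa3980932ab8f2e82b31c05a140b8597d643b0a761733aa81505b420d84af66bd8c6f3e4900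
  | 4 => 0x10113e3f24251617a4a58a8b38399a9bafae1a1b7c7da9a88889b6b76c6d8e8f5c5d1213b0b152533736626304053130a0a16e6fb4b5a6a714155a5b68690a0b1f1eaaab4c4d1918585926273c3d5e5f8c8da2a320218283676632339495616070719e9f8485767744452a2b98993a3b4f4e7a7b1c1d4948282956570c0d2e2fbcbd72735051b2b3979602036465919040410e0f545546477475babb08096a6b7f7e4a4bacad7978b8b986879c9dbebf2c2d4243808122230706929334350100
  | _ => 0x107186573cb55ebf44158a736839b283074e027b4c3561a888290e9fb43da647bc8d122b20b13a0b7f967a0394ad1930a04156876c258e2f74a55a4338692253977e924b7c65311858b99e0f246d16772c5da2bbb0216a9b4f064a93041da960701126b79c55be5fa4752a130899522367ae621bac95014828896e3f549d46a75c2d728b80519a6b1f361a63344d799040a1b6270c852e8f1445baa3980982b3371e32ab1c059178b8593e6f840d76178cbd425b50810a3baf66aa33647d4900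

/-- The element with given index. -/
def nthA (i : ℕ) : CA := ⟨⟨(i / 24) % 8, Nat.mod_lt _ (by norm_num)⟩, ⟨i % 24, Nat.mod_lt _ (by norm_num)⟩⟩

/-- The index of an element. -/
def idxA (x : CA) : ℕ := 24 * (x.b : ℕ) + (x.p : ℕ)

/-- The class of an involution (1: central; 2, 3, 4: in the core; 5, 6: outside), `0` for other elements. -/
def lab (x : CA) : ℕ := (labTab >>> (4 * idxA x)) &&& 15

/-- An involution outside the core commuting with `au`. -/
def ak' : CA := ⟨3, 1⟩

/-- The representatives of the classes. -/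
def crep : ℕ → CA
  | 1 => az
  | 2 => ac
  | 3 => ad
  | 4 => ar
  | 5 => ak'
  | _ => au

/-- An element conjugating the representative to the given involution. -/
def cjr (x : CA) : CA := nthA ((conjTab >>> (8 * idxA x)) &&& 255)

/-- Membership in the Sylow subgroup. -/
def inS (x : CA) : Bool := (sylTab >>> idxA x) &&& 1 == 1

/-- The maps of the automorphisms. -/
def autF (k : ℕ) (x : CA) : CA := nthA ((autTab k >>> (8 * idxA x)) &&& 255)

theorem lab_eq_zero_iff : ∀ x : CA, lab x = 0 ↔ ¬ (x * x = 1 ∧ x ≠ 1) := by decide +kernel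
theorem lab_le : ∀ x : CA, lab x ≤ 6 := by decide +kernel
theorem lab_reps : lab az = 1 ∧ lab ac = 2 ∧ lab ad = 3 ∧ lab ar = 4 ∧ lab ak = 5 ∧ lab au = 6 := by decide +kernel
theorem lab_one_iff : ∀ x : CA, lab x = 1 ↔ x = az := by decide +kernel
theorem lab_core_iff : ∀ x : CA, inCore x = true → x * x = 1 → x ≠ 1 → lab x ≤ 4 := by decide +kernel
theorem conj_crep : ∀ x : CA, lab x ≠ 0 → cjr x * crep (lab x) * (cjr x)⁻¹ = x := by decide +kernel
theorem outer_three : ∀ x : CA, 5 ≤ lab x → ∃ l : CA, (x * (l * x * l⁻¹)) ^ 3 = 1 ∧ x * (l * x * l⁻¹) ≠ 1 := by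
  decide +kernel

theorem autF_mul_base : ∀ k : Fin 6, ∀ x : CA, ∀ b : Fin 8, autF k (x * ⟨b, 0⟩) = autF k x * autF k ⟨b, 0⟩ := by
  decide +kernel

theorem autF_mul_perm : ∀ k : Fin 6, ∀ x : CA, ∀ p : Fin 24, autF k (x * ⟨0, p⟩) = autF k x * autF k ⟨0, p⟩ := by
  decide +kernel

theorem CA.eq_base_mul_perm : ∀ y : CA, y = ⟨y.b, 0⟩ * ⟨0, y.p⟩ := by decide +kernel

theorem autF_mul (k : Fin 6) (x y : CA) : autF k (x * y) = autF k x * autF k y := by
  conv_lhs => rw [CA.eq_base_mul_perm y, ← mul_assoc, autF_mul_perm, autF_mul_base, mul_assoc, ← autF_mul_perm,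
    ← CA.eq_base_mul_perm y]

theorem autF_inj : ∀ k : Fin 6, ∀ x : CA, autF k x = 1 → x = 1 := by decide +kernel

theorem autF_az : ∀ k : Fin 6, autF k az = az := by decide +kernel

/-- The permutations of the classes induced by the automorphisms. -/
def labPerm : ℕ → List ℕ
  | 0 => [0, 1, 3, 4, 2, 5, 6]
  | 1 => [0, 1, 3, 4, 2, 6, 5]
  | 2 => [0, 1, 2, 4, 3, 5, 6]
  | 3 => [0, 1, 2, 4, 3, 6, 5]
  | 4 => [0, 1, 2, 3, 4, 5, 6]
  | _ => [0, 1, 2, 3, 4, 6, 5]

theorem autF_lab : ∀ k : Fin 6, ∀ x : CA, lab (autF k x) = (labPerm k).getD (lab x) 0 := by decide +kernel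

/-- Membership in the two normal subgroups of order 8 with regular involutions, and in the third one. -/
theorem lab_closed : ∀ x y : CA, lab x ≠ 0 → lab x ≤ 4 → lab y ≠ 0 → lab y ≤ 4 →
    ((lab x = 1 ∧ 2 ≤ lab y) ∨ (lab y = 1 ∧ 2 ≤ lab x) ∨ (2 ≤ lab x ∧ lab x = lab y)) →
    x = y ∨ lab (x * y) = 1 ∨ (lab (x * y) = lab y ∧ 2 ≤ lab y) ∨ (lab (x * y) = lab x ∧ 2 ≤ lab x) := by
  decide +kernel

theorem class_card : ∀ k : Fin 5, 2 ≤ (k : ℕ) → (Finset.univ.filter fun x : CA => x = 1 ∨ lab x = 1 ∨ lab x = k).card = 8 := by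
  decide +kernel

/-- Membership in the elementary abelian group of order 16. -/
def inA (x : CA) : Bool := x * au == au * x

theorem inA_mul : ∀ x y : CA, inA x = true → inA y = true → inA (x * y) = true := by decide +kernel

theorem inA_facts : (∀ x : CA, inA x = true → x * x = 1) ∧ inA az = true ∧ inA ac = true ∧ inA ak' = true ∧
    (∀ x y : CA, inA x = true → inA y = true → x * y = y * x) ∧
    (∀ x : CA, (∀ y : CA, inA y = true → x * y = y * x) → inA x = true) ∧
    (Finset.univ.filter fun x : CA => inA x).card = 16 := by decide +kernel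

/-- The number of conjugates of the centre in `inA`, by pattern. -/
theorem inA_count : ∀ b2 b3 b4 b5 b6 : Bool,
    (Finset.univ.filter fun x : CA => inA x && [false, true, b2, b3, b4, b5, b6].getD (lab x) false).card =
      1 + 2 * (b2.toNat + b3.toNat + b4.toNat) + 4 * (b5.toNat + b6.toNat) := by decide +kernel

/-- The normaliser of `inA` and its action. -/
theorem stab_facts : (Finset.univ.filter fun x : CA => ∀ y : CA, inA y = true → inA (x * y * x⁻¹) = true).card = 64 ∧
    (∀ x : CA, (∀ y : CA, inA y = true → inA (x * y * x⁻¹) = true) → inA (x * x) = true) ∧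
    (∀ y : CA, inA y = true → (∀ x : CA, (∀ w : CA, inA w = true → inA (x * w * x⁻¹) = true) → x * y = y * x) →
      y = 1 ∨ y = az) := by decide +kernel

/-- Outer involutions have centralisers conjugate to `inA`. -/
theorem outer_cent : ∀ x : CA, 5 ≤ lab x →
    ∀ y : CA, y * x = x * y ↔ inA ((cjr x)⁻¹ * y * cjr x) = true := by decide +kernel

/-- Abelian subgroups in the core have order at most 8. -/
theorem core_comm : ∀ b c : CA, (inCore b && inCore c && (b * c == c * b) &&
      ([1, az, b, b * az].all fun u => u != c) && ([1, az].all fun u => u != b)) = true →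
    (Finset.univ.filter fun x : CA => inCore x && (x * b == b * x) && (x * c == c * x)).card ≤ 8 := by decide +kernel

/-- Elementary subgroups of order 8 inside the conjugates of the centre. -/
theorem all_reg : ∀ x y : CA, (lab x = 2 ∨ lab x = 3 ∨ lab x = 5) → (lab y = 2 ∨ lab y = 3 ∨ lab y = 5) →
    x * y = y * x → (lab (x * y) = 2 ∨ lab (x * y) = 3 ∨ lab (x * y) = 5) →
    (lab (az * x) = 2 ∨ lab (az * x) = 3 ∨ lab (az * x) = 5) →
    (lab (az * y) = 2 ∨ lab (az * y) = 3 ∨ lab (az * y) = 5) →
    (lab (az * (x * y)) = 2 ∨ lab (az * (x * y)) = 3 ∨ lab (az * (x * y)) = 5) →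
    (lab x = 2 ∧ lab y = 2) ∨ (lab x = 3 ∧ lab y = 3) := by decide +kernel

theorem inS_facts : inS az = true ∧ (∀ x y : CA, inS x = true → inS y = true → inS (x * y) = true) ∧
    (Finset.univ.filter fun x : CA => inS x).card = 64 ∧
    (∀ m : CA, inS m = true → (∀ k : CA, inS k = true → m * k = k * m) → m = 1 ∨ m = az) := by decide +kernel

theorem comm_core : ∀ x : CA, x ≠ 1 → x ≠ az → (∃ y : CA, inCore y = true ∧
    inCore (x * y * x⁻¹ * y⁻¹) = true ∧ x * y * x⁻¹ * y⁻¹ ≠ 1) := by decide +kernel

theorem comm_center : ∀ x : CA, inCore x = true → x ≠ 1 → x ≠ az → ∃ y : CA, x * y * x⁻¹ * y⁻¹ = az := by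
  decide +kernel

theorem ac_flip : ∃ l : CA, l * ac * l⁻¹ = ac * az := by decide +kernel

/-- The conjugates of an outer involution, their products, and translates by the centre. -/
def outerSet (k : ℕ) : Finset CA :=
  let u := Finset.univ.filter fun x : CA => lab x == k
  let v := u ∪ (u ×ˢ u).image fun p => p.1 * p.2
  v ∪ v.image fun x => x * az

theorem outer_gen : 96 < (outerSet 5).card ∧ 96 < (outerSet 6).card := by decide +kernel

end CfsgLib.AltEightRecog
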