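import Cfsg.Agent.Lib.AltEightRecog.AffineCase
import Mathlib.GroupTheory.Sylow
import Cfsg.Agent.Lib.Solvable.CoprimeAction

/-!
# Consequences of the fusion of the central involution, for an embedded model of its centraliser
-/

set_option autoImplicit false
set_option linter.style.haveILetI false
set_option maxHeartbeats 800000

namespace CfsgLib.AltEightRecog

open scoped Classical

variable {G : Type*} [Group G] [Finite G] {M : Type*} [Group M] [Finite M] (hom : M →* G) {z : M}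

omit [Finite G] [Finite M] in
theorem isConj_conj_iff (a g x : G) : IsConj a (g * x * g⁻¹) ↔ IsConj a x :=
  ⟨fun h => h.trans (isConj_iff.2 ⟨g⁻¹, by group⟩), fun h => h.trans (isConj_iff.2 ⟨g, rfl⟩)⟩

omit [Finite G] [Finite M] in
theorem exists_of_comm (hrange : hom.range = Subgroup.centralizer ({hom z} : Set G)) {g : G}
    (h : g * hom z = hom z * g) : ∃ m, hom m = g :=
  (hrange.ge (Subgroup.mem_centralizer_singleton_iff.2 h) : g ∈ hom.range)

/-- When all conjugates of the centre in its centraliser form an elementary abelian group of order 8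
the group is affine. -/
theorem affine_of_local (hinj : Function.Injective hom)
    (hrange : hom.range = Subgroup.centralizer ({hom z} : Set G))
    (hM : Nat.card M = 192) (Em : Subgroup M) (hEm : Nat.card Em = 8) (hsq : ∀ e ∈ Em, e * e = 1)
    (hzE : z ∈ Em) (hz1 : z ≠ 1) (hnorm : Em.Normal) (hself : ∀ m, (∀ e ∈ Em, m * e = e * m) → m ∈ Em)
    (hout : ∃ m, m ∉ Em ∧ m * m = 1)
    (hK : ∀ m : M, IsConj (hom z) (hom m) ↔ m ∈ Em ∧ m ≠ 1) :
    ∃ (N : Subgroup G) (_ : N.Normal), IsMulCommutative N ∧ (∀ n ∈ N, n ^ 2 = 1) ∧ Nat.card N = 8 ∧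
      Nonempty (G ⧸ N ≃* Matrix.ProjectiveSpecialLinearGroup (Fin 3) (ZMod 2)) := by
  set s := hom z with hs
  set E := Em.map hom with hE
  set H := Subgroup.normalizer (E : Set G) with hH
  have hmemE : ∀ m, hom m ∈ E ↔ m ∈ Em := fun m => by
    rw [hE, Subgroup.mem_map]
    exact ⟨fun ⟨u, hu, h⟩ => hinj h ▸ hu, fun h => ⟨m, h, rfl⟩⟩
  have hsE : s ∈ E := (hmemE z).2 hzE
  have hs1 : s ≠ 1 := fun h => hz1 (hinj (h.trans (map_one hom).symm))
  have hEsq : ∀ e ∈ E, e * e = 1 := by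
    rintro _ ⟨u, hu, rfl⟩
    rw [← map_mul, hsq u hu, map_one]
  have hEcomm : ∀ e ∈ E, ∀ f ∈ E, e * f = f * e := fun e he f hf => by
    calc e * f = (e * f)⁻¹ := (inv_eq_of_mul_eq_one_right (hEsq _ (E.mul_mem he hf))).symm
      _ = f⁻¹ * e⁻¹ := mul_inv_rev e f
      _ = f * e := by rw [inv_eq_of_mul_eq_one_right (hEsq _ he), inv_eq_of_mul_eq_one_right (hEsq _ hf)]
  have hEK : ∀ e ∈ E, e ≠ 1 → IsConj s e := by
    rintro _ ⟨u, hu, rfl⟩ h1
    exact (hK u).2 ⟨hu, fun h => h1 (by rw [h, map_one])⟩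
  have hKE : ∀ x : G, x * s = s * x → IsConj s x → x ∈ E := fun x hx hc => by
    obtain ⟨m, rfl⟩ := exists_of_comm hom hrange hx
    exact (hmemE m).2 ((hK m).1 hc).1
  have hcard : Nat.card E = 8 := by rw [hE, Subgroup.card_map_of_injective hinj, hEm]
  have hLH : ∀ x : G, x * s = s * x → x ∈ H := fun x hx => by
    obtain ⟨m, rfl⟩ := exists_of_comm hom hrange hx
    rw [hH, Subgroup.mem_normalizer_iff]
    intro y
    constructor
    · rintro ⟨u, hu, rfl⟩
      exact ⟨m * u * m⁻¹, hnorm.conj_mem u hu m, by simp⟩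
    · rintro ⟨u, hu, he⟩
      exact ⟨m⁻¹ * u * m, by simpa using hnorm.conj_mem u hu m⁻¹, by
        rw [map_mul, map_mul, map_inv, he]; group⟩
  have htr : ∀ e ∈ E, e ≠ 1 → ∃ g ∈ H, g * s * g⁻¹ = e := by
    intro e he h1
    obtain ⟨g, hg⟩ := isConj_iff.1 (hEK e he h1)
    refine ⟨g, ?_, hg⟩
    have hmaps : ∀ f ∈ E, g⁻¹ * f * g ∈ E := by
      intro f hf
      by_cases hf1 : f = 1
      · simp [hf1]
      refine hKE _ ?_ ((hEK f hf hf1).trans (isConj_iff.2 ⟨g⁻¹, by simp⟩))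
      have := hEcomm f hf e he
      rw [← hg] at this
      calc g⁻¹ * f * g * s = g⁻¹ * (f * (g * s * g⁻¹)) * g := by group
        _ = g⁻¹ * ((g * s * g⁻¹) * f) * g := by rw [this]
        _ = _ := by group
    rw [hH, Subgroup.mem_normalizer_iff]
    intro f
    refine ⟨fun hf => ?_, fun hf => by simpa [mul_assoc] using hmaps _ hf⟩
    obtain ⟨⟨u, hu⟩, huf⟩ := Finite.surjective_of_injective
      (f := fun u : E => (⟨_, hmaps u u.2⟩ : E))
      (fun a b hab => Subtype.ext (mul_left_cancel (mul_right_cancel (congrArg Subtype.val hab)))) ⟨f, hf⟩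
    have : g⁻¹ * u * g = f := congrArg Subtype.val huf
    rw [← this, show g * (g⁻¹ * u * g) * g⁻¹ = u by group]
    exact hu
  have hN : Nat.card H = 1344 := by
    let S : Set G := {e | e ∈ E ∧ e ≠ 1}
    let f : H → S := fun g => ⟨(g : G) * s * (g : G)⁻¹,
      (Subgroup.mem_normalizer_iff.1 g.2 s).1 hsE, fun h => hs1 (conj_eq_one_iff.1 h)⟩
    have hfib : ∀ y : S, Nat.card {g : H // f g = y} = 192 := by
      rintro ⟨y, hy, hy1⟩
      obtain ⟨g₀, hg₀, hgy⟩ := htr y hy hy1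
      rw [← hM]
      refine (Nat.card_eq_of_bijective (fun m : M => (⟨⟨g₀ * hom m, H.mul_mem hg₀ (hLH _ (by
        exact Subgroup.mem_centralizer_singleton_iff.1 (hrange.le ⟨m, rfl⟩)))⟩, ?_⟩ : {g : H // f g = ⟨y, hy, hy1⟩}))
        ⟨fun a b h => hinj (mul_left_cancel (congrArg (fun t : {g : H // f g = ⟨y, hy, hy1⟩} => ((t.1 : H) : G)) h)),
          ?_⟩).symm
      · refine Subtype.ext ?_
        show g₀ * hom m * s * (g₀ * hom m)⁻¹ = y
        rw [← hgy, mul_assoc g₀, Subgroup.mem_centralizer_singleton_iff.1 (hrange.le ⟨m, rfl⟩)]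
        group
      · rintro ⟨⟨g, hg⟩, hgf⟩
        have hgs : g * s * g⁻¹ = y := congrArg Subtype.val hgf
        obtain ⟨m, hm⟩ := exists_of_comm hom hrange (g := g₀⁻¹ * g) (by
          refine mul_inv_eq_iff_eq_mul.1 ?_
          calc g₀⁻¹ * g * s * (g₀⁻¹ * g)⁻¹ = g₀⁻¹ * (g * s * g⁻¹) * g₀ := by group
            _ = g₀⁻¹ * (g₀ * s * g₀⁻¹) * g₀ := by rw [hgs, hgy]
            _ = s := by group)
        exact ⟨m, Subtype.ext (Subtype.ext (show g₀ * hom m = g by rw [hm, mul_inv_cancel_left]))⟩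
    have hS : Nat.card S = 7 := by
      have h1 : S = (E : Set G) \ {1} := by ext; simp [S]
      rw [Nat.card_coe_set_eq, h1, Set.ncard_sdiff_singleton_of_mem E.one_mem, ← Nat.card_coe_set_eq]
      show Nat.card E - 1 = 7
      omega
    letI : Fintype S := Fintype.ofFinite S
    rw [Nat.card_congr (Equiv.sigmaFiberEquiv f).symm, Nat.card_sigma]
    simp [hfib, ← Nat.card_eq_fintype_card, hS]
  obtain ⟨m₀, hm₀, hm₀2⟩ := hout
  refine AffineData.conclusion (E := E) ⟨hcard, hEsq, ?_, hN, ?_, ?_, ?_, ⟨hom m₀,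
    hLH _ (Subgroup.mem_centralizer_singleton_iff.1 (hrange.le ⟨m₀, rfl⟩)), mt (hmemE m₀).1 hm₀,
    by rw [← map_mul, hm₀2, map_one]⟩⟩
  · refine le_antisymm (fun x hx => ?_) (fun x hx => Subgroup.mem_centralizer_iff.2 fun f hf => hEcomm f hf x hx)
    obtain ⟨m, rfl⟩ := exists_of_comm hom hrange (Subgroup.mem_centralizer_iff.1 hx s hsE).symm
    exact (hmemE m).2 (hself m fun e he => hinj (by
      rw [map_mul, map_mul]; exact (Subgroup.mem_centralizer_iff.1 hx _ ((hmemE e).2 he)).symm))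
  · intro e he h1 x hx
    obtain ⟨g, hg, hge⟩ := htr e he h1
    have hx' : x * e = e * x := Subgroup.mem_centralizer_singleton_iff.1 hx
    have h2 : g⁻¹ * x * g ∈ H := hLH _ (by
      calc g⁻¹ * x * g * s = g⁻¹ * (x * (g * s * g⁻¹)) * g := by group
        _ = g⁻¹ * ((g * s * g⁻¹) * x) * g := by rw [hge, hx']
        _ = _ := by group)
    have h3 := H.mul_mem (H.mul_mem hg h2) (H.inv_mem hg)
    rwa [show g * (g⁻¹ * x * g) * g⁻¹ = x by group] at h3
  · intro e he f hf he1 hf1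
    obtain ⟨g, hg, hge⟩ := htr e he he1
    obtain ⟨k, hk, hkf⟩ := htr f hf hf1
    exact ⟨k * g⁻¹, H.mul_mem hk (H.inv_mem hg), by rw [← hge, ← hkf]; group⟩
  · intro x hx e he he1 hc
    have hsx : IsConj s x := (hEK e he he1).trans hc
    obtain ⟨g₁, hg₁⟩ := isConj_iff.1 hsx
    have hxx : x * x = 1 := by
      rw [← hg₁, show g₁ * s * g₁⁻¹ * (g₁ * s * g₁⁻¹) = g₁ * (s * s) * g₁⁻¹ by group, hEsq s hsE]
      group
    -- `x` fixes a nontrivial element of `E`
    obtain ⟨f, hf, hf1, hfx⟩ : ∃ f ∈ E, f ≠ 1 ∧ x * f = f * x := by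
      have hxs : x * s * x⁻¹ ∈ E := (Subgroup.mem_normalizer_iff.1 hx s).1 hsE
      by_cases h : s * (x * s * x⁻¹) = 1
      · refine ⟨s, hsE, hs1, mul_inv_eq_iff_eq_mul.1 ?_⟩
        rw [← inv_eq_of_mul_eq_one_right h, inv_eq_of_mul_eq_one_right (hEsq s hsE)]
      · refine ⟨_, E.mul_mem hsE hxs, h, ?_⟩
        have hxi : x⁻¹ = x := inv_eq_of_mul_eq_one_right hxx
        calc x * (s * (x * s * x⁻¹)) = (x * s * x⁻¹) * s * (s⁻¹ * (x * x) * s * x⁻¹) := by group
          _ = s * (x * s * x⁻¹) * (s⁻¹ * (x * x) * s * x⁻¹) := by rw [hEcomm _ hxs _ hsE]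
          _ = s * (x * s * x⁻¹) * x⁻¹ := by rw [hxx, mul_one, inv_mul_cancel, one_mul]
          _ = _ := by rw [hxi]
    obtain ⟨g, hg, hgf⟩ := htr f hf hf1
    have h1 : g⁻¹ * x * g ∈ E := hKE _ (by
      calc g⁻¹ * x * g * s = g⁻¹ * (x * (g * s * g⁻¹)) * g := by group
        _ = g⁻¹ * ((g * s * g⁻¹) * x) * g := by rw [hgf, hfx]
        _ = _ := by group) (hsx.trans (isConj_iff.2 ⟨g⁻¹, by simp⟩))
    have h2 := (Subgroup.mem_normalizer_iff.1 hg _).1 h1
    rwa [show g * (g⁻¹ * x * g) * g⁻¹ = x by group] at h2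

/-- The group is simple when the conjugates of the centre generate the centraliser. -/
theorem simple_of_local (hinj : Function.Injective hom)
    (hrange : hom.range = Subgroup.centralizer ({hom z} : Set G))
    (hz1 : z ≠ 1) (hz2 : z * z = 1)
    (Sm : Subgroup M) (hS : IsPGroup 2 Sm) (hSodd : ¬ 2 ∣ Sm.index)
    (hZ : ∀ m ∈ Sm, (∀ k ∈ Sm, m * k = k * m) → m = 1 ∨ m = z) (hzS : z ∈ Sm)
    (hnoodd : ∀ N : Subgroup M, N.Normal → N ≠ ⊥ → z ∈ N)
    (hfour : ∃ x l : M, x ≠ 1 ∧ x ≠ z ∧ x * z = z * x ∧ IsConj (hom z) (hom x) ∧ l * x * l⁻¹ = x * z)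
    (hgen : ∀ N : Subgroup M, N.Normal → (∀ m, IsConj (hom z) (hom m) → m ∈ N) → N = ⊤)
    (hne : ∃ g : G, g * hom z * g⁻¹ ≠ hom z) :
    IsSimpleGroup G ∧ ¬ IsMulCommutative G := by
  haveI : Fact (Nat.Prime 2) := ⟨Nat.prime_two⟩
  set s := hom z with hs
  have hs1 : s ≠ 1 := fun h => hz1 (hinj (h.trans (map_one hom).symm))
  have hcomm : ¬ IsMulCommutative G := fun h => by
    obtain ⟨g, hg⟩ := hne
    exact hg (by rw [h.is_comm.comm g s, mul_inv_cancel_right])
  haveI : Nontrivial G := ⟨s, 1, hs1⟩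
  set S := Sm.map hom with hSdef
  have hSp : IsPGroup 2 S := hS.map hom
  have hScent : Subgroup.centralizer (S : Set G) ≤ hom.range := fun x hx => hrange.ge
    (Subgroup.mem_centralizer_singleton_iff.2 (Subgroup.mem_centralizer_iff.1 hx s ⟨z, hzS, rfl⟩).symm)
  -- `S` is a Sylow subgroup
  obtain ⟨P, hP⟩ := hSp.exists_le_sylow
  have hPS : (P : Subgroup G) = S := by
    by_contra hne'
    obtain ⟨k, ⟨hkP, hkn⟩, hkS⟩ : ∃ k, (k ∈ (P : Subgroup G) ∧ k ∈ Subgroup.normalizer (S : Set G)) ∧ k ∉ S := by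
      haveI : Group.IsNilpotent P := P.isPGroup'.isNilpotent
      have h1 : S.subgroupOf P ≠ ⊤ := fun h => hne' (le_antisymm (Subgroup.subgroupOf_eq_top.1 h) hP)
      obtain ⟨⟨k, hk⟩, hkn, hkS⟩ := SetLike.exists_of_lt
        (Group.normalizerCondition_of_isNilpotent (S.subgroupOf P) (lt_top_iff_ne_top.2 h1))
      refine ⟨k, ⟨hk, Subgroup.mem_normalizer_iff.2 fun y => ⟨fun hy => ?_, fun hy => ?_⟩⟩, hkS⟩
      · exact (Subgroup.mem_normalizer_iff.1 hkn ⟨y, hP hy⟩).1 hy
      · have hyP : y ∈ (P : Subgroup G) := by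
          have := (P : Subgroup G).mul_mem ((P : Subgroup G).mul_mem ((P : Subgroup G).inv_mem hk) (hP hy)) hk
          rwa [show k⁻¹ * (k * y * k⁻¹) * k = y by group] at this
        exact (Subgroup.mem_normalizer_iff.1 hkn ⟨y, hyP⟩).2 hy
    -- `k` centralises `s`, the only involution of the centre of `S`
    have hks : k * s = s * k := by
      have h2 : k * s * k⁻¹ ∈ S := (Subgroup.mem_normalizer_iff.1 hkn s).1 ⟨z, hzS, rfl⟩
      obtain ⟨m, hm, hme⟩ := h2
      rcases hZ m hm (fun u hu => hinj (by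
        rw [map_mul, map_mul, hme]
        obtain ⟨v, hv, hve⟩ := (Subgroup.mem_normalizer_iff.1 (Subgroup.inv_mem _ hkn) (hom u)).1 ⟨u, hu, rfl⟩
        rw [inv_inv] at hve
        have hcz : s * hom v = hom v * s :=
          (Subgroup.mem_centralizer_singleton_iff.1 (hrange.le ⟨v, rfl⟩)).symm
        calc k * s * k⁻¹ * hom u = k * (s * (k⁻¹ * hom u * k)) * k⁻¹ := by group
          _ = k * (s * hom v) * k⁻¹ := by rw [hve]
          _ = k * (hom v * s) * k⁻¹ := by rw [hcz]
          _ = _ := by rw [hve]; group)) with rfl | rfl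
      · exact absurd (hme.symm.trans (map_one hom)) (fun h => hs1 (conj_eq_one_iff.1 h))
      · exact mul_inv_eq_iff_eq_mul.1 hme.symm
    obtain ⟨m, hm⟩ := exists_of_comm hom hrange hks
    -- a 2-group between `S` and its odd-index overgroup
    have hQ : IsPGroup 2 ((P : Subgroup G).comap hom) :=
      P.isPGroup'.comap_of_injective hom hinj
    have hle : Sm ≤ (P : Subgroup G).comap hom := fun u hu => hP ⟨u, hu, rfl⟩
    have hmem : m ∈ (P : Subgroup G).comap hom := by
      show hom m ∈ (P : Subgroup G)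
      rw [hm]; exact hkP
    obtain ⟨a, ha⟩ := IsPGroup.iff_card.1 hQ
    obtain ⟨b, hb⟩ := IsPGroup.iff_card.1 hS
    have hidx : (Sm.relIndex ((P : Subgroup G).comap hom)) = 1 := by
      have h4 : Sm.relIndex ((P : Subgroup G).comap hom) ∣ 2 ^ a := ha ▸ Subgroup.relIndex_dvd_card Sm _
      obtain ⟨c, -, hc⟩ := (Nat.dvd_prime_pow Nat.prime_two).1 h4
      rcases c with _ | c
      · exact hc
      · exact absurd ((Dvd.intro_left _ (pow_succ 2 c).symm).trans (hc ▸ Subgroup.relIndex_dvd_index_of_le hle)) hSodd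
    exact hkS ⟨m, Subgroup.relIndex_eq_one.1 hidx hmem, hm⟩
  -- normal subgroups
  have hmain : ∀ N : Subgroup G, N.Normal → N ≠ ⊥ → N = ⊤ := by
    intro N hN hN1
    haveI := hN
    by_cases hev : 2 ∣ Nat.card N
    · -- `s ∈ N`
      have hPN : (P : Subgroup G) ⊓ N ≠ ⊥ := fun h0 => by
        obtain ⟨⟨x, hx⟩, hx2⟩ := exists_prime_orderOf_dvd_card' 2 hev
        have hxp : IsPGroup 2 (Subgroup.zpowers x) := IsPGroup.of_card (n := 1)
          ((Nat.card_zpowers x).trans (((Subgroup.orderOf_coe (⟨x, hx⟩ : N)).trans hx2).trans (pow_one 2).symm))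
        obtain ⟨R, hR⟩ := hxp.exists_le_sylow
        obtain ⟨g, hg⟩ := MulAction.exists_smul_eq G R P
        have hgx : g * x * g⁻¹ ∈ (P : Subgroup G) ⊓ N := Subgroup.mem_inf.2 ⟨by
          rw [← hg, Sylow.coe_subgroup_smul]
          exact Subgroup.smul_mem_pointwise_smul x (MulAut.conj g) _ (hR (Subgroup.mem_zpowers x)),
          hN.conj_mem x hx g⟩
        rw [h0, Subgroup.mem_bot, conj_eq_one_iff] at hgx
        have : orderOf (1 : G) = 2 := hgx ▸ (Subgroup.orderOf_coe (⟨x, hx⟩ : N)).trans hx2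
        simp at this
      haveI : Nontrivial ((N.subgroupOf (P : Subgroup G))) := by
        rw [Subgroup.nontrivial_iff_ne_bot]
        intro h0
        exact hPN (by rw [inf_comm, ← Subgroup.subgroupOf_map_subtype, h0, Subgroup.map_bot])
      obtain ⟨⟨⟨y, hyP⟩, hyN⟩, hy⟩ := exists_ne (1 : (N.subgroupOf (P : Subgroup G)))
      have hsN : s ∈ N := by
        haveI : Finite P := inferInstance
        obtain ⟨c, hc, hc1⟩ : ∃ c : P, c ∈ N.subgroupOf (P : Subgroup G) ⊓ Subgroup.center P ∧ c ≠ 1 := by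
          have hne2 : N.subgroupOf (P : Subgroup G) ≠ ⊥ := fun h0 => hy (Subtype.ext (by
            have := h0 ▸ hyN
            exact Subgroup.mem_bot.1 this))
          exact CfsgLib.Solvable.exists_ne_one_mem_inf_center_of_normal P.isPGroup' hne2 |>.imp fun c h => ⟨h.1, h.2⟩
        obtain ⟨hcN, hcZ⟩ := Subgroup.mem_inf.1 hc
        obtain ⟨m, hm, hme⟩ : (c : G) ∈ S := hPS ▸ c.2
        rcases hZ m hm (fun u hu => hinj (by
          rw [map_mul, map_mul, hme]
          exact (congrArg Subtype.val (Subgroup.mem_center_iff.1 hcZ ⟨hom u, hP ⟨u, hu, rfl⟩⟩)).symm)) with rfl | rfl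
        · exact absurd (Subtype.ext (hme.symm.trans (map_one hom)) : c = 1) hc1
        · rwa [hs, hme]
      have hK : ∀ g : G, g * s * g⁻¹ ∈ N := fun g => hN.conj_mem s hsN g
      have hL : hom.range ≤ N := by
        rintro _ ⟨m, rfl⟩
        have htop := hgen (N.comap hom) inferInstance fun u hu => by
          obtain ⟨g, hg⟩ := isConj_iff.1 hu
          show hom u ∈ N
          rw [← hg]; exact hK g
        exact (htop ▸ Subgroup.mem_top m : m ∈ N.comap hom)
      refine eq_top_iff.2 fun g _ => ?_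
      -- Frattini
      have hPN' : (P : Subgroup G) ≤ N := fun x hx => by
        obtain ⟨m, -, rfl⟩ : x ∈ S := hPS ▸ hx
        exact hL ⟨m, rfl⟩
      have hfr := Sylow.normalizer_sup_eq_top' P hPN'
      have hnorm : Subgroup.normalizer ((P : Subgroup G) : Set G) ≤ N := by
        intro k hk
        refine hL (hrange.ge (Subgroup.mem_centralizer_singleton_iff.2 ?_))
        have h2 : k * s * k⁻¹ ∈ S := hPS ▸ (Subgroup.mem_normalizer_iff.1 hk s).1 (hP ⟨z, hzS, rfl⟩)
        obtain ⟨m, hm, hme⟩ := h2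
        rcases hZ m hm (fun u hu => hinj (by
          rw [map_mul, map_mul, hme]
          have huP : k⁻¹ * hom u * k ∈ (P : Subgroup G) := by
            simpa using (Subgroup.mem_normalizer_iff.1 (Subgroup.inv_mem _ hk) (hom u)).1 (hP ⟨u, hu, rfl⟩)
          obtain ⟨v, -, hve⟩ : k⁻¹ * hom u * k ∈ S := hPS ▸ huP
          have hcz : s * hom v = hom v * s :=
            (Subgroup.mem_centralizer_singleton_iff.1 (hrange.le ⟨v, rfl⟩)).symm
          calc k * s * k⁻¹ * hom u = k * (s * (k⁻¹ * hom u * k)) * k⁻¹ := by group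
            _ = k * (s * hom v) * k⁻¹ := by rw [hve]
            _ = k * (hom v * s) * k⁻¹ := by rw [hcz]
            _ = _ := by rw [hve]; group)) with rfl | rfl
        · exact absurd (hme.symm.trans (map_one hom)) (fun h => hs1 (conj_eq_one_iff.1 h))
        · exact mul_inv_eq_iff_eq_mul.1 hme.symm
      exact sup_le hnorm le_rfl (hfr.ge (Subgroup.mem_top g))
    · exfalso
      obtain ⟨x, l, hx1, hxz, hxzc, hxK, hl⟩ := hfour
      have hodd : ∀ y ∈ N, ∀ a : G, IsConj s a → a * y = y * a → y = 1 := by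
        intro y hy a ha hay
        obtain ⟨g, hg⟩ := isConj_iff.1 ha
        have hy' : g⁻¹ * y * g ∈ N := by simpa using hN.conj_mem y hy g⁻¹
        obtain ⟨m, hm⟩ := exists_of_comm hom hrange (g := g⁻¹ * y * g) (by
          rw [← hg] at hay
          calc g⁻¹ * y * g * s = g⁻¹ * (y * (g * s * g⁻¹)) * g := by group
            _ = g⁻¹ * ((g * s * g⁻¹) * y) * g := by rw [hay]
            _ = hom z * (g⁻¹ * y * g) := by rw [hs]; group)
        have hmN : m ∈ N.comap hom := show hom m ∈ N by rw [hm]; exact hy'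
        by_cases h0 : N.comap hom = ⊥
        · rw [h0, Subgroup.mem_bot] at hmN
          rw [hmN, map_one] at hm
          have : y = g * (g⁻¹ * y * g) * g⁻¹ := by group
          rw [this, ← hm]; group
        · have hz := hnoodd _ inferInstance h0
          exfalso
          have h2 : orderOf s = 2 := orderOf_eq_prime (by rw [pow_two, hs, ← map_mul, hz2, map_one]) hs1
          exact hev (h2 ▸ N.orderOf_dvd_natCard hz)
      have hinv : ∀ a : G, IsConj s a → ∀ y ∈ N, a * y * a⁻¹ = y⁻¹ := by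
        intro a ha y hy
        have haa : a * a = 1 := by
          obtain ⟨g, hg⟩ := isConj_iff.1 ha
          rw [← hg, show g * s * g⁻¹ * (g * s * g⁻¹) = g * (s * s) * g⁻¹ by group, hs, ← map_mul, hz2, map_one]
          group
        have hai : a⁻¹ = a := inv_eq_of_mul_eq_one_right haa
        let φ : N → N := fun u => ⟨(u : G)⁻¹ * (a * u * a⁻¹),
          N.mul_mem (N.inv_mem u.2) (hN.conj_mem _ u.2 a)⟩
        have hφ : Function.Injective φ := fun u v huv => by
          have h1 : (u : G)⁻¹ * (a * u * a⁻¹) = (v : G)⁻¹ * (a * v * a⁻¹) := congrArg Subtype.val huv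
          have h2 : a * ((v : G) * (u : G)⁻¹)⁻¹ * a⁻¹ = ((v : G) * (u : G)⁻¹)⁻¹ := by
            calc a * ((v : G) * (u : G)⁻¹)⁻¹ * a⁻¹ = (a * u * a⁻¹) * (a * v * a⁻¹)⁻¹ := by group
              _ = (u : G) * ((u : G)⁻¹ * (a * u * a⁻¹)) * (a * v * a⁻¹)⁻¹ := by group
              _ = (u : G) * ((v : G)⁻¹ * (a * v * a⁻¹)) * (a * v * a⁻¹)⁻¹ := by rw [h1]
              _ = _ := by group
          have h3 := hodd _ (N.inv_mem (N.mul_mem v.2 (N.inv_mem u.2))) a ha (mul_inv_eq_iff_eq_mul.1 h2)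
          exact Subtype.ext (mul_inv_eq_one.1 (inv_eq_one.1 h3)).symm
        obtain ⟨u, hu⟩ := Finite.surjective_of_injective hφ ⟨y, hy⟩
        have hu' : (u : G)⁻¹ * (a * u * a⁻¹) = y := congrArg Subtype.val hu
        rw [← hu', hai]
        calc a * ((u : G)⁻¹ * (a * u * a)) * a = a * (u : G)⁻¹ * a * u * (a * a) := by group
          _ = a⁻¹ * (u : G)⁻¹ * a⁻¹ * u := by rw [haa, mul_one, hai]
          _ = _ := by group
      obtain ⟨y, hy, hy1⟩ : ∃ y ∈ N, y ≠ 1 := by
        by_contra! h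
        exact hN1 (eq_bot_iff.2 fun y hy => Subgroup.mem_bot.2 (h y hy))
      have hxzK : IsConj s (hom (x * z)) := by
        rw [← hl, map_mul, map_mul, map_inv]
        exact (isConj_conj_iff _ _ _).2 hxK
      have h1 := hinv (hom (x * z)) hxzK y hy
      rw [map_mul] at h1
      have h2 : hom x * hom z * y * (hom x * hom z)⁻¹ = y := by
        calc hom x * hom z * y * (hom x * hom z)⁻¹ = hom x * (hom z * y * (hom z)⁻¹) * (hom x)⁻¹ := by group
          _ = hom x * y⁻¹ * (hom x)⁻¹ := by rw [hinv _ (IsConj.refl _) y hy]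
          _ = y := by rw [hinv _ hxK _ (N.inv_mem hy), inv_inv]
      rw [h2] at h1
      refine hev (Dvd.dvd.trans (dvd_of_eq ?_) (N.orderOf_dvd_natCard hy))
      exact (orderOf_eq_prime (by rw [pow_two]; nth_rewrite 2 [h1]; exact mul_inv_cancel y) hy1).symm
  exact ⟨⟨fun N hN => or_iff_not_imp_left.2 (hmain N hN)⟩, hcomm⟩

end CfsgLib.AltEightRecog
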