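import Cfsg.Agent.Lib.AltEightRecog.Eight
import Cfsg.Agent.Lib.AltEightRecog.Generic
import Cfsg.Agent.Lib.AltEightRecog.Facts

/-!
# The normalisers of the two elementary groups of order eight

If the conjugates of the central involution in its centraliser are the involutions of the classes
1, 2, 3 and 5, the two elementary groups `eC` and `eD` have normalisers of order 1344.
-/

set_option autoImplicit false
set_option maxRecDepth 100000
set_option linter.style.haveILetI false

namespace CfsgLib.AltEightRecog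

open scoped Classical

theorem eC_lab : ∀ x : CA, x ∈ span3 p24 p34 ↔ (x = 1 ∨ lab x = 1 ∨ lab x = 2) := by decide +kernel

theorem eD_lab : ∀ x : CA, x ∈ span3 p13 p12 ↔ (x = 1 ∨ lab x = 1 ∨ lab x = 3) := by decide +kernel

theorem lab_conj : ∀ l x : CA, lab (l * x * l⁻¹) = lab x := by decide +kernel

theorem exists_conj_of_lab_eq {x y : CA} (h : lab x = lab y) (hx : lab x ≠ 0) :
    ∃ l : CA, l * x * l⁻¹ = y := by
  refine ⟨cjr y * (cjr x)⁻¹, ?_⟩
  have h1 := conj_crep x hx
  have h2 := conj_crep y (h ▸ hx)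
  rw [← h] at h2
  calc cjr y * (cjr x)⁻¹ * x * (cjr y * (cjr x)⁻¹)⁻¹
      = cjr y * ((cjr x)⁻¹ * x * cjr x) * (cjr y)⁻¹ := by group
    _ = cjr y * ((cjr x)⁻¹ * (cjr x * crep (lab x) * (cjr x)⁻¹) * cjr x) * (cjr y)⁻¹ := by rw [h1]
    _ = cjr y * crep (lab x) * (cjr y)⁻¹ := by group
    _ = y := h2

/-- The classes forming the two elementary groups. -/
def pairLab (k : ℕ) : Prop := k = 2 ∨ k = 3

variable {G : Type*} [Group G]

theorem card_normalizer_aux [Finite G] (D : AltCent G)
    (hK : ∀ x : CA, IsConj (D.hom az) (D.hom x) ↔ lab x = 1 ∨ lab x = 2 ∨ lab x = 3 ∨ lab x = 5)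
    {k : ℕ} (hk : pairLab k) (Em : Subgroup CA) (hEm : ∀ x, x ∈ Em ↔ (x = 1 ∨ lab x = 1 ∨ lab x = k))
    (hcard : Nat.card Em = 8) :
    Nat.card (Subgroup.normalizer ((Em.map D.hom : Subgroup G) : Set G)) = 1344 := by
  have hk2 : k ≠ 0 ∧ k ≠ 1 ∧ k ≤ 4 := by rcases hk with rfl | rfl <;> omega
  set s := D.hom az with hs
  set E := Em.map D.hom with hE
  set H := Subgroup.normalizer (E : Set G) with hH
  have hmemE : ∀ m, D.hom m ∈ E ↔ m ∈ Em := fun m => by
    rw [hE, Subgroup.mem_map]
    exact ⟨fun ⟨u, hu, h⟩ => D.inj h ▸ hu, fun h => ⟨m, h, rfl⟩⟩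
  have haz : lab az = 1 := lab_reps.1
  have haz1 : (az : CA) ≠ 1 := by decide +kernel
  have hazsq : az * az = (1 : CA) := by decide +kernel
  have hzE : az ∈ Em := (hEm _).2 (Or.inr (Or.inl haz))
  have hsE : s ∈ E := (hmemE az).2 hzE
  have hs1 : s ≠ 1 := fun h => haz1 (D.inj (h.trans (map_one D.hom).symm))
  have hEK : ∀ u ∈ Em, u ≠ 1 → lab u = 1 ∨ lab u = 2 ∨ lab u = 3 ∨ lab u = 5 := by
    intro u hu h1
    rcases (hEm u).1 hu with rfl | h | h
    · exact absurd rfl h1
    · exact Or.inl h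
    · rcases hk with rfl | rfl
      · exact Or.inr (Or.inl h)
      · exact Or.inr (Or.inr (Or.inl h))
  have hEinv : ∀ u ∈ Em, u * u = 1 := by
    intro u hu
    by_contra hne
    have h0 : lab u = 0 := (lab_eq_zero_iff u).2 fun h => hne h.1
    rcases (hEm u).1 hu with rfl | h | h
    · exact hne (mul_one 1)
    · omega
    · omega
  have hEcomm : ∀ u ∈ Em, ∀ v ∈ Em, u * v = v * u := fun u hu v hv => by
    calc u * v = (u * v)⁻¹ := (inv_eq_of_mul_eq_one_right (hEinv _ (Em.mul_mem hu hv))).symm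
      _ = v⁻¹ * u⁻¹ := mul_inv_rev u v
      _ = v * u := by
        rw [inv_eq_of_mul_eq_one_right (hEinv _ hu), inv_eq_of_mul_eq_one_right (hEinv _ hv)]
  have hconjEm : ∀ (l u : CA), u ∈ Em → l * u * l⁻¹ ∈ Em := by
    intro l u hu
    rcases (hEm u).1 hu with rfl | h | h
    · simp
    · exact (hEm _).2 (Or.inr (Or.inl (by rw [lab_conj]; exact h)))
    · exact (hEm _).2 (Or.inr (Or.inr (by rw [lab_conj]; exact h)))
  have hLH : ∀ m : CA, D.hom m ∈ H := by
    intro m
    rw [hH, Subgroup.mem_normalizer_iff]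
    intro y
    constructor
    · rintro ⟨u, hu, rfl⟩
      exact ⟨m * u * m⁻¹, hconjEm m u hu, by simp⟩
    · rintro ⟨u, hu, he⟩
      exact ⟨m⁻¹ * u * m, by simpa using hconjEm m⁻¹ u hu, by
        rw [map_mul, map_mul, map_inv, he]; group⟩
  -- transitivity
  have htr : ∀ u ∈ Em, u ≠ 1 → ∃ h ∈ H, h * s * h⁻¹ = D.hom u := by
    intro e he he1
    by_cases hez : e = az
    · exact ⟨1, H.one_mem, by simp [hez, hs]⟩
    have hlabe : lab e = k := by
      rcases (hEm e).1 he with h | h | h
      · exact absurd h he1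
      · exact absurd ((lab_one_iff e).1 h) hez
      · exact h
    obtain ⟨g, hg⟩ := isConj_iff.1 ((hK e).2 (hEK e he he1))
    -- pull back the group by `g`
    have hpull : ∀ u ∈ Em, ∃ v : CA, D.hom v = g⁻¹ * D.hom u * g := by
      intro u hu
      refine exists_of_comm D.hom D.range_eq ?_
      calc g⁻¹ * D.hom u * g * s = g⁻¹ * (D.hom u * (g * s * g⁻¹)) * g := by group
        _ = g⁻¹ * D.hom (u * e) * g := by rw [hg, map_mul]
        _ = g⁻¹ * D.hom (e * u) * g := by rw [hEcomm u hu e he]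
        _ = g⁻¹ * ((g * s * g⁻¹) * D.hom u) * g := by rw [hg, map_mul]
        _ = s * (g⁻¹ * D.hom u * g) := by group
    choose φ hφ using hpull
    have hφmul : ∀ u (hu : u ∈ Em) v (hv : v ∈ Em),
        φ (u * v) (Em.mul_mem hu hv) = φ u hu * φ v hv := by
      intro u hu v hv
      apply D.inj
      rw [map_mul, hφ, hφ, hφ, map_mul]
      group
    have hφinj : ∀ u (hu : u ∈ Em) v (hv : v ∈ Em), φ u hu = φ v hv → u = v := by
      intro u hu v hv h
      have h' := congrArg D.hom h
      rw [hφ, hφ] at h'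
      exact D.inj (mul_left_cancel (mul_right_cancel h'))
    have hφone : φ 1 Em.one_mem = 1 := by
      apply D.inj
      rw [hφ]
      simp
    have hφe : φ e he = az := by
      apply D.inj
      rw [hφ, ← hg, ← hs]
      group
    have hφlab : ∀ u (hu : u ∈ Em), u ≠ 1 → u ≠ e →
        lab (φ u hu) = 2 ∨ lab (φ u hu) = 3 ∨ lab (φ u hu) = 5 := by
      intro u hu hu1 hue
      have h1 : IsConj s (D.hom (φ u hu)) := by
        rw [hφ]
        exact ((hK u).2 (hEK u hu hu1)).trans (isConj_iff.2 ⟨g⁻¹, by group⟩)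
      rcases (hK _).1 h1 with h | h
      · exact absurd (hφinj u hu e he (((lab_one_iff _).1 h).trans hφe.symm)) hue
      · exact h
    -- the common class
    have hazE : ∀ u (hu : u ∈ Em), u ≠ 1 → u ≠ e → u * e ≠ 1 ∧ u * e ≠ e := by
      intro u hu h1 h2
      refine ⟨fun h => h2 ?_, fun h => h1 (mul_right_cancel (h.trans (one_mul e).symm))⟩
      rw [← inv_eq_of_mul_eq_one_left h, inv_eq_of_mul_eq_one_right (hEinv e he)]
    have hpair : ∀ u (hu : u ∈ Em) v (hv : v ∈ Em), u ≠ 1 → u ≠ e → v ≠ 1 → v ≠ e → u ≠ v →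
        v ≠ u * e → (lab (φ u hu) = 2 ∧ lab (φ v hv) = 2) ∨ (lab (φ u hu) = 3 ∧ lab (φ v hv) = 3) := by
      intro u hu v hv hu1 hue hv1 hve huv hvue
      have huv1 : u * v ≠ 1 := fun h => huv (by
        rw [← inv_eq_of_mul_eq_one_right h, inv_eq_of_mul_eq_one_right (hEinv u hu)])
      have huve : u * v ≠ e := fun h => hvue (by
        rw [← h, ← mul_assoc, hEinv u hu, one_mul])
      have e1 := hφmul u hu v hv
      have e2 : φ (u * e) (Em.mul_mem hu he) = az * φ u hu := by
        rw [hφmul u hu e he, hφe]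
        exact (show φ u hu * az = az * φ u hu from D.inj (by
          rw [map_mul, map_mul]
          exact Subgroup.mem_centralizer_singleton_iff.1 (D.range_eq.le ⟨_, rfl⟩)))
      have e3 : φ (v * e) (Em.mul_mem hv he) = az * φ v hv := by
        rw [hφmul v hv e he, hφe]
        exact (show φ v hv * az = az * φ v hv from D.inj (by
          rw [map_mul, map_mul]
          exact Subgroup.mem_centralizer_singleton_iff.1 (D.range_eq.le ⟨_, rfl⟩)))
      have hw := Em.mul_mem hu hv
      have e4 : φ (u * v * e) (Em.mul_mem hw he) = az * (φ u hu * φ v hv) := by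
        rw [hφmul (u * v) hw e he, hφe, e1]
        exact (show φ u hu * φ v hv * az = az * (φ u hu * φ v hv) from D.inj (by
          rw [map_mul, map_mul D.hom az]
          exact Subgroup.mem_centralizer_singleton_iff.1 (D.range_eq.le ⟨_, rfl⟩)))
      refine all_reg _ _ (hφlab u hu hu1 hue) (hφlab v hv hv1 hve) ?_ ?_ ?_ ?_ ?_
      · rw [← hφmul u hu v hv, ← hφmul v hv u hu]
        simp only [hEcomm u hu v hv]
      · rw [← e1]
        exact hφlab _ hw huv1 huve
      · rw [← e2]
        exact hφlab _ _ (hazE u hu hu1 hue).1 (hazE u hu hu1 hue).2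
      · rw [← e3]
        exact hφlab _ _ (hazE v hv hv1 hve).1 (hazE v hv hv1 hve).2
      · rw [← e4]
        exact hφlab _ _ (hazE _ hw huv1 huve).1 (hazE _ hw huv1 huve).2
    -- conjugation inside the pulled back group
    have htrans : ∀ u (hu : u ∈ Em) v (hv : v ∈ Em), u ≠ 1 → u ≠ e → v ≠ 1 → v ≠ e →
        ∃ l : CA, l * φ u hu * l⁻¹ = φ v hv := by
      intro u hu v hv hu1 hue hv1 hve
      by_cases huv : u = v
      · subst huv; exact ⟨1, by simp⟩
      have hu0 : lab (φ u hu) ≠ 0 := by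
        rcases hφlab u hu hu1 hue with h | h | h <;> omega
      by_cases hvue : v = u * e
      · subst hvue
        -- choose a third element
        obtain ⟨w, hw, hw1, hwe, hwu, hwue⟩ : ∃ w ∈ Em, w ≠ 1 ∧ w ≠ e ∧ w ≠ u ∧ w ≠ u * e := by
          by_contra hno
          push Not at hno
          have hsub : ((Em : Set CA)) ⊆ ((({1, e, u, u * e} : Finset CA)) : Set CA) := by
            intro w hw
            simp only [Finset.coe_insert, Finset.coe_singleton, Set.mem_insert_iff,
              Set.mem_singleton_iff]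
            by_cases a : w = 1
            · exact Or.inl a
            by_cases b : w = e
            · exact Or.inr (Or.inl b)
            by_cases c : w = u
            · exact Or.inr (Or.inr (Or.inl c))
            exact Or.inr (Or.inr (Or.inr (hno w hw a b c)))
          have h1 := Set.ncard_le_ncard hsub (Finset.finite_toSet _)
          rw [Set.ncard_coe_finset, ← Nat.card_coe_set_eq] at h1
          have h2 : Nat.card ((Em : Set CA)) = 8 := hcard
          have h3 : ({1, e, u, u * e} : Finset CA).card ≤ 4 := Finset.card_le_four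
          omega
        have h1 := hpair u hu w hw hu1 hue hw1 hwe (Ne.symm hwu) hwue
        have h2 := hpair (u * e) hv w hw hv1 hve hw1 hwe (Ne.symm hwue) (by
          rw [mul_assoc, hEinv e he, mul_one]; exact hwu)
        refine exists_conj_of_lab_eq ?_ hu0
        omega
      · refine exists_conj_of_lab_eq ?_ hu0
        have := hpair u hu v hv hu1 hue hv1 hve huv hvue
        omega
    -- the element `g * l * g⁻¹`
    have hgroup : ∀ l : CA, (∀ u (hu : u ∈ Em), ∃ v, ∃ hv : v ∈ Em, φ v hv = l * φ u hu * l⁻¹) →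
        g * D.hom l * g⁻¹ ∈ H := by
      intro l hl
      have hmap : ∀ f ∈ E, g * D.hom l * g⁻¹ * f * (g * D.hom l * g⁻¹)⁻¹ ∈ E := by
        rintro _ ⟨u, hu, rfl⟩
        obtain ⟨v, hv, hvl⟩ := hl u hu
        refine ⟨v, hv, ?_⟩
        have h' := congrArg D.hom hvl
        rw [map_mul, map_mul, map_inv, hφ, hφ] at h'
        calc D.hom v = g * (g⁻¹ * D.hom v * g) * g⁻¹ := by group
          _ = g * (D.hom l * (g⁻¹ * D.hom u * g) * (D.hom l)⁻¹) * g⁻¹ := by rw [h']
          _ = _ := by group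
      rw [hH, Subgroup.mem_normalizer_iff]
      intro f
      refine ⟨fun hf => hmap f hf, fun hf => ?_⟩
      obtain ⟨⟨u, hu⟩, huf⟩ := Finite.surjective_of_injective
        (f := fun u : E => (⟨_, hmap u u.2⟩ : E))
        (fun a b hab => Subtype.ext (mul_left_cancel (mul_right_cancel (congrArg Subtype.val hab))))
        ⟨_, hf⟩
      have huf' := congrArg Subtype.val huf
      simp only at huf'
      rwa [← mul_left_cancel (mul_right_cancel huf')]
    -- the image is closed under conjugation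
    obtain ⟨k', hk', himg⟩ : ∃ k', pairLab k' ∧ ∀ u (hu : u ∈ Em), u ≠ 1 → u ≠ e →
        lab (φ u hu) = k' := by
      obtain ⟨u₀, hu₀, h01, h0e, v₀, hv₀, g1, ge, huv, hvue⟩ : ∃ u ∈ Em, u ≠ 1 ∧ u ≠ e ∧
          ∃ v ∈ Em, v ≠ 1 ∧ v ≠ e ∧ u ≠ v ∧ v ≠ u * e := by
        have hbig : ∀ F : Finset CA, F.card ≤ 4 → ∃ w ∈ Em, w ∉ F := by
          intro F hF
          by_contra hno
          push Not at hno
          have h1 := Set.ncard_le_ncard (s := (Em : Set CA)) (t := (F : Set CA)) hno
            (Finset.finite_toSet _)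
          rw [Set.ncard_coe_finset, ← Nat.card_coe_set_eq] at h1
          have h2 : Nat.card ((Em : Set CA)) = 8 := hcard
          omega
        obtain ⟨u, hu, hu'⟩ := hbig {1, e} (by
          exact le_trans Finset.card_le_two (by norm_num))
        simp only [Finset.mem_insert, Finset.mem_singleton, not_or] at hu'
        obtain ⟨v, hv, hv'⟩ := hbig {1, e, u, u * e} Finset.card_le_four
        simp only [Finset.mem_insert, Finset.mem_singleton, not_or] at hv'
        exact ⟨u, hu, hu'.1, hu'.2, v, hv, hv'.1, hv'.2.1, Ne.symm hv'.2.2.1, hv'.2.2.2⟩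
      refine ⟨lab (φ u₀ hu₀), ?_, ?_⟩
      · rcases hpair u₀ hu₀ v₀ hv₀ h01 h0e g1 ge huv hvue with h | h
        · exact Or.inl h.1
        · exact Or.inr h.1
      · intro u hu hu1 hue
        obtain ⟨l, hl⟩ := htrans u₀ hu₀ u hu h01 h0e hu1 hue
        rw [← hl, lab_conj]
    have hclosed : ∀ (l : CA) u (hu : u ∈ Em),
        ∃ v, ∃ hv : v ∈ Em, φ v hv = l * φ u hu * l⁻¹ := by
      intro l u hu
      by_cases hu1 : u = 1
      · subst hu1
        exact ⟨1, Em.one_mem, by rw [hφone]; simp⟩
      by_cases hue : u = e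
      · subst hue
        refine ⟨u, hu, ?_⟩
        rw [hφe]
        exact (mul_inv_eq_iff_eq_mul.2 (D.inj (by
          rw [map_mul, map_mul]
          exact Subgroup.mem_centralizer_singleton_iff.1 (D.range_eq.le ⟨_, rfl⟩)))).symm
      -- the six elements exhaust the class
      have hlab : lab (l * φ u hu * l⁻¹) = k' := by rw [lab_conj]; exact himg u hu hu1 hue
      have hsix : ∀ k : ℕ, pairLab k →
          (Finset.univ.filter fun x : CA => lab x = k).card = 6 := by
        intro k hk
        rcases hk with rfl | rfl <;> decide +kernel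
      by_contra hno
      push Not at hno
      let S : Finset CA := Finset.univ.filter fun x => x ∈ Em ∧ x ≠ 1 ∧ x ≠ e
      have hS : S.card = 6 := by
        have hScard : (Finset.univ.filter fun x : CA => x ∈ Em).card = 8 := by
          rw [← hcard, Nat.card_eq_fintype_card, Fintype.card_subtype]
        have : S = ((Finset.univ.filter fun x : CA => x ∈ Em).erase 1).erase e := by
          ext x; simp [S, and_comm, and_assoc, and_left_comm]
        rw [this, Finset.card_erase_of_mem (by simp [he, he1]),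
          Finset.card_erase_of_mem (by simp), hScard]
      let ψ : CA → CA := fun x => if hx : x ∈ Em then φ x hx else 1
      have hsub : S.image ψ ⊆
          (Finset.univ.filter fun x : CA => lab x = k').erase (l * φ u hu * l⁻¹) := by
        intro y hy
        obtain ⟨x, hx, rfl⟩ := Finset.mem_image.1 hy
        simp only [S, Finset.mem_filter, Finset.mem_univ, true_and] at hx
        simp only [ψ, dif_pos hx.1, Finset.mem_erase, Finset.mem_filter, Finset.mem_univ,
          true_and]
        exact ⟨hno x hx.1, himg x hx.1 hx.2.1 hx.2.2⟩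
      have h1 := Finset.card_le_card hsub
      rw [Finset.card_image_of_injOn (fun x hx y hy hxy => by
        simp only [S, Finset.coe_filter, Finset.mem_univ, true_and, Set.mem_setOf_eq] at hx hy
        simp only [ψ, dif_pos hx.1, dif_pos hy.1] at hxy
        exact hφinj x hx.1 y hy.1 hxy), hS,
        Finset.card_erase_of_mem (by simp [hlab]), hsix k' hk'] at h1
      omega
    -- move `az` away from `e`, then to `e`
    obtain ⟨e', he', he'1, he'e, he'z⟩ : ∃ w ∈ Em, w ≠ 1 ∧ w ≠ e ∧ w ≠ az := by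
      refine ⟨az * e, Em.mul_mem hzE he, fun h => hez ?_, fun h => haz1 ?_, fun h => he1 ?_⟩
      · rw [← inv_eq_of_mul_eq_one_right h, inv_eq_of_mul_eq_one_right hazsq]
      · exact mul_right_cancel (h.trans (one_mul e).symm)
      · exact mul_left_cancel (h.trans (mul_one az).symm)
    obtain ⟨l, hl⟩ := htrans az hzE e' he' haz1 (Ne.symm hez) he'1 he'e
    have hlabe' : lab e' = k := by
      rcases (hEm e').1 he' with h | h | h
      · exact absurd h he'1
      · exact absurd ((lab_one_iff e').1 h) he'z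
      · exact h
    obtain ⟨l₂, hl₂⟩ := exists_conj_of_lab_eq (hlabe'.trans hlabe.symm) (by omega)
    refine ⟨D.hom l₂ * (g * D.hom l * g⁻¹), H.mul_mem (hLH _) (hgroup l (hclosed l)), ?_⟩
    have h' := congrArg D.hom hl
    rw [map_mul, map_mul, map_inv, hφ, hφ] at h'
    calc D.hom l₂ * (g * D.hom l * g⁻¹) * s * (D.hom l₂ * (g * D.hom l * g⁻¹))⁻¹
        = D.hom l₂ * (g * (D.hom l * (g⁻¹ * D.hom az * g) * (D.hom l)⁻¹) * g⁻¹) * (D.hom l₂)⁻¹ := by
          rw [← hs]; group
      _ = D.hom l₂ * (g * (g⁻¹ * D.hom e' * g) * g⁻¹) * (D.hom l₂)⁻¹ := by rw [h']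
      _ = D.hom (l₂ * e' * l₂⁻¹) := by rw [map_mul, map_mul, map_inv]; group
      _ = D.hom e := by rw [hl₂]
  let S : Set G := {x | x ∈ E ∧ x ≠ 1}
  let f : H → S := fun g => ⟨(g : G) * s * (g : G)⁻¹,
    (Subgroup.mem_normalizer_iff.1 g.2 s).1 hsE, fun h => hs1 (conj_eq_one_iff.1 h)⟩
  have hfib : ∀ y : S, Nat.card {g : H // f g = y} = 192 := by
    rintro ⟨y, hy, hy1⟩
    obtain ⟨u, hu, rfl⟩ := hy
    obtain ⟨g₀, hg₀, hgy⟩ := htr u hu fun h => hy1 (by rw [h, map_one])
    rw [← CA.card]
    refine (Nat.card_eq_of_bijective (fun m : CA => (⟨⟨g₀ * D.hom m, H.mul_mem hg₀ (hLH m)⟩, ?_⟩ :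
        {g : H // f g = ⟨D.hom u, ⟨u, hu, rfl⟩, hy1⟩}))
      ⟨fun a b h => D.inj (mul_left_cancel (congrArg (fun t : {g : H // f g =
          ⟨D.hom u, ⟨u, hu, rfl⟩, hy1⟩} => ((t.1 : H) : G)) h)), ?_⟩).symm
    · refine Subtype.ext ?_
      show g₀ * D.hom m * s * (g₀ * D.hom m)⁻¹ = D.hom u
      rw [← hgy, mul_assoc g₀, Subgroup.mem_centralizer_singleton_iff.1 (D.range_eq.le ⟨m, rfl⟩)]
      group
      simp [hs]
    · rintro ⟨⟨g, hg⟩, hgf⟩
      have hgs : g * s * g⁻¹ = D.hom u := congrArg Subtype.val hgf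
      obtain ⟨m, hm⟩ := exists_of_comm D.hom D.range_eq (g := g₀⁻¹ * g) (by
        refine mul_inv_eq_iff_eq_mul.1 ?_
        calc g₀⁻¹ * g * s * (g₀⁻¹ * g)⁻¹ = g₀⁻¹ * (g * s * g⁻¹) * g₀ := by group
          _ = g₀⁻¹ * (g₀ * s * g₀⁻¹) * g₀ := by rw [hgs, hgy]
          _ = s := by group)
      exact ⟨m, Subtype.ext (Subtype.ext (show g₀ * D.hom m = g by rw [hm, mul_inv_cancel_left]))⟩
  have hS : Nat.card S = 7 := by
    have h1 : S = (E : Set G) \ {1} := by ext; simp [S]
    have h8 : Nat.card E = 8 := by rw [hE, Subgroup.card_map_of_injective D.inj, hcard]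
    rw [Nat.card_coe_set_eq, h1, Set.ncard_sdiff_singleton_of_mem E.one_mem, ← Nat.card_coe_set_eq]
    show Nat.card E - 1 = 7
    omega
  letI : Fintype S := Fintype.ofFinite S
  rw [Nat.card_congr (Equiv.sigmaFiberEquiv f).symm, Nat.card_sigma]
  simp [hfib, ← Nat.card_eq_fintype_card, hS]

/-- The normalisers of the two elementary groups of order eight have order 1344. -/
theorem card_normalizers [Finite G] (D : AltCent G)
    (hK : ∀ x : CA, IsConj (D.hom az) (D.hom x) ↔ lab x = 1 ∨ lab x = 2 ∨ lab x = 3 ∨ lab x = 5) :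
    Nat.card (Subgroup.normalizer ((eC.map D.hom : Subgroup G) : Set G)) = 1344 ∧
      Nat.card (Subgroup.normalizer ((eD.map D.hom : Subgroup G) : Set G)) = 1344 := by
  refine ⟨card_normalizer_aux D hK (k := 2) (Or.inl rfl) eC eC_lab ?_,
    card_normalizer_aux D hK (k := 3) (Or.inr rfl) eD eD_lab ?_⟩
  · show Nat.card {x : CA // x ∈ span3 p24 p34} = 8
    rw [Nat.card_eq_fintype_card, Fintype.card_subtype]
    decide +kernel
  · show Nat.card {x : CA // x ∈ span3 p13 p12} = 8
    rw [Nat.card_eq_fintype_card, Fintype.card_subtype]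
    decide +kernel

end CfsgLib.AltEightRecog
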