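import Cfsg.Agent.Lib.AltEightRecog.Core
import Cfsg.Agent.Lib.AltEightRecog.Eight
import Cfsg.Agent.Lib.AltEightRecog.Normalisers
import Cfsg.Agent.Lib.AltEightRecog.NineSetting

/-!
# The centraliser of A8: affine, or simple with a subgroup A8
-/

set_option autoImplicit false
set_option linter.style.haveILetI false
set_option maxHeartbeats 400000

namespace CfsgLib.AltEightRecog

open scoped Classical

/-- Either the affine group, or a simple group with the setting for A8 and A9. -/
theorem alt_case {G : Type*} [Group G] [Finite G] (D : AltCent G)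
    (hcore : ∃ m : CA, (lab m = 2 ∨ lab m = 3 ∨ lab m = 4) ∧ IsConj (D.hom az) (D.hom m)) :
    (∃ (N : Subgroup G) (_ : N.Normal), IsMulCommutative N ∧ (∀ n ∈ N, n ^ 2 = 1) ∧ Nat.card N = 8 ∧
      Nonempty (G ⧸ N ≃* Matrix.ProjectiveSpecialLinearGroup (Fin 3) (ZMod 2))) ∨
      ∃ (D' : AltCent G) (G0 : Subgroup G), NineSetting D' G0 := by
  obtain ⟨m, hm, hmK⟩ := hcore
  have hPatm : PatK D (lab m) := (conj_iff_lab D m (by omega)).1 hmK
  have hne : ∃ k ∈ [2, 3, 4], PatK D k := ⟨lab m, by simp; omega, hPatm⟩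
  rcases pattern D hne with ⟨hone, h5, h6⟩ | ⟨htwo, hout, -, -⟩
  · left
    refine affine_single D (lab m) hm fun x => ?_
    constructor
    · intro hx
      have hx0 := D.conj_lab_ne_zero hx
      have hp := (conj_iff_lab D x hx0).1 hx
      have hle := lab_le x
      rcases (show lab x = 1 ∨ lab x = 2 ∨ lab x = 3 ∨ lab x = 4 ∨ lab x = 5 ∨ lab x = 6 by omega) with
        e | e | e | e | e | e
      · exact Or.inl e
      · rw [e] at hp
        rcases hm with hm' | hm' | hm'
        · exact Or.inr (by omega)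
        all_goals (rw [hm'] at hPatm; simp [hp, hPatm] at hone; try omega)
      · rw [e] at hp
        rcases hm with hm' | hm' | hm'
        · rw [hm'] at hPatm; simp [hp, hPatm] at hone; try omega
        · exact Or.inr (by omega)
        · rw [hm'] at hPatm; simp [hp, hPatm] at hone; try omega
      · rw [e] at hp
        rcases hm with hm' | hm' | hm'
        · rw [hm'] at hPatm; simp [hp, hPatm] at hone; try omega
        · rw [hm'] at hPatm; simp [hp, hPatm] at hone; try omega
        · exact Or.inr (by omega)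
      · exact absurd (e ▸ hp) h5
      · exact absurd (e ▸ hp) h6
    · rintro (hx | hx)
      · rw [(lab_one_iff x).1 hx]
      · exact hmK.trans (D.isConj_of_lab (by omega) hx.symm)
  · right
    obtain ⟨k, hk⟩ := exists_standard D (fun j => decide (PatK D j))
      (fun j _ _ => by simp [PatK]) htwo hout
    set D' := D.comp k with hD'
    obtain ⟨hC, hD⟩ := card_normalizers D' hk
    obtain ⟨hsimple, hnab⟩ := simple_standard D' hk
    obtain ⟨G0, hle, hiso⟩ := exists_alt_eight D' hC hD ((hk ac).2 (Or.inr (Or.inl lab_reps.2.1)))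
      ((hk ad).2 (Or.inr (Or.inr (Or.inl lab_reps.2.2.1))))
      (fun h => by have := (hk au).1 h; rw [lab_reps.2.2.2.2.2] at this; omega)
    have hne' : ∃ j ∈ [2, 3, 4], PatK D' j :=
      ⟨2, by simp, (hk (crep 2)).2 (Or.inr (Or.inl lab_reps.2.1))⟩
    rcases pattern D' hne' with ⟨-, h5, -⟩ | ⟨-, -, hA, htr⟩
    · exact absurd ((hk (crep 5)).2 (Or.inr (Or.inr (Or.inr (lab_crep 5 (by decide)))))) h5
    · exact ⟨D', G0, ⟨hk, hle, hiso, hA, htr, hsimple, hnab⟩⟩

end CfsgLib.AltEightRecog
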