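import Cfsg.Agent.Lib.AltEightRecog.Generic
import Cfsg.Agent.Lib.M12Recog.Setup

/-!
# The first type of centraliser: an affine group or a simple group

If the centraliser of an involution is the model of the centraliser of a 2-central involution of M12
and that involution has another conjugate in the largest normal 2-subgroup of its centraliser, then
either all conjugates it meets form an elementary abelian group of order 8 and the group is affine,
or the group is simple.
-/

set_option autoImplicit false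
set_option maxRecDepth 100000

namespace CfsgLib.AltEightRecog

open CfsgLib.M12Recog

/-- The distinguished elementary abelian normal subgroup of order 8 of the model. -/
noncomputable def mE : Subgroup CM where
  carrier := {x | x = 1 ∨ lab x = 1 ∨ lab x = 2}
  mul_mem' := by
    have h : ∀ x y : CM, (x = 1 ∨ lab x = 1 ∨ lab x = 2) → (y = 1 ∨ lab y = 1 ∨ lab y = 2) →
        (x * y = 1 ∨ lab (x * y) = 1 ∨ lab (x * y) = 2) := by decide +kernel
    exact fun {a b} ha hb => h a b ha hb
  one_mem' := Or.inl rfl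
  inv_mem' := by
    have h : ∀ x : CM, (x = 1 ∨ lab x = 1 ∨ lab x = 2) → (x⁻¹ = 1 ∨ lab x⁻¹ = 1 ∨ lab x⁻¹ = 2) := by
      decide +kernel
    exact fun {x} hx => h x hx

theorem mem_mE {x : CM} : x ∈ mE ↔ x = 1 ∨ lab x = 1 ∨ lab x = 2 := Iff.rfl

theorem card_mE_filter :
    (Finset.univ.filter fun x : CM => x = 1 ∨ lab x = 1 ∨ lab x = 2).card = 8 := by
  decide +kernel

theorem card_mE : Nat.card mE = 8 := by
  rw [← card_mE_filter]
  exact (Nat.card_congr (Equiv.subtypeEquivRight fun x => mem_mE)).trans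
    ((Nat.card_eq_fintype_card).trans (Fintype.card_subtype _))

theorem mE_facts : (∀ x : CM, (x = 1 ∨ lab x = 1 ∨ lab x = 2) →
      x * x = 1 ∧ ∀ g : CM, g * x * g⁻¹ = 1 ∨ lab (g * x * g⁻¹) = 1 ∨ lab (g * x * g⁻¹) = 2) ∧
    (∀ g : CM, (∀ x : CM, (x = 1 ∨ lab x = 1 ∨ lab x = 2) → g * x = x * g) →
      (g = 1 ∨ lab g = 1 ∨ lab g = 2)) := by
  decide +kernel

theorem lab_of_inQ : ∀ x : CM, inQ x = true → lab x ≠ 4 := fun x hx => (inQ_facts.2.1 x hx).2.2

theorem commutator_facts :
    (∀ x : CM, inQ x = true → x ≠ 1 → x ≠ mz → ∃ y : CM, inQ y = true ∧ x * y * x⁻¹ * y⁻¹ = mz) ∧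
    (∀ x : CM, inQ x = false → ∃ y : CM, inQ y = true ∧ x * y * x⁻¹ * y⁻¹ ≠ 1) ∧
    (∀ x y : CM, inQ y = true → inQ (x * y * x⁻¹ * y⁻¹) = true) := by
  decide +kernel

/-- Every nontrivial normal subgroup of the model contains the central involution. -/
theorem mz_mem_of_normal (N : Subgroup CM) (hN : N.Normal) (hne : N ≠ ⊥) : mz ∈ N := by
  obtain ⟨x, hx, hx1⟩ := (Subgroup.bot_or_exists_ne_one N).resolve_left hne
  have hcomm : ∀ u ∈ N, ∀ y, u * y * u⁻¹ * y⁻¹ ∈ N := fun u hu y => by
    have := N.mul_mem hu (hN.conj_mem _ (N.inv_mem hu) y)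
    simpa [mul_assoc] using this
  have hQ : ∀ u ∈ N, inQ u = true → u ≠ 1 → mz ∈ N := by
    intro u hu hq h1
    by_cases hz : u = mz
    · exact hz ▸ hu
    obtain ⟨y, -, hy⟩ := commutator_facts.1 u hq h1 hz
    exact hy ▸ hcomm u hu y
  cases hq : inQ x
  · obtain ⟨y, hy, hne'⟩ := commutator_facts.2.1 x hq
    exact hQ _ (hcomm x hx y) (commutator_facts.2.2 x y hy) hne'
  · exact hQ x hx hq hx1

theorem gens_facts :
    nth 11 * nth 49 * nth 183 = nth 1 ∧ nth 36 * nth 43 * nth 105 = nth 2 ∧ nth 43 * nth 109 = nth 3 ∧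
      ∀ i ∈ [11, 49, 183, 36, 43, 105, 109], lab (nth i) = 1 ∨ lab (nth i) = 2 ∨ lab (nth i) = 4 := by
  decide +kernel

theorem nth_of_lt {i : ℕ} (h : i < 192) : nth i = CM.ofNat i h := dif_pos h

/-- A normal subgroup containing the involutions outside the class of size 12 is everything. -/
theorem eq_top_of_labels (N : Subgroup CM) (h : ∀ x : CM, lab x = 1 ∨ lab x = 2 ∨ lab x = 4 → x ∈ N) :
    N = ⊤ := by
  obtain ⟨e1, e2, e3, hl⟩ := gens_facts
  have hk : ∀ i ∈ [11, 49, 183, 36, 43, 105, 109], nth i ∈ N := fun i hi => h _ (hl i hi)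
  have hg : ∀ j, nth (genN j) ∈ N := by
    intro j
    have hj : genN j ∈ gensIdx ∨ genN j = 0 := by
      rw [genN_def]
      rcases Nat.lt_or_ge ((genTab >>> (4 * j)) &&& 15) gensIdx.length with hlt | hge
      · left; rw [List.getD_eq_getElem _ _ hlt]; exact List.getElem_mem _
      · right; rw [List.getD_eq_default _ _ hge]
    rcases hj with hj | hj
    · simp only [gensIdx, List.mem_cons, List.not_mem_nil, or_false] at hj
      rcases hj with hj | hj | hj <;> rw [hj]
      · rw [← e1]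
        exact N.mul_mem (N.mul_mem (hk 11 (by simp)) (hk 49 (by simp))) (hk 183 (by simp))
      · rw [← e2]
        exact N.mul_mem (N.mul_mem (hk 36 (by simp)) (hk 43 (by simp))) (hk 105 (by simp))
      · rw [← e3]
        exact N.mul_mem (hk 43 (by simp)) (hk 109 (by simp))
    · rw [hj, nth_of_lt (by norm_num)]
      exact N.one_mem
  have hall : ∀ i (hi : i < 192), CM.ofNat i hi ∈ N := by
    intro i
    induction i using Nat.strong_induction_on with
    | _ i ih =>
      intro hi
      rcases (basic_spec hi).2.2.2.2.2 with h0 | ⟨hp, hgl, he⟩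
      · subst h0; exact N.one_mem
      · have hmul := N.mul_mem (ih _ hp (hp.trans hi)) (hg i)
        rw [nth_of_lt hgl] at hmul
        have : CM.ofNat (parN i) (hp.trans hi) * CM.ofNat (genN i) hgl = CM.ofNat i hi :=
          congrArg CM.mk (Fin.ext he)
        exact this ▸ hmul
  rw [eq_top_iff]
  rintro ⟨⟨i, hi⟩⟩ -
  exact hall i hi

theorem ma_facts : ma * ma = 1 ∧ ma ≠ 1 ∧ mq * mz = mz * mq ∧ mq ≠ 1 ∧ mq ≠ mz ∧ mz ≠ 1 := by
  decide +kernel

/-- The branch of the first type of centraliser. -/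
theorem mathieu_case {G : Type*} [Group G] [Finite G] (D : CentData G)
    (hnwc : ∃ m : CM, inQ m = true ∧ m ≠ mz ∧ IsConj (D.hom mz) (D.hom m)) :
    (∃ (N : Subgroup G) (_ : N.Normal), IsMulCommutative N ∧ (∀ n ∈ N, n ^ 2 = 1) ∧ Nat.card N = 8 ∧
      Nonempty (G ⧸ N ≃* Matrix.ProjectiveSpecialLinearGroup (Fin 3) (ZMod 2))) ∨
    (IsSimpleGroup G ∧ ¬ IsMulCommutative G) := by
  obtain ⟨m, hmQ, hmz, hmK⟩ := hnwc
  have hz1 : mz ≠ 1 := ma_facts.2.2.2.2.2
  have hK0 : ∀ x : CM, IsConj (D.hom mz) (D.hom x) → lab x ≠ 0 := by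
    intro x hx
    obtain ⟨g, hg⟩ := isConj_iff.1 hx
    refine D.lab_ne_zero ?_
    rw [← hg, CfsgLib.Invol.orderOf_conj]
    exact D.orderOf_z
  have hK3 : ∀ x : CM, IsConj (D.hom mz) (D.hom x) → lab x ≠ 3 := fun x hx h3 =>
    D.not_isConj_a (y := mz) (Or.inl lab_facts.1)
      ((D.isConj_of_lab (by rw [lab_facts.2.2.2.2.1]; norm_num)
        (lab_facts.2.2.2.2.1.trans h3.symm)).trans hx.symm)
  have hq : IsConj (D.hom mz) (D.hom mq) := by
    have hm0 := hK0 m hmK
    have hm1 : lab m ≠ 1 := fun h => hmz ((lab_one_iff m).1 h)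
    have := lab_le m
    have hm2 : lab m = 2 := by
      have := hK3 m hmK
      have := lab_of_inQ m hmQ
      omega
    exact hmK.trans (D.isConj_of_lab hm0 (hm2.trans lab_facts.2.1.symm))
  have hlab12 : ∀ x : CM, lab x = 1 ∨ lab x = 2 → IsConj (D.hom mz) (D.hom x) := by
    rintro x (h | h)
    · rw [(lab_one_iff x).1 h]
    · exact hq.trans (D.isConj_of_lab (by rw [lab_facts.2.1]; norm_num) (lab_facts.2.1.trans h.symm))
  by_cases h4 : ∃ x : CM, lab x = 4 ∧ IsConj (D.hom mz) (D.hom x)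
  · right
    obtain ⟨x₄, hx₄, hx₄K⟩ := h4
    have hS : IsPGroup 2 mS := IsPGroup.of_card (n := 6) (by rw [card_mS]; norm_num)
    have hidx : ¬ 2 ∣ mS.index := by
      have h := Subgroup.card_mul_index mS
      rw [card_mS, CM.card] at h
      omega
    refine simple_of_local D.hom D.inj D.range_eq hz1 rel_aqrz.2.2.2.1 mS hS hidx
      (fun y hy hc => center_inS y hy hc) inS_facts.2.1 mz_mem_of_normal ?_ ?_ ?_
    · refine ⟨mq, cjr (mq * mz) * (cjr mq)⁻¹, ma_facts.2.2.2.1, ma_facts.2.2.2.2.1, ma_facts.2.2.1, hq, ?_⟩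
      have e1 := conj_crep mq (by rw [lab_facts.2.1]; norm_num)
      have e2 := conj_crep (mq * mz) (by rw [lab_facts.2.2.1]; norm_num)
      rw [lab_facts.2.1] at e1
      rw [lab_facts.2.2.1] at e2
      conv_lhs =>
        arg 1; arg 2
        rw [← e1]
      conv_rhs => rw [← e2]
      group
    · intro N _ hN
      refine eq_top_of_labels N fun x hx => hN x ?_
      rcases hx with h | h | h
      · exact hlab12 x (Or.inl h)
      · exact hlab12 x (Or.inr h)
      · exact hx₄K.trans (D.isConj_of_lab (by omega) (hx₄.trans h.symm))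
    · obtain ⟨g, hg⟩ := isConj_iff.1 hmK
      exact ⟨g, fun h => hmz (D.inj (hg.symm.trans h))⟩
  · left
    push Not at h4
    refine affine_of_local D.hom D.inj D.range_eq CM.card mE card_mE
      (fun e he => (mE_facts.1 e he).1) (Or.inr (Or.inl lab_facts.1)) hz1
      ⟨fun e he g => (mE_facts.1 e he).2 g⟩ (fun g hg => mE_facts.2 g hg) ⟨ma, ?_, ma_facts.1⟩ ?_
    · rw [mem_mE, lab_facts.2.2.2.2.1]
      simp [ma_facts.2.1]
    · intro x
      rw [mem_mE]
      constructor
      · intro hx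
        have h0 := hK0 x hx
        have h3 := hK3 x hx
        have hle := lab_le x
        have hn4 : lab x ≠ 4 := fun h => h4 x h hx
        refine ⟨by omega, fun h => h0 ((lab_eq_zero_iff x).2 (by simp [h]))⟩
      · rintro ⟨h | h | h, h1⟩
        · exact absurd h h1
        · exact hlab12 x (Or.inl h)
        · exact hlab12 x (Or.inr h)

end CfsgLib.AltEightRecog
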