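import Cfsg.Agent.Lib.M12Recog.Main

/-!
# Simple groups with the involution centraliser of M12, from centraliser data
-/

set_option autoImplicit false
set_option maxRecDepth 100000

namespace CfsgLib.AltEightRecog

open Cfsg CfsgLib.M12Recog

theorem iso_mathieu {G : Type*} [Group G] [Finite G] [IsSimpleGroup G] (hG : ¬ IsMulCommutative G)
    (D : CentData G) : Spor.IsoM12 G := by
  obtain ⟨S⟩ := D.shape_five hG
  obtain ⟨i, hi⟩ := S.exists_rels D (D.fused hG) (D.card_eq hG)
  fin_cases i
  · exact (collapse D S hi Cert0.cert Cert0.check rfl).elim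
  · exact identify D hG S model1 genWords1 fiveWord1 elevenWord1 model1_ok hi Cert1.cert Cert1.check rfl
  · obtain ⟨k, hk⟩ := model2_ok
    exact identify D hG S model2 genWords2 fiveWord2 elevenWord2 hk hi Cert2.cert Cert2.check rfl
  · exact (collapse D S hi Cert3.cert Cert3.check rfl).elim
  · exact (collapse D S hi Cert4.cert Cert4.check rfl).elim
  · exact (collapse D S hi Cert5.cert Cert5.check rfl).elim
  · exact (collapse D S hi Cert6.cert Cert6.check rfl).elim
  · exact (collapse D S hi Cert7.cert Cert7.check rfl).elim
  · exact (collapse D S hi Cert8.cert Cert8.check rfl).elim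
  · exact (collapse D S hi Cert9.cert Cert9.check rfl).elim
  · exact (collapse D S hi Cert10.cert Cert10.check rfl).elim
  · exact (collapse D S hi Cert11.cert Cert11.check rfl).elim

end CfsgLib.AltEightRecog
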