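import Cfsg.Agent.Lib.AltEightRecog.ShapeCases
import Cfsg.Agent.Lib.Extraspecial.Card

/-!
Step 0: under the hypotheses of S3344 the centraliser of the involution is one of the two models.
-/

set_option autoImplicit false
set_option maxHeartbeats 1000000

namespace CfsgLib.AltEightRecog

open Equiv
open scoped commutatorElement

theorem sign_facts : ∀ A B : Perm (Fin 3), A * A * A = 1 → A ≠ 1 → Perm.sign B = -1 →
    Perm.sign A = 1 ∧ B * B = 1 ∧ B * A ≠ A * B := by
  decide +kernel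

/-- The centraliser of the involution is one of the two models. -/
theorem shape {G : Type*} [Group G] [Finite G]
    (s : G) (hs : orderOf s = 2) (L : Subgroup G) (hL : L = Subgroup.centralizer ({s} : Set G))
    (Q : Subgroup G) (hQ : Q = (Cfsg.pCore 2 L).map L.subtype)
    (hQex : Cfsg.IsExtraspecial 2 Q) (hQcard : Nat.card Q = 32)
    (e : L ⧸ Cfsg.pCore 2 L ≃* Equiv.Perm (Fin 3))
    (X : Sylow 3 L) (hCQX : Q ⊓ Subgroup.centralizer (((X : Subgroup L).map L.subtype : Subgroup G) : Set G) = Subgroup.zpowers s)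
    (hnwc : ∃ g : G, g * s * g⁻¹ ∈ Q ∧ g * s * g⁻¹ ≠ s) :
    (∃ D : CfsgLib.AltEightRecog.AltCent G, D.hom az = s) ∨
      (∃ D : CfsgLib.M12Recog.CentData G, D.hom CfsgLib.M12Recog.mz = s) := by
  classical
  have := Fact.mk Nat.prime_two
  have := Fact.mk Nat.prime_three
  set N := Cfsg.pCore 2 L with hN
  have : N.Normal := by rw [hN]; infer_instance
  let π : L →* Perm (Fin 3) := e.toMonoidHom.comp (QuotientGroup.mk' N)
  have hπs : Function.Surjective π := e.surjective.comp (QuotientGroup.mk'_surjective N)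
  have hπk : ∀ x : L, π x = 1 ↔ (x : G) ∈ Q := fun x => by
    show e (QuotientGroup.mk' N x) = 1 ↔ _
    rw [MulEquiv.map_eq_one_iff, QuotientGroup.mk'_apply, QuotientGroup.eq_one_iff, hQ]
    exact ⟨fun h => ⟨x, h, rfl⟩, fun ⟨y, hy, he⟩ => (L.subtype_injective he) ▸ hy⟩
  have hQL : Q ≤ L := hQ ▸ Subgroup.map_subtype_le _
  have hcardN : Nat.card N = 32 := by
    rw [← hQcard, hQ]
    exact (Subgroup.card_map_of_injective L.subtype_injective).symm
  have hcardL : Nat.card L = 192 := by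
    rw [Subgroup.card_eq_card_quotient_mul_card_subgroup N, hcardN, Nat.card_congr e.toEquiv, Nat.card_perm,
      Nat.card_fin]
    rfl
  have hss : s * s = 1 := by rw [← pow_two, ← hs, pow_orderOf_eq_one]
  have hs1 : s ≠ 1 := fun h => by simp [h] at hs
  have hsQ : s ∈ Q := (hCQX ▸ Subgroup.mem_zpowers s : s ∈ Q ⊓ _).1
  have hLc : ∀ x ∈ L, x * s = s * x := fun x hx =>
    Subgroup.mem_centralizer_singleton_iff.1 (hL ▸ hx)
  have hcenQ : ∀ z : Q, z ∈ Subgroup.center Q → (z : G) = 1 ∨ (z : G) = s := by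
    intro z hz
    have hsc : (⟨s, hsQ⟩ : Q) ∈ Subgroup.center Q :=
      Subgroup.mem_center_iff.2 fun w => Subtype.ext (hLc w (hQL w.2))
    obtain ⟨k, hk⟩ := CfsgLib.Extraspecial.ne_one_isPow hQex
      (z := ⟨⟨s, hsQ⟩, hsc⟩) (fun h => hs1 (congrArg (fun w : Subgroup.center Q => ((w : Q) : G)) h)) ⟨z, hz⟩
    have h2 : s ^ k = (z : G) := by
      have := congrArg (fun w : Subgroup.center Q => ((w : Q) : G)) hk
      simpa using this
    rw [← h2]
    rcases Int.even_or_odd' k with ⟨j, rfl | rfl⟩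
    · exact Or.inl (by rw [zpow_mul]; norm_cast; rw [sq, hss, one_zpow])
    · exact Or.inr (by rw [zpow_add, zpow_mul]; norm_cast; rw [sq, hss, one_zpow, one_mul, pow_one])
  -- the element of order 3
  have hX : Nat.card (X : Subgroup L) = 3 := by
    rw [Sylow.card_eq_multiplicity, hcardL,
      show (192 : ℕ).factorization 3 = 1 by
        rw [show (192 : ℕ) = 2 ^ 6 * 3 by norm_num, Nat.factorization_mul (by norm_num) (by norm_num),
          Finsupp.add_apply, Nat.Prime.factorization_pow Nat.prime_two,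
          Nat.Prime.factorization Nat.prime_three]
        simp]
    rfl
  obtain ⟨ρ, hρX, hρ1⟩ : ∃ ρ ∈ (X : Subgroup L), ρ ≠ 1 := by
    have : Nontrivial (X : Subgroup L) := Finite.one_lt_card_iff_nontrivial.1 (by omega)
    obtain ⟨⟨x, hx⟩, hne⟩ := exists_ne (1 : (X : Subgroup L))
    exact ⟨x, hx, fun h => hne (Subtype.ext h)⟩
  have hXρ : ∀ x ∈ (X : Subgroup L), x ∈ Subgroup.zpowers ρ := by
    intro x hx
    obtain ⟨k, hk⟩ := Subgroup.mem_zpowers_iff.1 (mem_zpowers_of_prime_card (p := 3) (g' := (⟨x, hx⟩ : (X : Subgroup L)))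
      (g := ⟨ρ, hρX⟩) hX (fun h => hρ1 (congrArg Subtype.val h)))
    exact Subgroup.mem_zpowers_iff.2 ⟨k, congrArg Subtype.val hk⟩
  have hρ3 : ρ ^ 3 = 1 := by
    have := pow_card_eq_one' (G := (X : Subgroup L)) (x := ⟨ρ, hρX⟩)
    rw [hX] at this
    exact congrArg Subtype.val this
  have hρord : orderOf ρ = 3 := orderOf_eq_prime hρ3 hρ1
  have hρQ : (ρ : G) ∉ Q := by
    intro h
    obtain ⟨k, hk⟩ := IsPGroup.iff_orderOf.1 hQex.1.1 ⟨ρ, h⟩
    rw [Subgroup.orderOf_mk, Subgroup.orderOf_coe, hρord] at hk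
    rcases k with _ | k
    · norm_num at hk
    · rw [pow_succ] at hk; omega
  set A := π ρ with hAdef
  have hA3 : A * A * A = 1 := by
    rw [hAdef, ← map_mul, ← map_mul, ← pow_two, ← pow_succ, hρ3, map_one]
  have hA1 : A ≠ 1 := fun h => hρQ ((hπk ρ).1 h)
  -- an inverting element
  set R := ((Equiv.Perm.sign).comp π).ker with hR
  have hXR : (X : Subgroup L) ≤ R := by
    intro x hx
    obtain ⟨k, rfl⟩ := Subgroup.mem_zpowers_iff.1 (hXρ x hx)
    refine R.zpow_mem ?_ k
    rw [hR, MonoidHom.mem_ker, MonoidHom.comp_apply]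
    obtain ⟨B, hB⟩ : ∃ B : Perm (Fin 3), Perm.sign B = -1 := ⟨Equiv.swap 0 1, by decide⟩
    exact (sign_facts A B hA3 hA1 hB).1
  have hfr := Sylow.normalizer_sup_eq_top (N := R) (X.subtype hXR)
  rw [Sylow.coe_subtype, Subgroup.map_subgroupOf_eq_of_le hXR] at hfr
  obtain ⟨τ, hτN, hτR⟩ : ∃ τ ∈ Subgroup.normalizer ((X : Subgroup L) : Set L), τ ∉ R := by
    by_contra h
    push Not at h
    have htop : R = ⊤ := top_unique (hfr ▸ sup_le h le_rfl)
    obtain ⟨x, hx⟩ := hπs (Equiv.swap 0 1)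
    have : x ∈ R := htop ▸ Subgroup.mem_top x
    rw [hR, MonoidHom.mem_ker, MonoidHom.comp_apply, hx] at this
    exact absurd this (by decide)
  set B := π τ with hBdef
  have hB : Perm.sign B = -1 := by
    rcases Int.units_eq_one_or (Perm.sign B) with h | h
    · exact absurd (by rw [hR, MonoidHom.mem_ker, MonoidHom.comp_apply]; exact h) hτR
    · exact h
  obtain ⟨-, hBB, hBA⟩ := sign_facts A B hA3 hA1 hB
  have hτρ : τ * ρ = ρ * (ρ * τ) := by
    have hm : τ * ρ * τ⁻¹ ∈ (X : Subgroup L) := (Subgroup.mem_normalizer_iff.1 hτN ρ).1 hρX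
    obtain ⟨k, hk⟩ := Subgroup.mem_zpowers_iff.1 (hXρ _ hm)
    obtain ⟨j, hj⟩ : ∃ j : ℕ, j < 3 ∧ ρ ^ j = τ * ρ * τ⁻¹ := by
      refine ⟨(k % 3).toNat, by omega, ?_⟩
      rw [← hk, ← zpow_natCast, Int.toNat_of_nonneg (Int.emod_nonneg _ (by norm_num))]
      have h := zpow_mod_orderOf ρ k
      rw [hρord] at h
      exact h
    obtain ⟨hj3, hj⟩ := hj
    interval_cases j
    · rw [pow_zero] at hj
      exact absurd (conj_eq_one_iff.1 hj.symm) hρ1
    · refine absurd ?_ hBA
      rw [pow_one] at hj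
      rw [hBdef, hAdef, ← map_mul, ← map_mul]
      exact congrArg π (by rw [← mul_inv_eq_iff_eq_mul]; exact hj.symm)
    · rw [pow_two] at hj
      rw [← mul_assoc, hj, inv_mul_cancel_right]
  have hτ2Q : ((τ * τ : L) : G) ∈ Q := (hπk _).1 (by rw [map_mul]; exact hBB)
  have hfixX : ∀ x : L, (x : G) ∈ Q → Commute ρ x → (x : G) = 1 ∨ (x : G) = s := by
    intro x hx hc
    have : (x : G) ∈ Q ⊓ Subgroup.centralizer (((X : Subgroup L).map L.subtype : Subgroup G) : Set G) := by
      refine ⟨hx, Subgroup.mem_centralizer_iff.2 ?_⟩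
      rintro _ ⟨y, hy, rfl⟩
      obtain ⟨k, rfl⟩ := Subgroup.mem_zpowers_iff.1 (hXρ y hy)
      exact congrArg Subtype.val ((hc.zpow_left k).eq)
    rw [hCQX] at this
    obtain ⟨k, hk⟩ := Subgroup.mem_zpowers_iff.1 this
    rw [← hk]
    rcases Int.even_or_odd' k with ⟨j, rfl | rfl⟩
    · exact Or.inl (by rw [zpow_mul]; norm_cast; rw [sq, hss, one_zpow])
    · exact Or.inr (by rw [zpow_add, zpow_mul]; norm_cast; rw [sq, hss, one_zpow, one_mul, pow_one])
  have hnorm : ∀ y : L, ∀ x ∈ Q, (y : G) * x * (y : G)⁻¹ ∈ Q := by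
    intro y x hx
    rw [hQ] at hx ⊢
    obtain ⟨w, hw, rfl⟩ := hx
    exact ⟨y * w * y⁻¹, (inferInstance : N.Normal).conj_mem w hw y, rfl⟩
  have C : Core s Q (ρ : G) (τ : G) :=
    { ss := hss
      s_ne := hs1
      s_mem := hsQ
      cardQ := hQcard
      central := fun x hx => hLc x (hQL hx)
      rs := hLc _ ρ.2
      ts := hLc _ τ.2
      sq_mem := fun x hx => by
        have := hcenQ _ (CfsgLib.Extraspecial.pow_mem_center hQex ⟨x, hx⟩)
        simpa [pow_two] using this
      comm_mem := fun x hx y hy => by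
        have h := hcenQ _ (CfsgLib.Extraspecial.commutatorElement_mem_center hQex ⟨y, hy⟩ ⟨x, hx⟩)
        rw [show (((⁅(⟨y, hy⟩ : Q), ⟨x, hx⟩⁆ : Q)) : G) = y * x * y⁻¹ * x⁻¹ from rfl] at h
        rcases h with h | h
        · left
          calc y * x = y * x * y⁻¹ * x⁻¹ * (x * y) := by group
            _ = x * y := by rw [h, one_mul]
        · right
          calc y * x = y * x * y⁻¹ * x⁻¹ * (x * y) := by group
            _ = _ := by rw [h]
      cent := fun x hx hall => hcenQ ⟨x, hx⟩ (Subgroup.mem_center_iff.2 fun w => Subtype.ext (hall w w.2))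
      norm_r := hnorm ρ
      norm_t := hnorm τ
      fix := fun x hx he => hfixX ⟨x, hQL hx⟩ hx (Subtype.ext (mul_inv_eq_iff_eq_mul.1 he))
      rrr := by
        have := congrArg Subtype.val hρ3
        simpa [pow_succ, mul_assoc] using this
      tr := congrArg Subtype.val hτρ
      tt := hfixX (τ * τ) hτ2Q (by
        show ρ * (τ * τ) = τ * τ * ρ
        symm
        calc τ * τ * ρ = τ * (τ * ρ) := mul_assoc _ _ _
          _ = τ * (ρ * (ρ * τ)) := congrArg (τ * ·) hτρ
          _ = τ * ρ * (ρ * τ) := (mul_assoc _ _ _).symm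
          _ = ρ * (ρ * τ) * (ρ * τ) := congrArg (· * (ρ * τ)) hτρ
          _ = ρ * ρ * (τ * ρ) * τ := by simp only [mul_assoc]
          _ = ρ * ρ * (ρ * (ρ * τ)) * τ := congrArg (ρ * ρ * · * τ) hτρ
          _ = ρ ^ 3 * (ρ * (τ * τ)) := by simp only [pow_succ, pow_zero, one_mul, mul_assoc]
          _ = _ := by rw [hρ3, one_mul])
      surj := fun g hg => by
        have hgL : g ∈ L := hL ▸ Subgroup.mem_centralizer_singleton_iff.2 hg
        obtain ⟨k, l, hkl⟩ := (perm_three A B (π ⟨g, hgL⟩) hA3 hA1 hB).2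
        set w : L := ρ ^ (k : ℕ) * pw τ l
        have hw : π w = π ⟨g, hgL⟩ := by
          rw [hkl, map_mul, map_pow]
          cases l
          · simp [pw, hAdef]
          · simp [pw, hAdef, hBdef]
        refine ⟨((⟨g, hgL⟩ * w⁻¹ : L) : G), (hπk _).1 (by rw [map_mul, map_inv, hw, mul_inv_cancel]), k, l, ?_⟩
        have hwG : (w : G) = (ρ : G) ^ (k : ℕ) * pw (τ : G) l := by
          cases l <;> simp [w, pw]
        rw [← hwG, ← Subgroup.coe_mul, inv_mul_cancel_right]
      cardL := hL ▸ hcardL }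
  exact C.model_cases hnwc

end CfsgLib.AltEightRecog
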