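import Cfsg.Agent.Lib.AltEightRecog.AltCase
import Cfsg.Agent.Lib.AltEightRecog.MathieuCase
import Cfsg.Agent.Lib.AltEightRecog.MathieuIso
import Cfsg.Agent.Lib.AltEightRecog.Shape

/-!
# The involution centraliser `2^{1+4}.S3`: assembly, given the dichotomy A8 / A9
-/

set_option autoImplicit false

namespace CfsgLib.AltEightRecog

open Cfsg

universe u

theorem assembly {G : Type u} [Group G] [Finite G]
    (hNine : ∀ (D : AltCent G) (G0 : Subgroup G), NineSetting D G0 →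
      G0 = ⊤ ∨ Nonempty (G ≃* alternatingGroup (Fin 9)))
    (s : G) (hs : orderOf s = 2) (L : Subgroup G) (hL : L = Subgroup.centralizer ({s} : Set G))
    (Q : Subgroup G) (hQ : Q = (Cfsg.pCore 2 L).map L.subtype)
    (hQex : Cfsg.IsExtraspecial 2 Q) (hQcard : Nat.card Q = 32)
    (e : L ⧸ Cfsg.pCore 2 L ≃* Equiv.Perm (Fin 3))
    (X : Sylow 3 L) (hCQX : Q ⊓ Subgroup.centralizer (((X : Subgroup L).map L.subtype : Subgroup G) : Set G) = Subgroup.zpowers s)
    (hnwc : ∃ g : G, g * s * g⁻¹ ∈ Q ∧ g * s * g⁻¹ ≠ s) :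
    (∃ (N : Subgroup G) (hN : N.Normal), IsMulCommutative N ∧ (∀ n ∈ N, n ^ 2 = 1) ∧ Nat.card N = 8 ∧
        Nonempty (G ⧸ N ≃* Matrix.ProjectiveSpecialLinearGroup (Fin 3) (ZMod 2))) ∨
    Nonempty (G ≃* alternatingGroup (Fin 8)) ∨ Nonempty (G ≃* alternatingGroup (Fin 9)) ∨ Cfsg.Spor.IsoM12 G := by
  rcases shape s hs L hL Q hQ hQex hQcard e X hCQX hnwc with ⟨D, hD⟩ | ⟨D, hD⟩
  · subst hD
    rcases alt_case D (D.exists_core L Q hL hQ hnwc) with h | ⟨D', G0, h⟩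
    · exact Or.inl h
    rcases hNine D' G0 h with hG0 | h9
    · obtain ⟨iso⟩ := h.alt
      subst hG0
      exact Or.inr (Or.inl ⟨Subgroup.topEquiv.symm.trans iso⟩)
    · exact Or.inr (Or.inr (Or.inl h9))
  · subst hD
    rcases mathieu_case D (mathieu_exists_core D L Q hL hQ hnwc) with h | ⟨hsimple, hnab⟩
    · exact Or.inl h
    haveI := hsimple
    exact Or.inr (Or.inr (Or.inr (iso_mathieu hnab D)))

end CfsgLib.AltEightRecog
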