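import Cfsg.Agent.Lib.AltEightRecog.Facts
import Cfsg.Agent.Lib.M12Recog.Setup
import Cfsg.Agent.Lib.Solvable.Core
import Cfsg.Agent.Lib.Solvable.Basic

/-!
# Conjugates of the centre in the largest normal 2-subgroup of the centraliser, seen in the models
-/

set_option autoImplicit false
set_option maxRecDepth 100000

namespace CfsgLib.AltEightRecog

/-- An element of the 2-core has no product of order 3 with its conjugates. -/
theorem mem_core_aux {G : Type*} [Group G] [Finite G] (L : Subgroup G) {Q : Subgroup G}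
    (hQ : Q = (Cfsg.pCore 2 L).map L.subtype) {a l : G} (ha : a ∈ Q) (hl : l ∈ L)
    (h3 : (a * (l * a * l⁻¹)) ^ 3 = 1) : a * (l * a * l⁻¹) = 1 := by
  haveI : Fact (Nat.Prime 2) := ⟨Nat.prime_two⟩
  haveI := CfsgLib.Solvable.pCore_normal 2 L
  subst hQ
  obtain ⟨a', ha', rfl⟩ := ha
  have hmem : a' * (⟨l, hl⟩ * a' * (⟨l, hl⟩ : L)⁻¹) ∈ Cfsg.pCore 2 L :=
    (Cfsg.pCore 2 L).mul_mem ha' ((inferInstance : (Cfsg.pCore 2 L).Normal).conj_mem a' ha' _)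
  obtain ⟨k, hk⟩ := CfsgLib.Solvable.pCore_isPGroup 2 L ⟨_, hmem⟩
  set u : L := a' * (⟨l, hl⟩ * a' * (⟨l, hl⟩ : L)⁻¹) with hu
  have hk' : u ^ 2 ^ k = 1 := congrArg Subtype.val hk
  have hu3 : u ^ 3 = 1 := Subtype.ext h3
  have hdvd : orderOf u ∣ 1 := by
    rw [← show Nat.gcd (2 ^ k) 3 = 1 from Nat.Coprime.pow_left k (by norm_num)]
    exact Nat.dvd_gcd (orderOf_dvd_of_pow_eq_one hk') (orderOf_dvd_of_pow_eq_one hu3)
  exact congrArg Subtype.val (orderOf_eq_one_iff.1 (Nat.dvd_one.1 hdvd))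

theorem AltCent.exists_core {G : Type*} [Group G] [Finite G] (D : AltCent G) (L Q : Subgroup G)
    (hL : L = Subgroup.centralizer ({D.hom az} : Set G)) (hQ : Q = (Cfsg.pCore 2 L).map L.subtype)
    (hnwc : ∃ g : G, g * D.hom az * g⁻¹ ∈ Q ∧ g * D.hom az * g⁻¹ ≠ D.hom az) :
    ∃ m : CA, (lab m = 2 ∨ lab m = 3 ∨ lab m = 4) ∧ IsConj (D.hom az) (D.hom m) := by
  obtain ⟨g, hgQ, hne⟩ := hnwc
  have hQL : Q ≤ L := hQ ▸ Subgroup.map_subtype_le _
  obtain ⟨m, hm⟩ : g * D.hom az * g⁻¹ ∈ D.hom.range := D.range_eq.ge (hL ▸ hQL hgQ)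
  have hconj : IsConj (D.hom az) (D.hom m) := isConj_iff.2 ⟨g, hm.symm⟩
  have hz2 : (az : CA) * az = 1 := by decide +kernel
  have hm2 : m * m = 1 := D.inj (by
    rw [map_mul, map_one, hm, show g * D.hom az * g⁻¹ * (g * D.hom az * g⁻¹) = g * (D.hom az * D.hom az) * g⁻¹ by group,
      ← map_mul, hz2, map_one, mul_one, mul_inv_cancel])
  have hm1 : m ≠ 1 := fun h => by
    rw [h, map_one] at hm
    have h1 : az = 1 := D.inj ((conj_eq_one_iff.1 hm.symm).trans (map_one _).symm)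
    exact absurd h1 (by decide +kernel)
  have h0 : lab m ≠ 0 := fun h => (lab_eq_zero_iff m).1 h ⟨hm2, hm1⟩
  have h1 : lab m ≠ 1 := fun h => hne (by rw [← hm, (lab_one_iff m).1 h])
  have h5 : ¬ 5 ≤ lab m := fun h => by
    obtain ⟨l, hl3, hl1⟩ := outer_three m h
    refine hl1 (D.inj ?_)
    rw [map_one, map_mul, map_mul, map_mul, map_inv]
    refine mem_core_aux L hQ (hm ▸ hgQ) (hL ▸ D.range_eq.le ⟨l, rfl⟩) ?_
    rw [← map_inv, ← map_mul, ← map_mul, ← map_mul, ← map_pow, hl3, map_one]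
  exact ⟨m, by omega, hconj⟩

theorem mathieu_outer_three : ∀ m : M12Recog.CM, M12Recog.inQ m = false → m * m = 1 →
    ∃ l : M12Recog.CM, (m * (l * m * l⁻¹)) ^ 3 = 1 ∧ m * (l * m * l⁻¹) ≠ 1 := by decide +kernel

theorem mathieu_exists_core {G : Type*} [Group G] [Finite G] (D : M12Recog.CentData G) (L Q : Subgroup G)
    (hL : L = Subgroup.centralizer ({D.hom M12Recog.mz} : Set G)) (hQ : Q = (Cfsg.pCore 2 L).map L.subtype)
    (hnwc : ∃ g : G, g * D.hom M12Recog.mz * g⁻¹ ∈ Q ∧ g * D.hom M12Recog.mz * g⁻¹ ≠ D.hom M12Recog.mz) :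
    ∃ m : M12Recog.CM, M12Recog.inQ m = true ∧ m ≠ M12Recog.mz ∧ IsConj (D.hom M12Recog.mz) (D.hom m) := by
  obtain ⟨g, hgQ, hne⟩ := hnwc
  have hQL : Q ≤ L := hQ ▸ Subgroup.map_subtype_le _
  obtain ⟨m, hm⟩ : g * D.hom M12Recog.mz * g⁻¹ ∈ D.hom.range := D.range_eq.ge (hL ▸ hQL hgQ)
  refine ⟨m, ?_, fun h => hne (by rw [← hm, h]), isConj_iff.2 ⟨g, hm.symm⟩⟩
  by_contra hb
  rw [Bool.not_eq_true] at hb
  have hz2 : (M12Recog.mz : M12Recog.CM) * M12Recog.mz = 1 := by decide +kernel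
  have hm2 : m * m = 1 := D.inj (by
    rw [map_mul, map_one, hm, show g * D.hom M12Recog.mz * g⁻¹ * (g * D.hom M12Recog.mz * g⁻¹) =
      g * (D.hom M12Recog.mz * D.hom M12Recog.mz) * g⁻¹ by group,
      ← map_mul, hz2, map_one, mul_one, mul_inv_cancel])
  obtain ⟨l, hl3, hl1⟩ := mathieu_outer_three m hb hm2
  refine hl1 (D.inj ?_)
  rw [map_one, map_mul, map_mul, map_mul, map_inv]
  refine mem_core_aux L hQ (hm ▸ hgQ) (hL ▸ D.range_eq.le ⟨l, rfl⟩) ?_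
  rw [← map_inv, ← map_mul, ← map_mul, ← map_mul, ← map_pow, hl3, map_one]

end CfsgLib.AltEightRecog
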