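import Cfsg.Agent.Lib.AltEightRecog.Model
import Mathlib.Tactic.Group

/-!
# One side of the degree-eight alternating configuration

From an element inducing a transvection on a normal elementary group of order eight of the centraliser
we derive the root involution satisfying the elementary relations with the model of the centraliser.
-/

set_option autoImplicit false
set_option maxRecDepth 100000
set_option linter.style.haveILetI false
set_option linter.unusedSectionVars false
set_option maxHeartbeats 1000000

namespace CfsgLib.AltEightRecog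

/-- The fixed root element `(2,3)`. -/
def p23 : CA := ⟨7, 6⟩
/-- The fixed root element `(3,2)`. -/
def p32 : CA := ⟨7, 14⟩

/-- The eight elements spanned by `az, p, q`. -/
def span3 (p q : CA) : List CA := [1, az, p, q, az * p, az * q, p * q, az * p * q]

/-- The table facts about one labelling of root elements in the model. -/
structure Lab (q12 q13 q24 q34 : CA) : Prop where
  s12 : q12 * q12 = 1
  s13 : q13 * q13 = 1
  s24 : q24 * q24 = 1
  s34 : q34 * q34 = 1
  s23 : p23 * p23 = 1
  s32 : p32 * p32 = 1
  sz : az * az = 1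
  central : ∀ w : CA, az * w = w * az
  c12_24 : q12 * q24 * q12 = az * q24
  c12_34 : q12 * q34 * q12 = q34
  c12_23 : q12 * p23 * q12 = q13 * p23
  c12_32 : q12 * p32 * q12 = p32
  c13_24 : q13 * q24 * q13 = q24
  c13_34 : q13 * q34 * q13 = az * q34
  c13_23 : q13 * p23 = p23 * q13
  c23_24 : p23 * q24 * p23 = q24
  c23_34 : p23 * q34 * p23 = q24 * q34
  c32_24 : p32 * q24 * p32 = q34 * q24
  c32_34 : p32 * q34 * p32 = q34
  c24_34 : q24 * q34 = q34 * q24
  braid : p23 * p32 * p23 = p32 * p23 * p32
  w13 : p23 * p32 * p23 * q13 * (p23 * p32 * p23) = q12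
  w23 : p23 * p32 * p23 * p23 * (p23 * p32 * p23) = p32
  cent : ∀ w : CA, w * q24 = q24 * w → w * q34 = q34 * w → w ∈ span3 q24 q34
  cand : ∀ u : CA, u * u = 1 → u * q24 = q24 * u → u * q34 * u = az * q24 * q34 →
    u = q12 * u * q12 * q13 → u = q13 * p23 ∨ u = q13 * p23 * az
  fix_d : ∀ a b c : Bool, (bif a then q24 else 1) * (bif b then az * q24 else 1) * (bif c then q34 else 1)
    = (bif a then az else 1) * (bif b then q24 else 1) * (bif c then q34 else 1) → a = false ∧ b = false
  indep : q24 ≠ 1 ∧ q34 ≠ 1 ∧ az * q24 ≠ 1 ∧ az * q34 ≠ 1 ∧ q24 * q34 ≠ 1 ∧ az * q24 * q34 ≠ 1 ∧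
    q34 * q24 ≠ az * q24 ∧ az ≠ 1

variable {G : Type*} [Group G] (D : AltCent G) {q12 q13 q24 q34 : CA}

/-- The output of one side. -/
structure Side (q12 q13 q24 q34 : CA) (n : G) : Prop where
  sq : n * n = 1
  c14 : n * D.hom az * n = D.hom az * D.hom q24
  c24 : n * D.hom q24 * n = D.hom q24
  c34 : n * D.hom q34 * n = D.hom q34
  c23 : n * D.hom p23 * n = D.hom p23
  c13 : n * D.hom q13 * n = D.hom q13 * D.hom p23
  tri : n * D.hom q12 * n = D.hom q12 * n * D.hom q12
  cw : Commute n (D.hom (p23 * p32 * p23) * n * D.hom (p23 * p32 * p23))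
  c32 : D.hom p32 * n * D.hom p32 = D.hom (p23 * p32 * p23) * n * D.hom (p23 * p32 * p23) * n

theorem conj_mul {a x y : G} : a * (x * y) * a⁻¹ = (a * x * a⁻¹) * (a * y * a⁻¹) := by group

theorem mem_range_of_commute {g : G} (h : g * D.hom az = D.hom az * g) : ∃ w, D.hom w = g := by
  have : g ∈ D.hom.range := by
    rw [D.range_eq, Subgroup.mem_centralizer_singleton_iff]; exact h
  exact this

theorem inv_of_sq {x : G} (h : x * x = 1) : x⁻¹ = x := inv_eq_of_mul_eq_one_right h

theorem cvm {G : Type*} [Group G] (v : G) (vv : v * v = 1) {a b : G} :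
    v * (a * b) * v = (v * a * v) * (v * b * v) := by
  simp [mul_assoc, ← mul_assoc v v, vv]

theorem exists_side (L : Lab q12 q13 q24 q34) {n0 : G}
    (a14 : n0 * D.hom az * n0⁻¹ = D.hom az * D.hom q24)
    (a24 : n0 * D.hom q24 * n0⁻¹ = D.hom q24) (a34 : n0 * D.hom q34 * n0⁻¹ = D.hom q34)
    (hK : IsConj (D.hom az) (D.hom q13)) (hnK : ¬ IsConj (D.hom az) (D.hom (p23 * az))) :
    ∃ n, Side D q12 q13 q24 q34 n := by
  set z := D.hom az with hz
  set A := D.hom q12 with hA
  set B := D.hom q13 with hB
  set P := D.hom q24 with hP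
  set Q := D.hom q34 with hQ
  set X := D.hom p23 with hX
  set Y := D.hom p32 with hY
  have m : ∀ {a b : CA}, a = b → D.hom a = D.hom b := fun h => congrArg _ h
  have zz : z * z = 1 := by rw [hz, ← map_mul, L.sz, map_one]
  have AA : A * A = 1 := by rw [hA, ← map_mul, L.s12, map_one]
  have PP : P * P = 1 := by rw [hP, ← map_mul, L.s24, map_one]
  have QQ : Q * Q = 1 := by rw [hQ, ← map_mul, L.s34, map_one]
  have XX : X * X = 1 := by rw [hX, ← map_mul, L.s23, map_one]
  have YY : Y * Y = 1 := by rw [hY, ← map_mul, L.s32, map_one]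
  have zP : z * P = P * z := by rw [hz, hP, ← map_mul, ← map_mul, L.central]
  have zQ : z * Q = Q * z := by rw [hz, hQ, ← map_mul, ← map_mul, L.central]
  have PQ : P * Q = Q * P := by rw [hP, hQ, ← map_mul, ← map_mul, L.c24_34]
  have Ai := inv_of_sq AA
  have Az : A * z * A = z := by
    rw [hA, hz, ← map_mul, ← map_mul, ← L.central, mul_assoc, L.s12, mul_one]
  have AP : A * P * A = z * P := by rw [hA, hP, ← map_mul, ← map_mul, L.c12_24, map_mul]
  have AQ : A * Q * A = Q := by rw [hA, hQ, ← map_mul, ← map_mul, L.c12_34]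
  -- the centraliser of the eight-group
  have hcent : ∀ g : G, g * z = z * g → g * P = P * g → g * Q = Q * g →
      g = 1 ∨ g = z ∨ g = P ∨ g = Q ∨ g = z * P ∨ g = z * Q ∨ g = P * Q ∨ g = z * P * Q := by
    intro g h1 h2 h3
    obtain ⟨w, rfl⟩ := mem_range_of_commute D h1
    have hw := L.cent w (D.inj (by rw [map_mul, map_mul]; exact h2))
      (D.inj (by rw [map_mul, map_mul]; exact h3))
    simp only [span3, List.mem_cons, List.not_mem_nil, or_false] at hw
    rcases hw with rfl | rfl | rfl | rfl | rfl | rfl | rfl | rfl <;>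
      simp [hz, hP, hQ]
  have ne : ∀ {w : CA}, w ≠ 1 → D.hom w ≠ 1 := fun h e => h (D.inj (by rw [e, map_one]))
  have nP : P ≠ 1 := ne L.indep.1
  have nQ : Q ≠ 1 := ne L.indep.2.1
  have nzP : z * P ≠ 1 := by rw [hz, hP, ← map_mul]; exact ne L.indep.2.2.1
  have nzQ : z * Q ≠ 1 := by rw [hz, hQ, ← map_mul]; exact ne L.indep.2.2.2.1
  have nPQ : P * Q ≠ 1 := by rw [hP, hQ, ← map_mul]; exact ne L.indep.2.2.2.2.1
  have nzPQ : z * P * Q ≠ 1 := by rw [hz, hP, hQ, ← map_mul, ← map_mul]; exact ne L.indep.2.2.2.2.2.1
  have nz : z ≠ 1 := ne L.indep.2.2.2.2.2.2.2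
  have hzP : ∀ g : G, g * z * g⁻¹ = P → g * P * g⁻¹ = z * P → g * (z * P) * g⁻¹ = z := by
    intro g h1 h2
    calc g * (z * P) * g⁻¹ = (g * z * g⁻¹) * (g * P * g⁻¹) := conj_mul
      _ = z := by rw [h1, h2, ← mul_assoc, ← zP, mul_assoc, PP, mul_one]
  have hAzP : A * (z * P) * A = P := by
    calc A * (z * P) * A = (A * z * A⁻¹) * (A * P * A⁻¹) := by rw [Ai]; simp [mul_assoc, ← mul_assoc A A, AA]
      _ = P := by rw [Ai, Az, AP, ← mul_assoc, zz, one_mul]
  have hAzQ : A * (z * Q) * A = z * Q := by
    calc A * (z * Q) * A = (A * z * A) * (A * Q * A) := by simp [mul_assoc, ← mul_assoc A A, AA]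
      _ = z * Q := by rw [Az, AQ]
  have hAzPQ : A * (z * P * Q) * A = P * Q := by
    calc A * (z * P * Q) * A = (A * (z * P) * A) * (A * Q * A) := by
          simp [mul_assoc, ← mul_assoc A A, AA]
      _ = P * Q := by rw [hAzP, AQ]
  -- an element of order three acting on the plane
  set d := A * n0 with hd
  have dz : d * z * d⁻¹ = P := by
    calc d * z * d⁻¹ = A * (n0 * z * n0⁻¹) * A⁻¹ := by rw [hd]; group
      _ = (A * z * A⁻¹) * (A * P * A⁻¹) := by rw [a14, conj_mul]
      _ = P := by rw [Ai, Az, AP, ← mul_assoc, zz, one_mul]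
  have dP : d * P * d⁻¹ = z * P := by
    calc d * P * d⁻¹ = A * (n0 * P * n0⁻¹) * A⁻¹ := by rw [hd]; group
      _ = z * P := by rw [a24, Ai, AP]
  have dQ : d * Q * d⁻¹ = Q := by
    calc d * Q * d⁻¹ = A * (n0 * Q * n0⁻¹) * A⁻¹ := by rw [hd]; group
      _ = Q := by rw [a34, Ai, AQ]
  -- replace `d` by an element of order three with the same action
  obtain ⟨d, d3, dz, dP, dQ⟩ :
      ∃ d : G, d * d * d = 1 ∧ d * z * d⁻¹ = P ∧ d * P * d⁻¹ = z * P ∧ d * Q * d⁻¹ = Q := by
    have hz3 : (d * d * d) * z = z * (d * d * d) := by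
      refine mul_inv_eq_iff_eq_mul.mp ?_
      calc d * d * d * z * (d * d * d)⁻¹ = d * (d * (d * z * d⁻¹) * d⁻¹) * d⁻¹ := by group
        _ = z := by rw [dz, dP, hzP d dz dP]
    have hP3 : (d * d * d) * P = P * (d * d * d) := by
      refine mul_inv_eq_iff_eq_mul.mp ?_
      calc d * d * d * P * (d * d * d)⁻¹ = d * (d * (d * P * d⁻¹) * d⁻¹) * d⁻¹ := by group
        _ = P := by rw [dP, hzP d dz dP, dz]
    have hQ3 : (d * d * d) * Q = Q * (d * d * d) := by
      refine mul_inv_eq_iff_eq_mul.mp ?_
      calc d * d * d * Q * (d * d * d)⁻¹ = d * (d * (d * Q * d⁻¹) * d⁻¹) * d⁻¹ := by group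
        _ = Q := by rw [dQ, dQ, dQ]
    have hfix : d * (d * d * d) * d⁻¹ = d * d * d := by group
    rcases hcent _ hz3 hP3 hQ3 with e | e | e | e | e | e | e | e <;> rw [e] at hfix
    · exact ⟨d, e, dz, dP, dQ⟩
    · rw [dz] at hfix
      exact absurd (by rw [hfix, zz] : z * P = 1) nzP
    · rw [dP] at hfix
      exact absurd (mul_eq_right.mp hfix) nz
    · refine ⟨d * Q, ?_, ?_, ?_, ?_⟩
      · have hc : Commute d Q := mul_inv_eq_iff_eq_mul.mp dQ
        calc d * Q * (d * Q) * (d * Q) = d * (Q * d) * (Q * d) * Q := by group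
          _ = d * (d * Q) * (d * Q) * Q := by rw [hc.eq]
          _ = d * d * (Q * d) * (Q * Q) := by group
          _ = d * d * d * Q := by rw [← hc.eq, QQ, mul_one, ← mul_assoc]
          _ = 1 := by rw [e, QQ]
      · calc d * Q * z * (d * Q)⁻¹ = d * (Q * z * Q⁻¹) * d⁻¹ := by group
          _ = P := by rw [← zQ, mul_inv_cancel_right, dz]
      · calc d * Q * P * (d * Q)⁻¹ = d * (Q * P * Q⁻¹) * d⁻¹ := by group
          _ = z * P := by rw [← PQ, mul_inv_cancel_right, dP]
      · calc d * Q * Q * (d * Q)⁻¹ = d * Q * d⁻¹ := by group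
          _ = Q := dQ
    · rw [conj_mul, dz, dP, ← mul_assoc, ← zP, mul_assoc, PP, mul_one] at hfix
      exact absurd (left_eq_mul.mp hfix) nP
    · rw [conj_mul, dz, dQ] at hfix
      rw [mul_left_inj] at hfix
      exact absurd (by rw [hfix, zz] : z * P = 1) nzP
    · rw [conj_mul, dP, dQ] at hfix
      rw [mul_left_inj] at hfix
      exact absurd (mul_eq_right.mp hfix) nz
    · rw [conj_mul, conj_mul, dz, dP, dQ, mul_left_inj, ← mul_assoc, ← zP, mul_assoc, PP,
        mul_one] at hfix
      exact absurd (left_eq_mul.mp hfix) nP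
  -- make it inverted by `A`
  obtain ⟨d, d3, dz, dP, dQ, hinv⟩ : ∃ d : G, d * d * d = 1 ∧ d * z * d⁻¹ = P ∧
      d * P * d⁻¹ = z * P ∧ d * Q * d⁻¹ = Q ∧ A * d * A * d = 1 := by
    have dzP : d * (z * P) * d⁻¹ = z := hzP d dz dP
    have diz : d⁻¹ * z * d = z * P := by
      calc d⁻¹ * z * d = d⁻¹ * (d * (z * P) * d⁻¹) * d := by rw [dzP]
        _ = z * P := by group
    have hz2 : (A * d * A * d) * z = z * (A * d * A * d) := by
      refine mul_inv_eq_iff_eq_mul.mp ?_
      calc A * d * A * d * z * (A * d * A * d)⁻¹
          = A * (d * (A * (d * z * d⁻¹) * A⁻¹) * d⁻¹) * A⁻¹ := by group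
        _ = z := by rw [dz, Ai, AP, dzP, Az]
    have hP2 : (A * d * A * d) * P = P * (A * d * A * d) := by
      refine mul_inv_eq_iff_eq_mul.mp ?_
      calc A * d * A * d * P * (A * d * A * d)⁻¹
          = A * (d * (A * (d * P * d⁻¹) * A⁻¹) * d⁻¹) * A⁻¹ := by group
        _ = P := by rw [dP, Ai, hAzP, dP, hAzP]
    have hQ2 : (A * d * A * d) * Q = Q * (A * d * A * d) := by
      refine mul_inv_eq_iff_eq_mul.mp ?_
      calc A * d * A * d * Q * (A * d * A * d)⁻¹
          = A * (d * (A * (d * Q * d⁻¹) * A⁻¹) * d⁻¹) * A⁻¹ := by group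
        _ = Q := by rw [dQ, Ai, AQ, dQ, AQ]
    set e := A * d * A * d with he
    have di : d⁻¹ = d * d := inv_eq_of_mul_eq_one_right (by rw [← mul_assoc, d3])
    -- the cube of `e d⁻¹` is one
    have hcube : e * (d⁻¹ * e * d) * (d * e * d⁻¹) = 1 := by
      have h1 : e * d⁻¹ = A * d * A := by rw [he, mul_inv_cancel_right]
      calc e * (d⁻¹ * e * d) * (d * e * d⁻¹)
          = (e * d⁻¹) * (e * (d * d)) * (e * d⁻¹) := by group
        _ = (A * d * A) * (A * d * A) * (A * d * A) := by rw [← di, h1]
        _ = A * d * (A * A) * d * (A * A) * d * A := by group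
        _ = 1 := by rw [AA, mul_one, mul_one, mul_assoc A d d, mul_assoc A (d * d) d, d3, mul_one, AA]
    have hback : A * e * A = d * e * d⁻¹ := by
      have h1 : A * e * A = d * A * d * A := by
        rw [he]; simp only [← mul_assoc, AA, one_mul]
      rw [h1, he]
      calc d * A * d * A = d * (A * d * A * d) * d⁻¹ := by group
        _ = _ := rfl
    have zne : z ≠ P := fun h => nzP (by rw [h, PP])
    rcases hcent e hz2 hP2 hQ2 with h | h | h | h | h | h | h | h <;> rw [h] at hback hcube
    · exact ⟨d, d3, dz, dP, dQ, h⟩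
    · rw [Az, dz] at hback
      exact absurd hback zne
    · -- conjugate by `P`
      have dAd : A * d * A = P * d⁻¹ := by rw [← h, he, mul_inv_cancel_right]
      refine ⟨P * d * P, ?_, ?_, ?_, ?_, ?_⟩
      · calc P * d * P * (P * d * P) * (P * d * P) = P * d * (P * P) * d * (P * P) * d * P := by group
          _ = P * (d * d * d) * P := by rw [PP]; group
          _ = 1 := by rw [d3, mul_one, PP]
      · calc P * d * P * z * (P * d * P)⁻¹ = P * (d * (P * z * P⁻¹) * d⁻¹) * P⁻¹ := by group
          _ = P := by rw [← zP, mul_inv_cancel_right, dz, mul_inv_cancel_right]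
      · calc P * d * P * P * (P * d * P)⁻¹ = P * (d * P * d⁻¹) * P⁻¹ := by group
          _ = z * P := by rw [dP, ← mul_assoc, ← zP, mul_inv_cancel_right]
      · calc P * d * P * Q * (P * d * P)⁻¹ = P * (d * (P * Q * P⁻¹) * d⁻¹) * P⁻¹ := by group
          _ = Q := by rw [PQ, mul_inv_cancel_right, dQ, PQ, mul_inv_cancel_right]
      · calc A * (P * d * P) * A * (P * d * P)
            = (A * P * A⁻¹) * (A * d * A) * (A⁻¹ * P * A) * P * d * P := by group
          _ = (z * P) * (P * d⁻¹) * (z * P) * P * d * P := by rw [dAd, Ai, AP]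
          _ = z * (P * P) * d⁻¹ * z * (P * P) * d * P := by group
          _ = z * (d⁻¹ * z * d) * P := by rw [PP]; group
          _ = 1 := by rw [diz, ← mul_assoc, zz, one_mul, PP]
    · rw [show d⁻¹ * Q * d = Q by
        calc d⁻¹ * Q * d = d⁻¹ * (d * Q * d⁻¹) * d := by rw [dQ]
          _ = Q := by group, dQ, QQ, one_mul] at hcube
      exact absurd hcube nQ
    · rw [dzP, hAzP] at hback
      exact absurd hback.symm zne
    · rw [hAzQ, conj_mul, dz, dQ, mul_left_inj] at hback
      exact absurd hback zne
    · have dPd : d⁻¹ * (P * Q) * d = z * Q := by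
        calc d⁻¹ * (P * Q) * d = d⁻¹ * ((d * z * d⁻¹) * (d * Q * d⁻¹)) * d := by rw [dz, dQ]
          _ = z * Q := by group
      rw [dPd, conj_mul, dP, dQ] at hcube
      have : P * Q * (z * Q) * (z * P * Q) = Q := by
        calc P * Q * (z * Q) * (z * P * Q) = P * (Q * z) * Q * z * P * Q := by group
          _ = P * z * (Q * Q) * z * P * Q := by rw [← zQ]; group
          _ = Q := by rw [QQ, mul_one, mul_assoc P z z, zz, mul_one, PP, one_mul]
      exact absurd (this.symm.trans hcube) nQ
    · rw [hAzPQ, conj_mul, dzP, dQ, mul_left_inj] at hback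
      exact absurd hback.symm zne
  -- the root involution
  set n := A * d with hn
  have nn : n * n = 1 := by rw [hn, ← mul_assoc]; exact hinv
  have ni := inv_of_sq nn
  have nz' : n * z * n = z * P := by
    calc n * z * n = n * z * n⁻¹ := by rw [ni]
      _ = A * (d * z * d⁻¹) * A⁻¹ := by rw [hn]; group
      _ = z * P := by rw [dz, Ai, AP]
  have nP' : n * P * n = P := by
    calc n * P * n = n * P * n⁻¹ := by rw [ni]
      _ = A * (d * P * d⁻¹) * A⁻¹ := by rw [hn]; group
      _ = P := by rw [dP, Ai, hAzP]
  have nQ' : n * Q * n = Q := by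
    calc n * Q * n = n * Q * n⁻¹ := by rw [ni]
      _ = A * (d * Q * d⁻¹) * A⁻¹ := by rw [hn]; group
      _ = Q := by rw [dQ, Ai, AQ]
  have ntri : n * A * n = A * n * A := by
    have h1 : d = A * n := by rw [hn, ← mul_assoc, AA, one_mul]
    have h2 : (A * n) * (A * n) * (A * n) = 1 := h1 ▸ d3
    calc n * A * n = n⁻¹ * A⁻¹ * n⁻¹ := by rw [ni, Ai]
      _ = ((A * n) * (A * n) * (A * n)) * n⁻¹ * A⁻¹ * n⁻¹ := by rw [h2, one_mul]
      _ = A * n * A := by group
  have tA : A * n * A * n = n * A := by
    calc A * n * A * n = n * A * n * n := by rw [← ntri]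
      _ = n * A := by rw [mul_assoc (n * A), nn, mul_one]
  -- the relation with the root `(1,3)` and with `X`
  set w12 := A * n * A with hw
  have XzX : X * z * X = z := by
    rw [hX, hz, ← map_mul, ← map_mul, ← L.central, mul_assoc, L.s23, mul_one]
  have XPX : X * P * X = P := by rw [hX, hP, ← map_mul, ← map_mul, L.c23_24]
  have XQX : X * Q * X = P * Q := by
    rw [hX, hP, hQ, ← map_mul, ← map_mul, L.c23_34, map_mul]
  have nzP' : n * (z * P) * n = z := by
    calc n * (z * P) * n = (n * z * n) * (n * P * n) := by simp [mul_assoc, ← mul_assoc n n, nn]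
      _ = z := by rw [nz', nP', mul_assoc, PP, mul_one]
  have nPQ' : n * (P * Q) * n = P * Q := by
    calc n * (P * Q) * n = (n * P * n) * (n * Q * n) := by simp [mul_assoc, ← mul_assoc n n, nn]
      _ = P * Q := by rw [nP', nQ']
  set e := n * X * n * X with he
  have ei : e⁻¹ = X * n * X * n := by
    rw [he]; simp only [mul_inv_rev, ni, inv_of_sq XX, ← mul_assoc]
  have ecases : e = 1 ∨ e = P := by
    have h1 : e * z = z * e := by
      refine mul_inv_eq_iff_eq_mul.mp ?_
      calc e * z * e⁻¹ = n * (X * (n * (X * z * X) * n) * X) * n := by rw [ei, he]; group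
        _ = n * ((X * z * X) * (X * P * X)) * n := by
          conv_lhs => rw [XzX, nz', cvm X XX]
        _ = z := by rw [XzX, XPX, nzP']
    have h2 : e * P = P * e := by
      refine mul_inv_eq_iff_eq_mul.mp ?_
      calc e * P * e⁻¹ = n * (X * (n * (X * P * X) * n) * X) * n := by rw [ei, he]; group
        _ = P := by rw [XPX, nP', XPX, nP']
    have h3 : e * Q = Q * e := by
      refine mul_inv_eq_iff_eq_mul.mp ?_
      calc e * Q * e⁻¹ = n * (X * (n * (X * Q * X) * n) * X) * n := by rw [ei, he]; group
        _ = n * ((X * P * X) * (X * Q * X)) * n := by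
          conv_lhs => rw [XQX, nPQ', cvm X XX]
        _ = Q := by rw [XPX, XQX, ← mul_assoc P P Q, PP, one_mul, nQ']
    have hn_e : n * e * n = X * n * X * n := by
      rw [he]; simp only [← mul_assoc, nn, one_mul]
    have hX_e : X * e * X = X * n * X * n := by
      rw [he]; simp only [mul_assoc, XX, mul_one]
    rcases hcent e h1 h2 h3 with h | h | h | h | h | h | h | h
    · exact Or.inl h
    · exfalso; rw [← hn_e, h, nz', inv_of_sq zz] at ei
      exact nP (left_eq_mul.mp ei)
    · exact Or.inr h
    · exfalso; rw [← hX_e, h, XQX, inv_of_sq QQ] at ei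
      exact nP (right_eq_mul.mp ei)
    · exfalso; rw [← hn_e, h, nzP', inv_of_sq (show (z * P) * (z * P) = 1 by
        rw [mul_assoc, ← mul_assoc P, ← zP, mul_assoc z P P, PP, mul_one, zz])] at ei
      exact nP (mul_eq_left.mp ei)
    · exfalso; rw [← hX_e, h, show X * (z * Q) * X = z * (P * Q) by
          calc X * (z * Q) * X = (X * z * X) * (X * Q * X) := by simp [mul_assoc, ← mul_assoc X X, XX]
            _ = _ := by rw [XzX, XQX],
        inv_of_sq (show (z * Q) * (z * Q) = 1 by
          rw [mul_assoc, ← mul_assoc Q, ← zQ, mul_assoc z Q Q, QQ, mul_one, zz])] at ei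
      exact nP (right_eq_mul.mp (mul_left_cancel ei))
    · exfalso; rw [← hX_e, h, show X * (P * Q) * X = Q by
          calc X * (P * Q) * X = (X * P * X) * (X * Q * X) := by simp [mul_assoc, ← mul_assoc X X, XX]
            _ = _ := by rw [XPX, XQX, ← mul_assoc, PP, one_mul],
        inv_of_sq (show (P * Q) * (P * Q) = 1 by
          rw [mul_assoc, ← mul_assoc Q, ← PQ, mul_assoc P Q Q, QQ, mul_one, PP])] at ei
      exact nP (mul_eq_right.mp ei)
    · exfalso; rw [← hn_e, h, show n * (z * P * Q) * n = z * Q by
          calc n * (z * P * Q) * n = (n * (z * P) * n) * (n * Q * n) := by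
                simp [mul_assoc, ← mul_assoc n n, nn]
            _ = _ := by rw [nzP', nQ'],
        inv_of_sq (show (z * P * Q) * (z * P * Q) = 1 by
          rw [show z * P * Q * (z * P * Q) = z * P * (Q * z) * P * Q by group, ← zQ,
            show z * P * (z * Q) * P * Q = z * (P * z) * (Q * P) * Q by group, ← zP, ← PQ,
            show z * (z * P) * (P * Q) * Q = (z * z) * (P * P) * (Q * Q) by group, zz, PP, QQ,
            one_mul, one_mul])] at ei
      exact nP (mul_eq_left.mp (mul_right_cancel ei))
  set C := n * B * n with hC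
  have hBdef : B = A * X * A * X := by
    have h := m L.c12_23
    simp only [map_mul] at h
    rw [hA, hX, h, hB, mul_assoc, ← map_mul D.hom p23, L.s23, map_one, mul_one]
  have wzw : w12 * z * w12 = P := by
    calc w12 * z * w12 = A * (n * (A * z * A) * n) * A := by rw [hw]; group
      _ = P := by rw [Az, nz', hAzP]
  have wPw : w12 * P * w12 = z := by
    calc w12 * P * w12 = A * (n * (A * P * A) * n) * A := by rw [hw]; group
      _ = z := by rw [AP, nzP', Az]
  have BzB : B * z * B = z := by
    rw [hB, hz, ← map_mul, ← map_mul, ← L.central, mul_assoc, L.s13, mul_one]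
  have BPB : B * P * B = P := by rw [hB, hP, ← map_mul, ← map_mul, L.c13_24]
  have BQB : B * Q * B = z * Q := by
    rw [hB, hQ, hz, ← map_mul, ← map_mul, L.c13_34, map_mul]
  have BB : B * B = 1 := by rw [hB, ← map_mul, L.s13, map_one]
  have CC : C * C = 1 := by
    rw [hC]; simp only [mul_assoc, ← mul_assoc n n, nn, one_mul, ← mul_assoc B B, BB]
  have CzC : C * z * C = z := by
    calc C * z * C = n * (B * (n * z * n) * B) * n := by rw [hC]; group
      _ = n * ((B * z * B) * (B * P * B)) * n := by
        rw [nz']; simp [mul_assoc, ← mul_assoc B B, BB]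
      _ = z := by rw [BzB, BPB, nzP']
  have CPC : C * P * C = P := by
    calc C * P * C = n * (B * (n * P * n) * B) * n := by rw [hC]; group
      _ = P := by rw [nP', BPB, nP']
  have CQC : C * Q * C = z * P * Q := by
    calc C * Q * C = n * (B * (n * Q * n) * B) * n := by rw [hC]; group
      _ = (n * z * n) * (n * Q * n) := by
        conv_lhs => rw [nQ', BQB, cvm n nn]
      _ = z * P * Q := by rw [nz', nQ']
  have hCX : C = A * C * A * B := by
    have eX : n * X * n = e * X := by
      rw [he]; simp only [mul_assoc, XX, mul_one]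
    have hwe : w12 * e * w12 = e ∨ (e = P ∧ w12 * e * w12 = z) := by
      rcases ecases with h | h
      · left; rw [h, mul_one, hw]
        simp only [mul_assoc, ← mul_assoc A A, AA, one_mul, ← mul_assoc n n, nn]
      · right; exact ⟨h, by rw [h, wPw]⟩
    have hAXA : A * X * A = B * X := by
      rw [hBdef]; simp only [mul_assoc, XX, mul_one]
    have hC1 : C = w12 * (e * X) * w12 * (e * X) := by
      rw [hC, hBdef, ← ntri, ← eX]
      simp only [mul_assoc, ← mul_assoc n n, nn, one_mul]
    have hwX : w12 * X * w12 = A * C * A * (A * e * A) * (B * X) := by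
      calc w12 * X * w12 = A * (n * (A * X * A) * n) * A := by rw [hw]; group
        _ = A * (n * B * n) * (n * X * n) * A := by
          rw [hAXA]; simp only [mul_assoc, ← mul_assoc n n, nn, one_mul]
        _ = A * C * (e * X) * A := by rw [eX]
        _ = A * C * A * (A * e * A) * (A * X * A) := by
          simp only [mul_assoc, ← mul_assoc A A, AA, one_mul]
        _ = A * C * A * (A * e * A) * (B * X) := by rw [hAXA]
    rcases ecases with h | h
    · rw [h, one_mul] at hC1
      rw [h, mul_one, AA, mul_one] at hwX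
      rw [hwX] at hC1
      simpa [mul_assoc, XX] using hC1
    · have hsplit : w12 * (e * X) * w12 = (w12 * e * w12) * (w12 * X * w12) := by
        have : w12 * w12 = 1 := by
          rw [hw]; simp only [mul_assoc, ← mul_assoc A A, AA, one_mul, ← mul_assoc n n, nn]
        simp only [mul_assoc, ← mul_assoc w12 w12, this, one_mul]
      rw [hsplit, h, wPw] at hC1
      rw [h, AP] at hwX
      rw [hwX] at hC1
      have zAC : z * (A * C * A) = A * C * A * z := by
        have hAz : A * z = z * A := by
          calc A * z = A * z * (A * A) := by rw [AA, mul_one]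
            _ = z * A := by rw [← mul_assoc, Az]
        have hCz : C * z = z * C := by
          calc C * z = C * z * (C * C) := by rw [CC, mul_one]
            _ = z * C := by rw [← mul_assoc, CzC]
        calc z * (A * C * A) = (z * A) * C * A := by group
          _ = A * (C * z) * A := by rw [← hAz, hCz]; group
          _ = A * C * (z * A) := by group
          _ = A * C * A * z := by rw [← hAz]; group
      have hBX : B * X * P * X = B * P := by
        calc B * X * P * X = B * (X * P * X) := by group
          _ = B * P := by rw [XPX]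
      have hPBP : P * (B * P) = B := by
        calc P * (B * P) = P * (B * P * B) * B⁻¹ := by group
          _ = B := by rw [BPB, PP, one_mul, inv_of_sq BB]
      calc C = z * (A * C * A * (z * P) * (B * X)) * (P * X) := hC1
        _ = (z * (A * C * A)) * z * P * (B * X * P * X) := by group
        _ = A * C * A * (z * z) * (P * (B * P)) := by rw [zAC, hBX]; group
        _ = A * C * A * B := by rw [zz, mul_one, hPBP]
  have hC13 : C = B * X := by
    obtain ⟨u, hu⟩ := mem_range_of_commute D (g := C) (by
      calc C * z = C * z * (C * C) := by rw [CC, mul_one]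
        _ = z * C := by rw [← mul_assoc, CzC])
    have hu1 : u * u = 1 := D.inj (by rw [map_mul, hu, CC, map_one])
    have hu2 : u * q24 = q24 * u := D.inj (by
      rw [map_mul, map_mul, hu]
      calc C * P = C * P * (C * C) := by rw [CC, mul_one]
        _ = P * C := by rw [← mul_assoc, CPC])
    have hu3 : u * q34 * u = az * q24 * q34 := D.inj (by
      rw [map_mul, map_mul, map_mul, map_mul, hu]; exact CQC)
    have hu4 : u = q12 * u * q12 * q13 := D.inj (by
      rw [map_mul, map_mul, map_mul, hu]; exact hCX)
    rcases L.cand u hu1 hu2 hu3 hu4 with h | h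
    · rw [← hu, h, map_mul]
    · exfalso
      refine hnK (hK.trans ((isConj_iff.mpr ⟨n, ?_⟩ : IsConj B (D.hom (q13 * p23 * az))).trans
        ((isConj_iff.mpr ⟨A, ?_⟩ : IsConj (D.hom (p23 * az)) (D.hom (q13 * p23 * az))).symm)))
      · rw [ni]
        exact hu.symm.trans (congrArg D.hom h)
      · rw [Ai, hA, ← map_mul, ← map_mul]
        refine congrArg _ ?_
        calc q12 * (p23 * az) * q12 = q12 * p23 * (az * q12) := by group
          _ = (q12 * p23 * q12) * az := by rw [L.central]; group
          _ = q13 * p23 * az := by rw [L.c12_23]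
  have nXn : n * X * n = X := by
    have h1 : n * C * n = B := by
      rw [hC]; simp only [mul_assoc, nn, mul_one, ← mul_assoc n n, one_mul]
    have h2 : n * C * n = C * (n * X * n) := by
      calc n * C * n = n * (B * X) * n := by rw [hC13]
        _ = (n * B * n) * (n * X * n) := cvm n nn
        _ = _ := by rw [hC]
    rw [h2, hC13, mul_assoc] at h1
    have h3 : X * (n * X * n) = 1 := mul_eq_left.mp h1
    exact (eq_inv_of_mul_eq_one_right h3).trans (inv_of_sq XX)
  -- the conjugate root
  set W := D.hom (p23 * p32 * p23) with hW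
  have hW' : W = X * Y * X := by rw [hW, map_mul, map_mul]
  have hW'' : W = Y * X * Y := by rw [hW, L.braid, map_mul, map_mul]
  have Yz : Y * z * Y = z := by
    rw [hY, hz, ← map_mul, ← map_mul, ← L.central, mul_assoc, L.s32, mul_one]
  have YPY : Y * P * Y = Q * P := by rw [hY, hP, hQ, ← map_mul, ← map_mul, L.c32_24, map_mul]
  have YQY : Y * Q * Y = Q := by rw [hY, hQ, ← map_mul, ← map_mul, L.c32_34]
  set v := W * n * W with hv
  set Dn := Y * n * Y with hDn
  have WW : W * W = 1 := by
    rw [hW']; simp only [mul_assoc, ← mul_assoc X X, XX, one_mul, ← mul_assoc Y Y, YY]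
  have vv : v * v = 1 := by
    rw [hv]; simp only [mul_assoc, ← mul_assoc W W, WW, one_mul, ← mul_assoc n n, nn]
  have vi := inv_of_sq vv
  have DD : Dn * Dn = 1 := by
    rw [hDn]; simp only [mul_assoc, ← mul_assoc Y Y, YY, one_mul, ← mul_assoc n n, nn]
  have XDX : X * Dn * X = v := by
    calc X * Dn * X = X * Y * (X * (X * n * X) * X) * Y * X := by
          rw [hDn]; simp only [mul_assoc, ← mul_assoc X X, XX, one_mul]
      _ = X * Y * X * n * (X * Y * X) := by
          have : X * n * X = n := by
            calc X * n * X = n * (n * X * n) * X := by simp only [← mul_assoc, nn, one_mul]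
              _ = n := by rw [nXn, mul_assoc, XX, mul_one]
          rw [this]; group
      _ = v := by rw [hv, hW']
  have YvY : Y * v * Y = v := by
    have h1 : Y * W = W * X := by
      rw [hW'', ← mul_assoc, ← mul_assoc, YY, one_mul, ← hW'', hW']
      simp only [mul_assoc, XX, mul_one]
    have h2 : W * Y = X * W := by
      rw [hW'', mul_assoc, mul_assoc, YY, mul_one, ← hW'', hW']
      simp only [← mul_assoc, XX, one_mul]
    calc Y * v * Y = (Y * W) * n * (W * Y) := by rw [hv]; group
      _ = W * (n * (n * X * n) * X) * W := by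
          rw [h1, h2]; simp only [mul_assoc, ← mul_assoc n n, nn, one_mul]
      _ = v := by rw [nXn, mul_assoc n X X, XX, mul_one, hv]
  have WzW : W * z * W = z := by
    rw [hW', show X * Y * X * z * (X * Y * X) = X * (Y * (X * z * X) * Y) * X by group, XzX, Yz, XzX]
  have WPW : W * P * W = Q := by
    rw [hW', show X * Y * X * P * (X * Y * X) = X * (Y * (X * P * X) * Y) * X by group, XPX, YPY]
    calc X * (Q * P) * X = (X * Q * X) * (X * P * X) := by simp [mul_assoc, ← mul_assoc X X, XX]
      _ = Q := by rw [XQX, XPX, PQ, mul_assoc, PP, mul_one]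
  have WQW : W * Q * W = P := by
    calc W * Q * W = W * (W * P * W) * W := by rw [WPW]
      _ = P := by simp only [mul_assoc, WW, mul_one, ← mul_assoc W W, one_mul]
  have vzv : v * z * v = z * Q := by
    calc v * z * v = W * (n * (W * z * W) * n) * W := by rw [hv]; group
      _ = (W * z * W) * (W * P * W) := by
        conv_lhs => rw [WzW, nz', cvm W WW]
      _ = z * Q := by rw [WzW, WPW]
  have vPv : v * P * v = P := by
    calc v * P * v = W * (n * (W * P * W) * n) * W := by rw [hv]; group
      _ = P := by rw [WPW, nQ', WQW]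
  have vQv : v * Q * v = Q := by
    calc v * Q * v = W * (n * (W * Q * W) * n) * W := by rw [hv]; group
      _ = Q := by rw [WQW, nP', WPW]
  -- `Dn = n v`
  set g := v * n * Dn with hg
  have hgcases : g = 1 ∨ g = z * P := by
    have DzD : Dn * z * Dn = z * Q * P := by
      calc Dn * z * Dn = Y * (n * (Y * z * Y) * n) * Y := by rw [hDn]; group
        _ = (Y * z * Y) * (Y * P * Y) := by conv_lhs => rw [Yz, nz', cvm Y YY]
        _ = z * Q * P := by rw [Yz, YPY, mul_assoc]
    have DPD : Dn * P * Dn = P := by
      calc Dn * P * Dn = Y * (n * (Y * P * Y) * n) * Y := by rw [hDn]; group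
        _ = (Y * Q * Y) * (Y * P * Y) := by
          conv_lhs => rw [YPY, show n * (Q * P) * n = Q * P by rw [← PQ, nPQ'], cvm Y YY]
        _ = P := by rw [YQY, YPY, ← mul_assoc, QQ, one_mul]
    have DQD : Dn * Q * Dn = Q := by
      calc Dn * Q * Dn = Y * (n * (Y * Q * Y) * n) * Y := by rw [hDn]; group
        _ = Q := by rw [YQY, nQ', YQY]
    have gi : g⁻¹ = Dn * n * v := by
      refine inv_eq_of_mul_eq_one_right ?_
      simp only [hg, mul_assoc, ← mul_assoc Dn Dn, DD, one_mul, ← mul_assoc n n, nn, vv]
    have g1 : g * z = z * g := by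
      refine mul_inv_eq_iff_eq_mul.mp ?_
      calc g * z * g⁻¹ = v * (n * (Dn * z * Dn) * n) * v := by rw [gi, hg]; group
        _ = v * ((n * z * n) * (n * Q * n) * (n * P * n)) * v := by
          rw [DzD]; simp [mul_assoc, ← mul_assoc n n, nn]
        _ = v * (z * (P * Q) * P) * v := by rw [nz', nP', nQ']; group
        _ = (v * z * v) * (v * Q * v) := by
          rw [mul_assoc z, PQ, mul_assoc Q P P, PP, mul_one, cvm v vv]
        _ = z := by rw [vzv, vQv, mul_assoc, QQ, mul_one]
    have g2 : g * P = P * g := by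
      refine mul_inv_eq_iff_eq_mul.mp ?_
      calc g * P * g⁻¹ = v * (n * (Dn * P * Dn) * n) * v := by rw [gi, hg]; group
        _ = P := by rw [DPD, nP', vPv]
    have g3 : g * Q = Q * g := by
      refine mul_inv_eq_iff_eq_mul.mp ?_
      calc g * Q * g⁻¹ = v * (n * (Dn * Q * Dn) * n) * v := by rw [gi, hg]; group
        _ = Q := by rw [DQD, nQ', vQv]
    -- two linear equations for `g`
    have r1 : g * (X * g * X) = 1 := by
      have hXv : X * v * X = Dn := by
        rw [← XDX]; simp only [mul_assoc, ← mul_assoc X X, XX, one_mul, mul_one]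
      have hXn : X * n * X = n := by
        calc X * n * X = n * (n * X * n) * X := by simp only [← mul_assoc, nn, one_mul]
          _ = n := by rw [nXn, mul_assoc, XX, mul_one]
      calc g * (X * g * X) = v * n * Dn * ((X * v * X) * (X * n * X) * (X * Dn * X)) := by
            rw [hg]; simp [mul_assoc, ← mul_assoc X X, XX]
        _ = v * n * (Dn * Dn) * n * v := by rw [hXv, hXn, XDX]; group
        _ = 1 := by rw [DD, mul_one, mul_assoc v n n, nn, mul_one, vv]
    have r2 : v * g * v * (Y * g * Y) = 1 := by
      have hYD : Y * Dn * Y = n := by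
        rw [hDn]; simp only [mul_assoc, YY, mul_one, ← mul_assoc Y Y, one_mul]
      calc v * g * v * (Y * g * Y)
          = v * (v * n * Dn) * v * ((Y * v * Y) * (Y * n * Y) * (Y * Dn * Y)) := by
            rw [hg]; simp [mul_assoc, ← mul_assoc Y Y, YY]
        _ = (v * v) * n * Dn * (v * v) * Dn * n := by rw [YvY, ← hDn, hYD]; group
        _ = 1 := by rw [vv, one_mul, mul_one, mul_assoc n Dn Dn, DD, mul_one, nn]
    have cX : ∀ a b : G, X * (a * b) * X = (X * a * X) * (X * b * X) := fun a b => by
      simp [mul_assoc, ← mul_assoc X X, XX]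
    have cY : ∀ a b : G, Y * (a * b) * Y = (Y * a * Y) * (Y * b * Y) := fun a b => by
      simp [mul_assoc, ← mul_assoc Y Y, YY]
    have cv : ∀ a b : G, v * (a * b) * v = (v * a * v) * (v * b * v) := fun a b => by
      simp [mul_assoc, ← mul_assoc v v, vv]
    have zQi : z * z = 1 := zz
    have sim : ∀ a : CA, a ≠ 1 → D.hom a ≠ 1 := fun a => ne
    rcases hcent g g1 g2 g3 with h | h | h | h | h | h | h | h
    · exact Or.inl h
    · exfalso; rw [h, vzv, Yz, zQ, mul_assoc, zz, mul_one] at r2; exact nQ r2
    · exfalso; rw [h, vPv, YPY, ← mul_assoc, PQ, mul_assoc, PP, mul_one] at r2; exact nQ r2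
    · exfalso; rw [h, XQX, ← mul_assoc, ← PQ, mul_assoc, QQ, mul_one] at r1; exact nP r1
    · exact Or.inr h
    · exfalso; rw [h, cX, XzX, XQX] at r1
      refine nP ?_
      calc P = z * z * P * (Q * Q) := by rw [zz, QQ, one_mul, mul_one]
        _ = z * (z * P) * Q * Q := by group
        _ = z * (P * z) * Q * Q := by rw [zP]
        _ = z * P * (Q * z) * Q := by rw [← zQ]; group
        _ = z * (P * Q) * (z * Q) := by group
        _ = z * (Q * P) * (z * Q) := by rw [PQ]
        _ = z * Q * (P * z) * Q := by group
        _ = z * Q * (z * (P * Q)) := by rw [← zP]; group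
        _ = 1 := r1
    · exfalso; rw [h, cX, XPX, XQX, ← mul_assoc P P Q, PP, one_mul, mul_assoc, QQ, mul_one] at r1
      exact nP r1
    · exfalso; rw [h, cX, cX, XzX, XPX, XQX, show z * P * (P * Q) = z * (P * P) * Q by group, PP,
        mul_one] at r1
      refine nP ?_
      calc P = z * z * P * (Q * Q) := by rw [zz, QQ, one_mul, mul_one]
        _ = z * (z * P) * Q * Q := by group
        _ = z * (P * z) * Q * Q := by rw [zP]
        _ = z * P * (Q * z) * Q := by rw [← zQ]; group
        _ = z * P * Q * (z * Q) := by group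
        _ = 1 := r1
  have hDnv : Dn = n * v := by
    rcases hgcases with h | h
    · have h' : v * n * Dn = 1 := h
      calc Dn = n * v * (v * n * Dn) := by simp [mul_assoc, ← mul_assoc v v, vv, ← mul_assoc n n, nn]
        _ = n * v := by rw [h', mul_one]
    · exfalso
      have h' : v * n * Dn = z * P := h
      have hD' : Dn = n * v * (z * P) := by
        calc Dn = n * v * (v * n * Dn) := by simp [mul_assoc, ← mul_assoc v v, vv, ← mul_assoc n n, nn]
          _ = _ := by rw [h']
      have zPi : (z * P)⁻¹ = z * P := inv_of_sq (by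
        rw [mul_assoc, ← mul_assoc P, ← zP, mul_assoc z P P, PP, mul_one, zz])
      -- the square of `n v`
      have hnv : n * v * (n * v) = P * Q := by
        have e1 : n * v = Dn * (z * P) := by
          rw [hD']
          conv_rhs => arg 2; rw [← zPi]
          rw [mul_inv_cancel_right]
        have DzPD : Dn * (z * P) * Dn = z * Q := by
          calc Dn * (z * P) * Dn = Y * (n * ((Y * z * Y) * (Y * P * Y)) * n) * Y := by
                rw [hDn]; simp [mul_assoc, ← mul_assoc Y Y, YY]
            _ = Y * ((n * z * n) * (n * Q * n) * (n * P * n)) * Y := by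
                rw [Yz, YPY]; simp [mul_assoc, ← mul_assoc n n, nn]
            _ = Y * (z * (P * Q) * P) * Y := by rw [nz', nP', nQ']; group
            _ = (Y * z * Y) * (Y * Q * Y) := by
              rw [mul_assoc z, PQ, mul_assoc Q P P, PP, mul_one, cvm Y YY]
            _ = z * Q := by rw [Yz, YQY]
        calc n * v * (n * v) = (Dn * (z * P) * Dn) * (z * P) := by rw [e1]; group
          _ = z * Q * (z * P) := by rw [DzPD]
          _ = z * (Q * z) * P := by group
          _ = (z * z) * (Q * P) := by rw [← zQ]; group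
          _ = P * Q := by rw [zz, one_mul, PQ]
      set f := P * Q with hf
      have ff : f * f = 1 := by
        rw [hf, mul_assoc, ← mul_assoc Q, ← PQ, mul_assoc P Q Q, QQ, mul_one, PP]
      have nvn : n * v * n = f * v := by
        calc n * v * n = n * v * (n * v) * v := by rw [mul_assoc (n * v), mul_assoc n v v, vv, mul_one]
          _ = f * v := by rw [hnv]
      have vfv : v * f * v = f := by rw [hf, show v * (P * Q) * v = (v * P * v) * (v * Q * v) by
        simp [mul_assoc, ← mul_assoc v v, vv], vPv, vQv]
      have vnv : v * n * v = n * f := by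
        calc v * n * v = n * (n * v * (n * v)) := by simp [← mul_assoc, nn]
          _ = n * f := by rw [hnv]
      have AvA : v * A * v = A * Y := by
        have h1 : W * A * W = B := by
          have e0 := m L.w13
          rw [map_mul, map_mul, ← hW, ← hB, ← hA] at e0
          rw [← e0]; simp only [mul_assoc, WW, mul_one, ← mul_assoc W W, one_mul]
        have h2 : W * X * W = Y := by
          have e0 := m L.w23
          rw [map_mul, map_mul, ← hW] at e0; exact e0
        have h3 : W * B * W = A := by
          have e0 := m L.w13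
          rw [map_mul, map_mul, ← hW] at e0; exact e0
        calc v * A * v = W * (n * (W * A * W) * n) * W := by rw [hv]; group
          _ = (W * B * W) * (W * X * W) := by
            rw [h1, ← hC, hC13]; simp [mul_assoc, ← mul_assoc W W, WW]
          _ = A * Y := by rw [h3, h2]
      have AYc : A * Y = Y * A := by
        have h := m L.c12_32
        rw [map_mul, map_mul] at h
        calc A * Y = A * Y * (A * A) := by rw [AA, mul_one]
          _ = Y * A := by rw [← mul_assoc, h]
      have nYn : n * Y * n = Y * f * v * z := by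
        calc n * Y * n = Y * (Y * n * Y) * n := by simp [← mul_assoc, YY]
          _ = Y * (n * v * (z * P)) * n := by rw [← hDn, hD']
          _ = Y * (n * v * n) * (n * (z * P) * n) := by simp [mul_assoc, ← mul_assoc n n, nn]
          _ = Y * f * v * z := by rw [nvn, nzP']; group
      have AvA' : A * v * A = v * Y := by
        calc A * v * A = v * (v * A * v) * A := by simp [← mul_assoc, vv]
          _ = v * Y := by rw [AvA, AYc]; simp [mul_assoc, AA]
      have hvwv : v * w12 * v = w12 * v * Y * z := by
        calc v * w12 * v = (v * A * v) * (v * n * v) * (v * A * v) := by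
              rw [hw]; simp [mul_assoc, ← mul_assoc v v, vv]
          _ = (A * Y) * (n * f) * (Y * A) := by rw [vnv, AvA, ← AYc]
          _ = A * ((Y * n * Y) * (Y * f * Y)) * A := by simp [mul_assoc, ← mul_assoc Y Y, YY]
          _ = A * (n * v * (z * P) * P) * A := by
            rw [← hDn, hD', show Y * f * Y = P by
              rw [hf, cvm Y YY, YPY, YQY, ← PQ, mul_assoc, QQ, mul_one]]
          _ = A * n * v * (z * A) := by rw [mul_assoc (n * v) (z * P) P, mul_assoc z P P, PP, mul_one]; group
          _ = (A * n * A) * (A * v * A) * z := by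
            rw [show z * A = A * z by
              calc z * A = (A * z * A) * A := by rw [Az]
                _ = A * z := by rw [mul_assoc, AA, mul_one]]
            simp [mul_assoc, ← mul_assoc A A, AA]
          _ = w12 * v * Y * z := by rw [AvA', ← hw]; group
      -- conjugate the relation `v A v = A Y` by `n`
      have hl : n * (v * A * v) * n = f * w12 * v * Y * z * f := by
        calc n * (v * A * v) * n = (n * v * n) * (n * A * n) * (n * v * n) := by
              simp [mul_assoc, ← mul_assoc n n, nn]
          _ = f * v * w12 * (f * v) := by rw [nvn, ntri]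
          _ = f * v * w12 * (v * f) := by
            refine congrArg (fun x => f * v * w12 * x) ?_
            calc f * v = (v * f * v) * v := by rw [vfv]
              _ = v * f := by rw [mul_assoc, vv, mul_one]
          _ = f * (v * w12 * v) * f := by group
          _ = _ := by rw [hvwv]; group
      have hr : n * (A * Y) * n = w12 * (Y * f * v * z) := by
        calc n * (A * Y) * n = (n * A * n) * (n * Y * n) := by
              simp [mul_assoc, ← mul_assoc n n, nn]
          _ = _ := by rw [ntri, nYn]
      have heq : f * w12 * v * Y * z * f = w12 * (Y * f * v * z) := by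
        rw [← hl, AvA, hr]
      have hwf : w12 * f * w12 = z * Q := by
        calc w12 * (P * Q) * w12 = A * (n * (A * (P * Q) * A) * n) * A := by rw [hw]; group
          _ = A * (n * ((z * P) * Q) * n) * A := by
            rw [show A * (P * Q) * A = (A * P * A) * (A * Q * A) by
              simp [mul_assoc, ← mul_assoc A A, AA], AP, AQ]
          _ = A * (z * Q) * A := by
            rw [show n * (z * P * Q) * n = (n * (z * P) * n) * (n * Q * n) by
              simp [mul_assoc, ← mul_assoc n n, nn], nzP', nQ']
          _ = z * Q := hAzQ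
      have w12sq : w12 * w12 = 1 := by
        rw [hw]; simp only [mul_assoc, ← mul_assoc A A, AA, one_mul, ← mul_assoc n n, nn]
      -- both sides in the form `w12 * Y * v * element`
      have hvY : v * Y = Y * v := by
        calc v * Y = (Y * v * Y) * Y := by rw [YvY]
          _ = Y * v := by rw [mul_assoc, YY, mul_one]
      have hY_v : v * f = f * v := by
        calc v * f = (v * f * v) * v := by rw [mul_assoc (v * f), vv, mul_one]
          _ = f * v := by rw [vfv]
      have lhs : f * w12 * v * Y * z * f = w12 * Y * v * f := by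
        calc f * w12 * v * Y * z * f
            = w12 * (w12 * f * w12) * (v * Y) * z * f := by simp [← mul_assoc, w12sq]
          _ = w12 * (z * Q) * (Y * v) * z * f := by rw [hwf, hvY]
          _ = w12 * Y * v * ((v * ((Y * z * Y) * (Y * Q * Y)) * v) * z) * f := by
            simp [mul_assoc, ← mul_assoc Y Y, YY, ← mul_assoc v v, vv]
          _ = w12 * Y * v * ((v * z * v) * (v * Q * v) * z) * f := by
            rw [Yz, YQY, cvm v vv]
          _ = w12 * Y * v * f := by
            rw [vzv, vQv, mul_assoc z Q Q, QQ, mul_one, zz, mul_one]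
      have rhs : w12 * (Y * f * v * z) = w12 * Y * v * (f * z) := by
        calc w12 * (Y * f * v * z) = w12 * Y * (f * v) * z := by group
          _ = _ := by rw [← hY_v]; group
      rw [lhs, rhs] at heq
      exact nz (mul_eq_left.mp (mul_left_cancel heq).symm)
  have hcw : n * v = v * n := by
    have := DD
    rw [hDnv] at this
    calc n * v = (n * v)⁻¹ := (inv_of_sq this).symm
      _ = v * n := by rw [mul_inv_rev, ni, vi]
  exact ⟨n, nn, nz', nP', nQ', nXn, by rw [← hC, hC13], ntri, hcw, by rw [← hDn, hDnv, hcw]⟩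

end CfsgLib.AltEightRecog
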