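import Mathlib.Algebra.Group.MinimalAxioms
import Mathlib.SetTheory.Cardinal.Finite
import Mathlib.GroupTheory.Perm.Fin
import Mathlib.GroupTheory.SpecificGroups.Alternating

/-!
The centraliser of a fixed-point-free involution in the alternating group of degree 8, as pairs of an even
subset of four blocks and a permutation of the blocks.
-/

set_option autoImplicit false
set_option maxRecDepth 100000

namespace CfsgLib.AltEightRecog

/-- Products in the symmetric group of the blocks. -/
def mulT : ℕ := 0x102030405060708090a0b0c0d0e0f1011121314151617060708090a0b0001020304050e0f0c0d11101415121317160203000105040c0d0e0f1011060708090a0b1312161714150c0d0e0f1011020300010504080906070b0a161713121514080906070b0a0e0f0c0d11100001020304051514171612130e0f0c0d1110080906070b0a02030001050417161514131201000405020307060a0b08091213141516170c0d0e0f101107060a0b08090100040502031415121317160e0f0c0d111004050100030212131415161707060a0b08090d0c10110e0f1213141516170405010003020a0b0706090810110d0c0f0e0a0b070609081415121317160100040502030f0e11100c0d1415121317160a0b0706090804050100030211100f0e0d0c0302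050400010d0c10110e0f131216171415060708090a0b0d0c10110e0f030205040001161713121514080906070b0a0504030201001312161714150d0c10110e0f07060a0b080913121617141505040302010010110d0c0f0e0a0b0706090810110d0c0f0e16171312151403020504000109080b0a060716171312151410110d0c0f0e0504030201000b0a0908070609080b0a06070f0e11100c0d1514171612130001020304050f0e11100c0d09080b0a06071716151413120203000105040b0a090807061514171612130f0e11100c0d0100040502031514171612130b0a0908070611100f0e0d0c04050100030211100f0e0d0c17161514131209080b0a060703020504000117161514131211100f0e0d0c0b0a09080706050403020100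

/-- The action on even subsets. -/
def actT : ℕ := 0x762345107513462076452310731526407546132073261540726341507153426072416350735162407142536073625140746521307135246074216530753164207124356075643120745612307236145074125630763254107214365076543210

/-- Inverses in the symmetric group of the blocks. -/
def invT : ℕ := 0x1711150f0b091610140e0a08130d120c0706050304020100

/-- The product of two permutations of the blocks. -/
def pMul (a b : Fin 24) : Fin 24 := ⟨((mulT >>> (8 * (24 * (a : ℕ) + b))) &&& 255) % 24, Nat.mod_lt _ (by norm_num)⟩

/-- The image of an even subset. -/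
def pAct (a : Fin 24) (b : Fin 8) : Fin 8 := ⟨((actT >>> (4 * (8 * (a : ℕ) + b))) &&& 15) % 8, Nat.mod_lt _ (by norm_num)⟩

/-- The inverse of a permutation of the blocks. -/
def pInv (a : Fin 24) : Fin 24 := ⟨((invT >>> (8 * (a : ℕ))) &&& 255) % 24, Nat.mod_lt _ (by norm_num)⟩

/-- Addition of even subsets. -/
def bAdd (a b : Fin 8) : Fin 8 := ⟨((a : ℕ) ^^^ (b : ℕ)) % 8, Nat.mod_lt _ (by norm_num)⟩

theorem pMul_assoc : ∀ a b c : Fin 24, pMul (pMul a b) c = pMul a (pMul b c) := by decide +kernel
theorem pMul_facts : ∀ a : Fin 24, pMul 0 a = a ∧ pMul (pInv a) a = 0 := by decide +kernel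
theorem pAct_mul : ∀ a b : Fin 24, ∀ v : Fin 8, pAct (pMul a b) v = pAct a (pAct b v) := by decide +kernel
theorem pAct_add : ∀ a : Fin 24, ∀ v w : Fin 8, pAct a (bAdd v w) = bAdd (pAct a v) (pAct a w) := by decide +kernel
theorem pAct_one : ∀ v : Fin 8, pAct 0 v = v := by decide +kernel
theorem bAdd_facts : (∀ u v w : Fin 8, bAdd (bAdd u v) w = bAdd u (bAdd v w)) ∧
    ∀ v : Fin 8, bAdd 0 v = v ∧ bAdd v v = 0 := by decide +kernel

/-- The model of the centraliser. -/
structure CA : Type where
  /-- the even subset -/
  b : Fin 8
  /-- the permutation of the blocks -/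
  p : Fin 24
deriving DecidableEq

instance : Fintype CA :=
  Fintype.ofEquiv (Fin 8 × Fin 24) ⟨fun x => ⟨x.1, x.2⟩, fun x => (x.b, x.p), fun _ => rfl, fun _ => rfl⟩

instance : Mul CA := ⟨fun x y => ⟨bAdd x.b (pAct x.p y.b), pMul x.p y.p⟩⟩
instance : One CA := ⟨⟨0, 0⟩⟩
instance : Inv CA := ⟨fun x => ⟨pAct (pInv x.p) x.b, pInv x.p⟩⟩

theorem CA.ext {x y : CA} (h1 : x.b = y.b) (h2 : x.p = y.p) : x = y := by
  obtain ⟨a, c⟩ := x; obtain ⟨a', c'⟩ := y; subst h1; subst h2; rfl

instance : Group CA :=
  Group.ofLeftAxioms
    (fun x y w => CA.ext (by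
      show bAdd (bAdd x.b (pAct x.p y.b)) (pAct (pMul x.p y.p) w.b) = bAdd x.b (pAct x.p (bAdd y.b (pAct y.p w.b)))
      rw [pAct_add, pAct_mul, bAdd_facts.1]) (pMul_assoc _ _ _))
    (fun x => CA.ext (by
      show bAdd 0 (pAct 0 x.b) = x.b
      rw [pAct_one, (bAdd_facts.2 _).1]) (pMul_facts _).1)
    (fun x => CA.ext (by
      show bAdd (pAct (pInv x.p) x.b) (pAct (pInv x.p) x.b) = 0
      exact (bAdd_facts.2 _).2) (pMul_facts _).2)

theorem CA.card : Nat.card CA = 192 := by
  rw [Nat.card_congr (⟨fun x => (x.b, x.p), fun x => ⟨x.1, x.2⟩, fun _ => rfl, fun _ => rfl⟩ : CA ≃ Fin 8 × Fin 24),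
    Nat.card_prod, Nat.card_fin, Nat.card_fin]

/-- The central involution: all four blocks. -/
def az : CA := ⟨7, 0⟩
/-- An involution of the base with four fixed points. -/
def ar : CA := ⟨1, 0⟩
/-- A regular involution of the first kind in the core. -/
def ac : CA := ⟨0, 7⟩
/-- A regular involution of the second kind in the core. -/
def ad : CA := ⟨1, 23⟩
/-- An involution outside the core with four fixed points. -/
def au : CA := ⟨0, 1⟩
/-- A regular involution outside the core. -/
def ak : CA := ⟨1, 2⟩

/-- Membership in the largest normal 2-subgroup. -/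
def inCore (x : CA) : Bool := x.p == 0 || x.p == 7 || x.p == 16 || x.p == 23

/-- The centraliser of a 2-central involution of the alternating group of degree 8. -/
structure AltCent (G : Type*) [Group G] where
  /-- the embedding of the model -/
  hom : CA →* G
  inj : Function.Injective hom
  range_eq : hom.range = Subgroup.centralizer ({hom az} : Set G)

end CfsgLib.AltEightRecog
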