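import Cfsg.Agent.Lib.AltEightRecog.NinePairs
import Cfsg.Agent.Lib.Balance.Fusion
import Cfsg.Agent.S0213
import Mathlib.GroupTheory.SpecificGroups.Alternating

/-!
A simple group with the centraliser of the alternating group of degree 8 containing that group is the alternating
group of degree 8 or 9.
-/

set_option autoImplicit false
set_option linter.style.haveILetI false

open Equiv

namespace CfsgLib.AltEightRecog.Nine

namespace Hyp

variable {G : Type*} [Group G] (H : Hyp G) [Finite G]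

omit [Finite G] in
theorem cent_s_le : Subgroup.centralizer ({H.s} : Set G) ≤ H.G0 := H.D.range_eq ▸ H.range_le

omit [Finite G] in
theorem card_cent_s : Nat.card (Subgroup.centralizer ({H.s} : Set G)) = 192 := by
  rw [← H.D.range_eq, ← CA.card]
  exact (Nat.card_congr (MonoidHom.ofInjective H.D.inj).toEquiv).symm

/-- If `r` centralises nothing outside the alternating subgroup, that subgroup is everything. -/
theorem eq_top_of_small [IsSimpleGroup G] (h96 : Nat.card (Subgroup.centralizer ({H.r} : Set G)) = 96) :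
    H.G0 = ⊤ := by
  have hr : Subgroup.centralizer ({H.r} : Set G) ≤ H.G0 := by
    have h := Subgroup.eq_of_le_of_card_ge (inf_le_left :
      Subgroup.centralizer ({H.r} : Set G) ⊓ H.G0 ≤ Subgroup.centralizer ({H.r} : Set G))
      (by rw [h96, H.card_cent_r_G0])
    exact h ▸ inf_le_right
  have hcent : ∀ t ∈ H.G0, orderOf t = 2 → Subgroup.centralizer ({t} : Set G) ≤ H.G0 := by
    intro t ht ht2 g hg
    obtain ⟨h, hh, hc⟩ := H.G0_classes ht ht2
    have hg' := comm_conj (mem_cent_iff.1 hg) h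
    have hm : h * g * h⁻¹ ∈ H.G0 := by
      rcases hc with hc | hc <;> rw [hc] at hg'
      · exact H.cent_s_le (mem_cent_iff.2 hg')
      · exact hr (mem_cent_iff.2 hg')
    have := H.G0.mul_mem (H.G0.mul_mem (H.G0.inv_mem hh) hm) hh
    rwa [show h⁻¹ * (h * g * h⁻¹) * h = g by group] at this
  have hR : ∀ u : G, IsConj H.r u → u ∈ H.G0 := by
    intro u hu
    have hu2 := CfsgLib.Invol.orderOf_eq_two_of_isConj H.orderOf_r hu
    obtain ⟨k, hk, hks, hku⟩ := CfsgLib.Balance.exists_commuting_involution H.orderOf_s hu2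
      fun hc => H.not_conj_s_r (hc.trans hu.symm)
    exact hcent k (H.cent_s_le (mem_cent_iff.2 hks.eq)) hk (mem_cent_iff.2 hku.eq.symm)
  have hle : Subgroup.normalClosure ({H.r} : Set G) ≤ H.G0 := by
    refine (Subgroup.closure_le _).2 fun u hu => ?_
    obtain ⟨a, ha, hau⟩ := Group.mem_conjugatesOfSet_iff.1 hu
    rw [Set.mem_singleton_iff] at ha
    exact hR u (ha ▸ hau)
  rcases (Subgroup.normalClosure_normal : (Subgroup.normalClosure ({H.r} : Set G)).Normal).eq_bot_or_eq_top with h | h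
  · have := Subgroup.subset_normalClosure (Set.mem_singleton H.r)
    rw [h, SetLike.mem_coe, Subgroup.mem_bot] at this
    exact absurd this H.r_ne_one
  · exact top_unique (h ▸ hle)

theorem card_pairs_s :
    Nat.card {p : G × G // IsConj H.s p.1 ∧ IsConj H.r p.2 ∧ H.s ∈ Subgroup.zpowers (p.1 * p.2)} = 156 := by
  rw [← count_az, ← Nat.card_eq_fintype_card]
  have hmem : ∀ k u : CA, (az = (k * u) ^ 1 ∨ az = (k * u) ^ 2 ∨ az = (k * u) ^ 3 ∨ az = (k * u) ^ 4 ∨
      az = (k * u) ^ 6 ∨ az = (k * u) ^ 12) → H.s ∈ Subgroup.zpowers (H.D.hom k * H.D.hom u) := by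
    intro k u h
    have : ∃ n : ℕ, az = (k * u) ^ n := by
      rcases h with h | h | h | h | h | h <;> exact ⟨_, h⟩
    obtain ⟨n, hn⟩ := this
    exact Subgroup.mem_zpowers_iff.2 ⟨(n : ℤ), by rw [zpow_natCast, ← map_mul, ← map_pow, ← hn]⟩
  let f : {p : CA × CA // (isK p.1 && isR p.2 &&
      ((p.1 * p.2) ^ 1 == az || (p.1 * p.2) ^ 2 == az || (p.1 * p.2) ^ 3 == az || (p.1 * p.2) ^ 4 == az ||
        (p.1 * p.2) ^ 6 == az || (p.1 * p.2) ^ 12 == az)) = true} →
      {p : G × G // IsConj H.s p.1 ∧ IsConj H.r p.2 ∧ H.s ∈ Subgroup.zpowers (p.1 * p.2)} := fun p =>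
    ⟨(H.D.hom p.1.1, H.D.hom p.1.2), by
      have h := p.2
      simp only [Bool.and_eq_true, Bool.or_eq_true, beq_iff_eq] at h
      refine ⟨(H.K_iff _).2 h.1.1, (H.isR_iff _).2 h.1.2, hmem _ _ ?_⟩
      rcases h.2 with ((((h | h) | h) | h) | h) | h <;> rw [h] <;> simp⟩
  refine (Nat.card_eq_of_bijective f ⟨fun a b h => ?_, ?_⟩).symm
  · have h' := congrArg Subtype.val h
    exact Subtype.ext (Prod.ext (H.D.inj (congrArg Prod.fst h')) (H.D.inj (congrArg Prod.snd h')))
  · rintro ⟨⟨k, u⟩, hk, hu, hs⟩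
    have hk2 : k * k = 1 := CfsgLib.Invol.mul_self_eq_one (CfsgLib.Invol.orderOf_eq_two_of_isConj H.orderOf_s hk)
    have hu2 : u * u = 1 := CfsgLib.Invol.mul_self_eq_one (CfsgLib.Invol.orderOf_eq_two_of_isConj H.orderOf_r hu)
    obtain ⟨n, hn⟩ : ∃ n : ℕ, (k * u) ^ n = H.s :=
      (Submonoid.mem_powers_iff _ _).1 (mem_powers_iff_mem_zpowers.2 hs)
    have hki : k⁻¹ = k := inv_eq_of_mul_eq_one_right hk2
    have hui : u⁻¹ = u := inv_eq_of_mul_eq_one_right hu2
    have hsi : H.s⁻¹ = H.s := inv_eq_of_mul_eq_one_right (CfsgLib.Invol.mul_self_eq_one H.orderOf_s)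
    have hfix : ∀ a : G, a * (k * u) * a⁻¹ = (k * u)⁻¹ → a * H.s = H.s * a := fun a ha => by
      rw [← mul_inv_eq_iff_eq_mul, ← hn, ← conj_pow, ha, inv_pow, hn, hsi]
    obtain ⟨x, hx⟩ := H.mem_range (hfix k (by
      rw [mul_inv_rev, hki, hui]
      calc k * (k * u) * k = (k * k) * (u * k) := by group
        _ = u * k := by rw [hk2, one_mul]))
    obtain ⟨y, hy⟩ := H.mem_range (hfix u (by
      rw [mul_inv_rev, hki, hui]
      calc u * (k * u) * u = u * k * (u * u) := by group
        _ = u * k := by rw [hu2, mul_one]))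
    have hpow : (x * y) ^ n = az := H.D.inj (by rw [map_pow, map_mul, hx, hy]; exact hn)
    have hz : ∃ m : Fin 24, (x * y) ^ (m : ℕ) = az := by
      refine ⟨⟨n % 24, Nat.mod_lt _ (by norm_num)⟩, ?_⟩
      rw [← hpow]
      conv_rhs => rw [← Nat.div_add_mod n 24, pow_add, pow_mul, pow_twentyfour, one_pow, one_mul]
    refine ⟨⟨(x, y), ?_⟩, Subtype.ext (Prod.ext hx hy)⟩
    simp only [Bool.and_eq_true, Bool.or_eq_true, beq_iff_eq]
    refine ⟨⟨(H.K_iff x).1 (hx ▸ hk), (H.isR_iff y).1 (hy ▸ hu)⟩, ?_⟩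
    have := (zpowers_az _).1 hz
    tauto

/-- The exceptional case is the alternating group of degree nine. -/
theorem iso_alt_nine [IsSimpleGroup G] (h480 : Nat.card (Subgroup.centralizer ({H.r} : Set G)) = 480) :
    Nonempty (G ≃* alternatingGroup (Fin 9)) := by
  classical
  have hG : Nat.card G = 181440 := by
    rw [Cfsg.Agent.S0213.result H.s H.r H.orderOf_s H.orderOf_r H.not_conj_s_r
      (fun t ht => H.dichotomy ht), H.card_pairs_s, H.card_pairs_r h480, h480, H.card_cent_s]
  have hidx : H.G0.index = 9 := by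
    have h := Subgroup.card_mul_index H.G0
    rw [H.card_G0, hG] at h
    omega
  let q : (G ⧸ H.G0) ≃ Fin 9 := Finite.equivFinOfCardEq hidx
  let φ : G →* Perm (Fin 9) := q.permCongrHom.toMonoidHom.comp (MulAction.toPermHom G (G ⧸ H.G0))
  have hker : φ.ker = ⊥ := by
    have h1 : φ.ker = H.G0.normalCore := by
      rw [Subgroup.normalCore_eq_ker]
      ext g
      show q.permCongrHom (MulAction.toPermHom G (G ⧸ H.G0) g) = 1 ↔ _
      rw [map_eq_one_iff _ (q.permCongrHom).injective]
      rfl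
    rcases H.G0.normalCore_normal.eq_bot_or_eq_top with h | h
    · rw [h1, h]
    · exfalso
      have := top_unique (h ▸ H.G0.normalCore_le)
      rw [this, Subgroup.index_top] at hidx
      omega
  have hinj : Function.Injective φ := (MonoidHom.ker_eq_bot_iff φ).1 hker
  have hsign : ∀ g, φ g ∈ alternatingGroup (Fin 9) := by
    intro g
    rw [Perm.mem_alternatingGroup]
    rcases (MonoidHom.normal_ker (Perm.sign.comp φ)).eq_bot_or_eq_top with h | h
    · exfalso
      have h2 := Nat.card_le_card_of_injective _ ((MonoidHom.ker_eq_bot_iff _).1 h)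
      rw [hG, Nat.card_eq_fintype_card, Fintype.card_units_int] at h2
      omega
    · have : g ∈ (Perm.sign.comp φ).ker := h ▸ Subgroup.mem_top g
      exact this
  let ψ := φ.codRestrict (alternatingGroup (Fin 9)) hsign
  have hψ : Function.Injective ψ := fun a b e => hinj (congrArg Subtype.val e)
  refine ⟨MulEquiv.ofBijective ψ ((Nat.bijective_iff_injective_and_card ψ).2 ⟨hψ, ?_⟩)⟩
  rw [hG, nat_card_alternatingGroup, Nat.card_fin]
  rfl

end Hyp

/-- A simple group containing the alternating group of degree 8 with its centraliser of a 2-central involution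
is the alternating group of degree 8 or 9. -/
theorem main {G : Type*} [Group G] [Finite G] [IsSimpleGroup G] (D : AltCent G)
    (hK : ∀ x : CA, IsConj (D.hom az) (D.hom x) ↔
      ∃ g : CA, g * x * g⁻¹ = az ∨ g * x * g⁻¹ = ac ∨ g * x * g⁻¹ = ad ∨ g * x * g⁻¹ = ak)
    (G0 : Subgroup G) (e : G0 ≃* alternatingGroup (Fin 8)) (hG0 : D.hom.range ≤ G0) :
    G0 = ⊤ ∨ Nonempty (G ≃* alternatingGroup (Fin 9)) := by
  let H : Hyp G := ⟨D, fun x => (hK x).trans (isK_iff x).symm, G0, e, hG0⟩
  have hc := H.card_C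
  have hx := H.card_X0
  rcases H.X0_spec.1 with h | h
  · exact Or.inl (H.eq_top_of_small (by omega))
  · exact Or.inr (H.iso_alt_nine (by omega))

end CfsgLib.AltEightRecog.Nine
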