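import Cfsg.Agent.Lib.Invol.Counting
import Mathlib.GroupTheory.SpecificGroups.Alternating.Centralizer
import Mathlib.GroupTheory.Nilpotent
import Mathlib.Tactic.IntervalCases

/-!
The two classes of involutions of the alternating group of degree 8, and the growth of normalisers in 2-groups.
-/

set_option autoImplicit false
set_option linter.style.haveILetI false

open Equiv Equiv.Perm

namespace CfsgLib.AltEightRecog.Nine

/-- In a 2-group, a proper subgroup is normalised by an element outside it. -/
theorem exists_normalizing {G : Type*} [Group G] [Finite G] (Q E : Subgroup G) (hQ : IsPGroup 2 Q)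
    (hle : E ≤ Q) (hne : E ≠ Q) : ∃ n ∈ Q, n ∉ E ∧ ∀ x ∈ E, n * x * n⁻¹ ∈ E := by
  haveI : Fact (Nat.Prime 2) := ⟨Nat.prime_two⟩
  haveI : Group.IsNilpotent Q := hQ.isNilpotent
  set F := E.subgroupOf Q with hF
  have hlt : F < ⊤ := lt_top_iff_ne_top.2 fun h => hne (le_antisymm hle fun x hx => by
    have h1 : (⟨x, hx⟩ : Q) ∈ F := h ▸ Subgroup.mem_top _
    exact Subgroup.mem_subgroupOf.1 h1)
  obtain ⟨n, hn, hnF⟩ := SetLike.exists_of_lt (Group.normalizerCondition_of_isNilpotent F hlt)
  refine ⟨n, n.2, fun h => hnF (Subgroup.mem_subgroupOf.2 h), fun x hx => ?_⟩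
  exact Subgroup.mem_subgroupOf.1
    ((Subgroup.mem_normalizer_iff.1 hn ⟨x, hle hx⟩).1 (Subgroup.mem_subgroupOf.2 hx))

/-- An involution of the alternating group of degree 8 has two or four transpositions. -/
theorem alt_cycleType (σ : alternatingGroup (Fin 8)) (hσ : orderOf σ = 2) :
    (σ : Perm (Fin 8)).cycleType = Multiset.replicate 2 2 ∨
      (σ : Perm (Fin 8)).cycleType = Multiset.replicate 4 2 := by
  obtain ⟨k, hk⟩ := cycleType_prime_order (σ := (σ : Perm (Fin 8)))
    (by rw [Subgroup.orderOf_coe, hσ]; exact Nat.prime_two)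
  rw [Subgroup.orderOf_coe, hσ] at hk
  have hs : (σ : Perm (Fin 8)).cycleType.sum ≤ 8 := by
    rw [sum_cycleType]
    exact ((σ : Perm (Fin 8)).support.card_le_univ).trans_eq (Fintype.card_fin 8)
  have hsgn := Equiv.Perm.mem_alternatingGroup.1 σ.2
  rw [sign_of_cycleType, hk] at hsgn
  rw [hk, Multiset.sum_replicate, smul_eq_mul] at hs
  have : k ≤ 3 := by omega
  rw [hk]
  interval_cases k <;> first | exact absurd hsgn (by decide) | exact Or.inl rfl | exact Or.inr rfl

/-- An involution of degree 8 commutes with a transposition. -/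
theorem exists_odd_commute (σ : Perm (Fin 8)) (h2 : orderOf σ = 2) :
    ∃ t : Perm (Fin 8), t * σ = σ * t ∧ sign t = -1 := by
  obtain ⟨a, ha⟩ : ∃ a, σ a ≠ a := by
    by_contra hcon
    push Not at hcon
    rw [show σ = 1 from Equiv.ext hcon, orderOf_one] at h2
    exact absurd h2 (by norm_num)
  refine ⟨swap a (σ a), ?_, sign_swap (Ne.symm ha)⟩
  have hσσ : σ (σ a) = a := by
    have h : (σ * σ) a = a := by rw [← pow_two, ← h2, pow_orderOf_eq_one]; rfl
    exact h
  have h := Equiv.mul_swap_eq_swap_mul σ a (σ a)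
  rw [hσσ, swap_comm (σ a) a] at h
  exact h.symm

/-- Involutions of the alternating group of degree 8 with the same cycle type are conjugate. -/
theorem alt_isConj {σ τ : alternatingGroup (Fin 8)} (hσ : orderOf σ = 2)
    (h : (σ : Perm (Fin 8)).cycleType = (τ : Perm (Fin 8)).cycleType) : IsConj σ τ := by
  obtain ⟨g, hg⟩ := isConj_iff.1 (isConj_iff_cycleType_eq.2 h)
  rcases Int.units_eq_one_or (sign g) with hg1 | hg1
  · exact isConj_iff.2 ⟨⟨g, Equiv.Perm.mem_alternatingGroup.2 hg1⟩, Subtype.ext hg⟩
  · obtain ⟨t, ht, ht1⟩ := exists_odd_commute σ (by rw [Subgroup.orderOf_coe, hσ])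
    refine isConj_iff.2 ⟨⟨g * t, Equiv.Perm.mem_alternatingGroup.2 (by rw [map_mul, hg1, ht1]; rfl)⟩,
      Subtype.ext ?_⟩
    show g * t * (σ : Perm (Fin 8)) * (g * t)⁻¹ = τ
    rw [mul_assoc g t, ht, ← hg]
    group

/-- Centraliser orders of involutions in the alternating group of degree 8. -/
theorem alt_centralizer (σ : alternatingGroup (Fin 8)) (hσ : orderOf σ = 2) :
    ((σ : Perm (Fin 8)).cycleType = Multiset.replicate 2 2 →
        Nat.card (Subgroup.centralizer ({σ} : Set (alternatingGroup (Fin 8)))) = 96) ∧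
      ((σ : Perm (Fin 8)).cycleType = Multiset.replicate 4 2 →
        Nat.card (Subgroup.centralizer ({σ} : Set (alternatingGroup (Fin 8)))) = 192) := by
  have key : ∀ m : Multiset ℕ, (σ : Perm (Fin 8)).cycleType = m →
      Nat.card (Subgroup.centralizer ({σ} : Set (alternatingGroup (Fin 8)))) *
        (Finset.univ.filter fun g : alternatingGroup (Fin 8) => (g : Perm (Fin 8)).cycleType = m).card = 20160 := by
    intro m hm
    have h1 : {u : alternatingGroup (Fin 8) // IsConj σ u} ≃
        {u : alternatingGroup (Fin 8) // (u : Perm (Fin 8)).cycleType = m} :=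
      Equiv.subtypeEquivRight fun u => ⟨fun h => by
        rw [← hm]
        exact (isConj_iff_cycleType_eq.1 ((alternatingGroup (Fin 8)).subtype.map_isConj h)).symm,
        fun h => alt_isConj hσ (hm.trans h.symm)⟩
    have hc := Subgroup.card_mul_index (Subgroup.centralizer ({σ} : Set (alternatingGroup (Fin 8))))
    rw [← CfsgLib.Invol.card_isConj_eq_index, Nat.card_congr h1,
      Nat.card_eq_fintype_card (α := {u : alternatingGroup (Fin 8) // (u : Perm (Fin 8)).cycleType = m}),
      Fintype.card_subtype, nat_card_alternatingGroup, Nat.card_fin] at hc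
    rw [hc]
    rfl
  constructor <;> intro hm <;> have h := key _ hm <;> rw [AlternatingGroup.card_of_cycleType] at h
  · norm_num [Multiset.replicate_succ, Nat.factorial, Multiset.toFinset_cons, Multiset.toFinset_zero,
      Multiset.count_cons, Nat.even_iff] at h
    omega
  · norm_num [Multiset.replicate_succ, Nat.factorial, Multiset.toFinset_cons, Multiset.toFinset_zero,
      Multiset.count_cons, Nat.even_iff] at h
    omega

end CfsgLib.AltEightRecog.Nine
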