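import Cfsg.Agent.Lib.AltEightRecog.NineSetting
import Cfsg.Agent.Lib.Invol.StronglyEmbedded
import Cfsg.Agent.S1225
import Mathlib.GroupTheory.SpecificGroups.Alternating.Centralizer

/-!
# The two classes of involutions in the A9 branch
-/

set_option autoImplicit false
set_option maxRecDepth 100000
set_option linter.style.haveILetI false

namespace CfsgLib.AltEightRecog

/-- The cycle types of the involutions of the alternating group of degree 8. -/
theorem alt_eight_cycleType (σ : alternatingGroup (Fin 8)) (h : orderOf σ = 2) :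
    (σ : Equiv.Perm (Fin 8)).cycleType = Multiset.replicate 2 2 ∨
      (σ : Equiv.Perm (Fin 8)).cycleType = Multiset.replicate 4 2 := by
  have h2 : orderOf (σ : Equiv.Perm (Fin 8)) = 2 := (Subgroup.orderOf_coe σ).trans h
  obtain ⟨n, hn⟩ := Equiv.Perm.cycleType_prime_order (h2 ▸ Nat.prime_two)
  rw [h2] at hn
  have hsum := Equiv.Perm.sum_cycleType_le (σ : Equiv.Perm (Fin 8))
  rw [hn, Multiset.sum_replicate, Fintype.card_fin, smul_eq_mul] at hsum
  have hsign := Equiv.Perm.sign_of_cycleType (σ : Equiv.Perm (Fin 8))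
  rw [Equiv.Perm.mem_alternatingGroup.1 σ.2, hn, Multiset.sum_replicate, Multiset.card_replicate,
    smul_eq_mul] at hsign
  have : n < 4 := by omega
  interval_cases n
  · exact absurd hsign (by decide)
  · exact Or.inl hn
  · exact absurd hsign (by decide)
  · exact Or.inr hn

/-- An involution commutes with an odd permutation. -/
theorem alt_eight_odd_comm (σ : alternatingGroup (Fin 8)) (h : orderOf σ = 2) :
    ∃ w : Equiv.Perm (Fin 8), Equiv.Perm.sign w = -1 ∧ (σ : Equiv.Perm (Fin 8)) * w = w * σ := by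
  have h2 : orderOf (σ : Equiv.Perm (Fin 8)) = 2 := (Subgroup.orderOf_coe σ).trans h
  have hsq : (σ : Equiv.Perm (Fin 8)) * σ = 1 := by rw [← pow_two, ← h2, pow_orderOf_eq_one]
  obtain ⟨a, ha⟩ : ∃ a, (σ : Equiv.Perm (Fin 8)) a ≠ a := by
    by_contra! hall
    rw [Equiv.ext hall (g := (1 : Equiv.Perm (Fin 8))), orderOf_one] at h2
    omega
  refine ⟨Equiv.swap a ((σ : Equiv.Perm (Fin 8)) a), Equiv.Perm.sign_swap (Ne.symm ha), ?_⟩
  rw [Equiv.mul_swap_eq_swap_mul]
  congr 1
  rw [show (σ : Equiv.Perm (Fin 8)) ((σ : Equiv.Perm (Fin 8)) a) = a from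
    (congrArg (fun f : Equiv.Perm (Fin 8) => f a) hsq :), Equiv.swap_comm]

/-- Involutions of the same cycle type are conjugate. -/
theorem alt_eight_isConj {σ τ : alternatingGroup (Fin 8)} (h : orderOf σ = 2)
    (hct : (σ : Equiv.Perm (Fin 8)).cycleType = (τ : Equiv.Perm (Fin 8)).cycleType) : IsConj σ τ := by
  obtain ⟨g, hg⟩ := isConj_iff.1 (Equiv.Perm.isConj_iff_cycleType_eq.2 hct)
  obtain ⟨w, hw, hc⟩ := alt_eight_odd_comm σ h
  rcases Int.units_eq_one_or (Equiv.Perm.sign g) with hs | hs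
  · exact isConj_iff.2 ⟨⟨g, Equiv.Perm.mem_alternatingGroup.2 hs⟩, Subtype.ext hg⟩
  · refine isConj_iff.2 ⟨⟨g * w, Equiv.Perm.mem_alternatingGroup.2 (by rw [map_mul, hs, hw]; rfl)⟩,
      Subtype.ext ?_⟩
    show g * w * (σ : Equiv.Perm (Fin 8)) * (g * w)⁻¹ = τ
    rw [← hg]
    calc g * w * (σ : Equiv.Perm (Fin 8)) * (g * w)⁻¹ = g * (w * σ) * w⁻¹ * g⁻¹ := by group
      _ = _ := by rw [← hc]; group

/-- Two classes of involutions in A8. -/
theorem alt_eight_two_classes {a b c : alternatingGroup (Fin 8)} (ha : orderOf a = 2) (hb : orderOf b = 2)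
    (hc : orderOf c = 2) (hab : ¬ IsConj a b) : IsConj a c ∨ IsConj b c := by
  rcases alt_eight_cycleType a ha with e1 | e1 <;> rcases alt_eight_cycleType b hb with e2 | e2 <;>
    rcases alt_eight_cycleType c hc with e3 | e3 <;>
    first
      | exact absurd (alt_eight_isConj ha (e1.trans e2.symm)) hab
      | exact Or.inl (alt_eight_isConj ha (e1.trans e3.symm))
      | exact Or.inr (alt_eight_isConj hb (e2.trans e3.symm))

/-- The centralisers of the involutions of A8. -/
theorem alt_eight_card_centralizer (σ : alternatingGroup (Fin 8)) (h : orderOf σ = 2) :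
    ((σ : Equiv.Perm (Fin 8)).cycleType = Multiset.replicate 2 2 ∧
        Nat.card (Subgroup.centralizer ({σ} : Set (alternatingGroup (Fin 8)))) = 96) ∨
      ((σ : Equiv.Perm (Fin 8)).cycleType = Multiset.replicate 4 2 ∧
        Nat.card (Subgroup.centralizer ({σ} : Set (alternatingGroup (Fin 8)))) = 192) := by
  set C := Subgroup.centralizer ({(σ : Equiv.Perm (Fin 8))} : Set (Equiv.Perm (Fin 8))) with hC
  let f : C →* ℤˣ := Equiv.Perm.sign.comp C.subtype
  have hf : Function.Surjective f := by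
    intro u
    rcases Int.units_eq_one_or u with rfl | rfl
    · exact ⟨1, map_one f⟩
    · obtain ⟨w, hw, hc⟩ := alt_eight_odd_comm σ h
      exact ⟨⟨w, Subgroup.mem_centralizer_singleton_iff.2 hc.symm⟩, hw⟩
  have hidx : f.ker.index = 2 := by
    rw [Subgroup.index_ker, MonoidHom.range_eq_top.2 hf, Subgroup.card_top, Nat.card_eq_fintype_card]
    rfl
  have he : Nat.card f.ker = Nat.card (Subgroup.centralizer ({σ} : Set (alternatingGroup (Fin 8)))) :=
    Nat.card_congr
      { toFun := fun x => ⟨⟨x.1.1, Equiv.Perm.mem_alternatingGroup.2 x.2⟩,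
          Subgroup.mem_centralizer_singleton_iff.2 (Subtype.ext (Subgroup.mem_centralizer_singleton_iff.1 x.1.2))⟩
        invFun := fun y => ⟨⟨y.1.1, Subgroup.mem_centralizer_singleton_iff.2
          (congrArg Subtype.val (Subgroup.mem_centralizer_singleton_iff.1 y.2))⟩,
          (Equiv.Perm.mem_alternatingGroup.1 y.1.2 :)⟩
        left_inv := fun _ => rfl
        right_inv := fun _ => rfl }
  have hcard := Subgroup.card_mul_index f.ker
  rw [hidx, he, hC, Equiv.Perm.nat_card_centralizer, Fintype.card_fin] at hcard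
  rcases alt_eight_cycleType σ h with e | e <;> rw [e] at hcard
  · refine Or.inl ⟨e, ?_⟩
    norm_num [Multiset.sum_replicate, Multiset.prod_replicate, Multiset.toFinset_replicate,
      Multiset.count_replicate, Nat.factorial] at hcard ⊢
    omega
  · refine Or.inr ⟨e, ?_⟩
    norm_num [Multiset.sum_replicate, Multiset.prod_replicate, Multiset.toFinset_replicate,
      Multiset.count_replicate, Nat.factorial] at hcard ⊢
    omega

variable {G : Type*} [Group G] {D : AltCent G} {G0 : Subgroup G}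

theorem nr_invol : (nr : CA) * nr = 1 ∧ nr ≠ 1 ∧ az * az = 1 ∧ az ≠ 1 := by decide +kernel

theorem sylow_center : ∀ m : CA, (∀ k : CA, inS k = true → m * k = k * m) → m = 1 ∨ m = az := by
  decide +kernel

theorem orderOf_hom_two (D : AltCent G) {x : CA} (h2 : x * x = 1) (h1 : x ≠ 1) : orderOf (D.hom x) = 2 :=
  orderOf_eq_prime (by rw [pow_two, ← map_mul, h2, map_one])
    fun h => h1 (D.inj (h.trans (map_one D.hom).symm))

/-- Every involution is conjugate to one of the centraliser. -/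
theorem exists_conj_range [Finite G] (D : AltCent G) {t : G} (ht : orderOf t = 2) :
    ∃ x : CA, lab x ≠ 0 ∧ IsConj (D.hom x) t := by
  classical
  haveI : Fact (Nat.Prime 2) := ⟨Nat.prime_two⟩
  have hS : IsPGroup 2 (aS.map D.hom) := (IsPGroup.of_card (n := 6) (by rw [card_aS]; norm_num)).map D.hom
  obtain ⟨P, hP⟩ := hS.exists_le_sylow
  have hazS : az ∈ aS := inS_facts.1
  have hcent : ∀ c ∈ (P : Subgroup G), (∀ p ∈ (P : Subgroup G), c * p = p * c) → c = 1 ∨ c = D.hom az := by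
    intro c _ hc
    obtain ⟨m, rfl⟩ := exists_hom_of_commute D (hc _ (hP ⟨az, hazS, rfl⟩))
    rcases sylow_center m (fun k hk => D.inj (by
      rw [map_mul, map_mul]; exact hc _ (hP ⟨k, hk, rfl⟩))) with rfl | rfl
    · exact Or.inl (map_one _)
    · exact Or.inr rfl
  have hazP : ∀ p ∈ (P : Subgroup G), p * D.hom az = D.hom az * p := by
    intro p hp
    haveI : Nontrivial (P : Subgroup G) := ⟨⟨D.hom az, hP ⟨az, hazS, rfl⟩⟩, 1, fun h =>
      D.az_ne_one (congrArg Subtype.val h)⟩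
    haveI := P.isPGroup'.center_nontrivial
    obtain ⟨⟨⟨c, hcP⟩, hcZ⟩, hc1⟩ := exists_ne (1 : Subgroup.center (P : Subgroup G))
    have hcc : ∀ q ∈ (P : Subgroup G), c * q = q * c := fun q hq =>
      (congrArg Subtype.val (Subgroup.mem_center_iff.1 hcZ ⟨q, hq⟩)).symm
    rcases hcent c hcP hcc with rfl | rfl
    · exact absurd rfl hc1
    · exact (hcc p hp).symm
  obtain ⟨Q, hQ⟩ := (IsPGroup.of_card (G := Subgroup.zpowers t) (p := 2) (n := 1)
    (by rw [Nat.card_zpowers, ht, pow_one])).exists_le_sylow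
  obtain ⟨g, hg⟩ := MulAction.exists_smul_eq G Q P
  have hmem : g * t * g⁻¹ ∈ (P : Subgroup G) := by
    rw [← hg]
    exact (Subgroup.smul_mem_pointwise_smul_iff (a := MulAut.conj g) (x := t)
      (S := (Q : Subgroup G))).2 (hQ (Subgroup.mem_zpowers _))
  obtain ⟨x, hx⟩ := exists_hom_of_commute D (hazP _ hmem)
  have ho : orderOf (D.hom x) = 2 := by rw [hx, CfsgLib.Invol.orderOf_conj, ht]
  refine ⟨x, fun h0 => (lab_eq_zero_iff x).1 h0 ⟨D.inj ?_, fun h1 => ?_⟩, (isConj_iff.2 ⟨g, hx.symm⟩).symm⟩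
  · rw [map_mul, map_one, ← pow_two, ← ho, pow_orderOf_eq_one]
  · rw [h1, map_one, orderOf_one] at ho
    omega

theorem NineSetting.not_conj (h : NineSetting D G0) : ¬ IsConj (D.hom az) (D.hom nr) := by
  rw [h.std nr, nine_facts.1]
  omega

/-- An involution of `G0` is conjugate in `G0` to `az` or to `nr`. -/
theorem NineSetting.conj_mem (h : NineSetting D G0) {t : G} (ht : t ∈ G0) (h2 : orderOf t = 2) :
    ∃ k ∈ G0, k * D.hom az * k⁻¹ = t ∨ k * D.hom nr * k⁻¹ = t := by
  obtain ⟨e⟩ := h.alt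
  have hm : ∀ x, D.hom x ∈ G0 := fun x => h.le ⟨x, rfl⟩
  have ho : ∀ u : G0, orderOf (u : G) = 2 → orderOf (e u) = 2 := fun u hu => by
    rw [e.orderOf_eq, ← Subgroup.orderOf_coe, hu]
  set z : G0 := ⟨D.hom az, hm az⟩
  set r : G0 := ⟨D.hom nr, hm nr⟩
  have hzr : ¬ IsConj (e z) (e r) := fun hc => by
    obtain ⟨k, hk⟩ := isConj_iff.1 hc
    refine h.not_conj (isConj_iff.2 ⟨((e.symm k : G0) : G), ?_⟩)
    have := congrArg (fun u => ((e.symm u : G0) : G)) hk
    simpa using this
  rcases alt_eight_two_classes (ho z (orderOf_hom_two D nr_invol.2.2.1 nr_invol.2.2.2))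
      (ho r (orderOf_hom_two D nr_invol.1 nr_invol.2.1)) (ho ⟨t, ht⟩ h2) hzr with hc | hc <;>
    obtain ⟨k, hk⟩ := isConj_iff.1 hc <;>
    have hk' := congrArg (fun u => ((e.symm u : G0) : G)) hk
  · exact ⟨_, (e.symm k).2, Or.inl (by simpa [z] using hk')⟩
  · exact ⟨_, (e.symm k).2, Or.inr (by simpa [r] using hk')⟩

/-- Every involution of `G` is conjugate to `az` or to `nr`. -/
theorem NineSetting.conj_cases [Finite G] (h : NineSetting D G0) {t : G} (ht : orderOf t = 2) :
    IsConj (D.hom az) t ∨ IsConj (D.hom nr) t := by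
  obtain ⟨x, hx0, hx⟩ := exists_conj_range D ht
  have ho : orderOf (D.hom x) = 2 := by
    obtain ⟨g, hg⟩ := isConj_iff.1 hx
    rw [← hg, CfsgLib.Invol.orderOf_conj] at ht
    exact ht
  obtain ⟨k, -, hk | hk⟩ := h.conj_mem (h.le ⟨x, rfl⟩) ho
  · exact Or.inl ((isConj_iff.2 ⟨k, hk⟩).trans hx)
  · exact Or.inr ((isConj_iff.2 ⟨k, hk⟩).trans hx)

/-- Involutions of `G0` conjugate in `G` are conjugate in `G0`. -/
theorem NineSetting.fusion (h : NineSetting D G0) {t s : G} (ht : t ∈ G0) (hs : s ∈ G0)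
    (ht2 : orderOf t = 2) (hs2 : orderOf s = 2) (hc : IsConj t s) : ∃ k ∈ G0, k * t * k⁻¹ = s := by
  obtain ⟨a, ha, ha'⟩ := h.conj_mem ht ht2
  obtain ⟨b, hb, hb'⟩ := h.conj_mem hs hs2
  have key : ∀ x : G, a * x * a⁻¹ = t → b * x * b⁻¹ = s → ∃ k ∈ G0, k * t * k⁻¹ = s := fun x h1 h2 =>
    ⟨b * a⁻¹, G0.mul_mem hb (G0.inv_mem ha), by rw [← h1, ← h2]; group⟩
  rcases ha' with h1 | h1 <;> rcases hb' with h2 | h2
  · exact key _ h1 h2
  · exact absurd ((isConj_iff.2 ⟨a, h1⟩).trans (hc.trans (isConj_iff.2 ⟨b, h2⟩).symm)) h.not_conj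
  · exact absurd ((isConj_iff.2 ⟨b, h2⟩).trans (hc.symm.trans (isConj_iff.2 ⟨a, h1⟩).symm)) h.not_conj
  · exact key _ h1 h2

/-- The part of the centraliser of `nr` in `G0`. -/
theorem NineSetting.card_centR_inf (h : NineSetting D G0) : Nat.card (centR D ⊓ G0 : Subgroup G) = 96 := by
  obtain ⟨e⟩ := h.alt
  have hm : ∀ x, D.hom x ∈ G0 := fun x => h.le ⟨x, rfl⟩
  set z : G0 := ⟨D.hom az, hm az⟩
  set r : G0 := ⟨D.hom nr, hm nr⟩
  have hcard : ∀ u : G0, Nat.card (Subgroup.centralizer ({(u : G)} : Set G) ⊓ G0 : Subgroup G) =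
      Nat.card (Subgroup.centralizer ({e u} : Set (alternatingGroup (Fin 8)))) := by
    intro u
    refine Nat.card_congr
      { toFun := fun x => ⟨e ⟨x.1, x.2.2⟩, Subgroup.mem_centralizer_singleton_iff.2 ?_⟩
        invFun := fun y => ⟨(e.symm y.1 : G0), Subgroup.mem_inf.2
          ⟨Subgroup.mem_centralizer_singleton_iff.2 ?_, (e.symm y.1).2⟩⟩
        left_inv := fun x => Subtype.ext (by simp)
        right_inv := fun y => Subtype.ext (by simp) }
    · rw [← map_mul, ← map_mul]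
      exact congrArg e (Subtype.ext (Subgroup.mem_centralizer_singleton_iff.1 x.2.1))
    · have := congrArg (fun v => ((e.symm v : G0) : G)) (Subgroup.mem_centralizer_singleton_iff.1 y.2)
      simpa using this
  have ho : ∀ u : G0, orderOf (u : G) = 2 → orderOf (e u) = 2 := fun u hu => by
    rw [e.orderOf_eq, ← Subgroup.orderOf_coe, hu]
  have hoz := ho z (orderOf_hom_two D nr_invol.2.2.1 nr_invol.2.2.2)
  have hor := ho r (orderOf_hom_two D nr_invol.1 nr_invol.2.1)
  have hz : Nat.card (Subgroup.centralizer ({e z} : Set (alternatingGroup (Fin 8)))) = 192 := by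
    rw [← hcard z]
    show Nat.card (Subgroup.centralizer ({D.hom az} : Set G) ⊓ G0 : Subgroup G) = 192
    rw [← D.range_eq, inf_eq_left.2 h.le, ← CA.card,
      Nat.card_congr (MonoidHom.ofInjective D.inj).toEquiv]
  rw [show (centR D ⊓ G0 : Subgroup G) = Subgroup.centralizer ({(r : G)} : Set G) ⊓ G0 from rfl, hcard r]
  rcases alt_eight_card_centralizer (e r) hor with ⟨-, h1⟩ | ⟨h1, -⟩
  · exact h1
  rcases alt_eight_card_centralizer (e z) hoz with ⟨-, h2⟩ | ⟨h2, -⟩
  · omega
  obtain ⟨k, hk⟩ := isConj_iff.1 (alt_eight_isConj hoz (h2.trans h1.symm))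
  refine absurd (isConj_iff.2 ⟨((e.symm k : G0) : G), ?_⟩) h.not_conj
  simpa [z, r] using congrArg (fun u => ((e.symm u : G0) : G)) hk

/-- If the centraliser of `nr` is no larger than in A8 then there is nothing else. -/
theorem NineSetting.eq_top_of_card [Finite G] (h : NineSetting D G0) (hc : Nat.card (centR D) = 96) :
    G0 = ⊤ := by
  by_contra hne
  have hm : ∀ x, D.hom x ∈ G0 := fun x => h.le ⟨x, rfl⟩
  have hz2 := orderOf_hom_two D nr_invol.2.2.1 nr_invol.2.2.2
  have hr2 := orderOf_hom_two D nr_invol.1 nr_invol.2.1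
  have hR : centR D ≤ G0 := by
    rw [← inf_eq_left]
    exact Subgroup.eq_of_le_of_card_ge inf_le_left (by rw [h.card_centR_inf, hc])
  have hSE : Cfsg.IsStronglyEmbedded G0 := by
    rw [CfsgLib.Invol.isStronglyEmbedded_iff_centralizers hne
      (CfsgLib.Invol.even_card_of_orderOf_two_mem hz2 (hm az))]
    refine ⟨fun t ht ht2 g hg => ?_, fun t ht s hs ht2 hs2 hc => h.fusion ht hs ht2 hs2 hc⟩
    obtain ⟨k, hk, hk'⟩ := h.conj_mem ht ht2
    have hmove : ∀ x : G, k * x * k⁻¹ = t → k⁻¹ * g * k ∈ Subgroup.centralizer ({x} : Set G) := fun x hx => by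
      have hgt := Subgroup.mem_centralizer_singleton_iff.1 hg
      rw [Subgroup.mem_centralizer_singleton_iff]
      calc k⁻¹ * g * k * x = k⁻¹ * (g * (k * x * k⁻¹)) * k := by group
        _ = k⁻¹ * (g * t) * k := by rw [hx]
        _ = k⁻¹ * (t * g) * k := by rw [hgt]
        _ = x * (k⁻¹ * g * k) := by rw [← hx]; group
    have hgk : k⁻¹ * g * k ∈ G0 := by
      rcases hk' with hx | hx
      · exact h.le (D.range_eq.ge (hmove _ hx))
      · exact hR (hmove _ hx)
    have := G0.mul_mem (G0.mul_mem hk hgk) (G0.inv_mem hk)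
    simpa [mul_assoc] using this
  obtain ⟨g, hg⟩ : ∃ g : G, g ∉ G0 := by
    by_contra! hall
    exact hne (eq_top_iff.2 fun g _ => hall g)
  have hu : g * D.hom az * g⁻¹ ∉ G0 := fun hmem =>
    hg ((CfsgLib.Invol.isStronglyEmbedded_iff_fusion hne
      (CfsgLib.Invol.even_card_of_orderOf_two_mem hz2 (hm az))).1 hSE _ (hm az) hz2 g hmem)
  exact h.not_conj ((Cfsg.Agent.S1225.result G0 hSE _ (by rw [CfsgLib.Invol.orderOf_conj, hz2]) hu
    _ _ hz2 (hm az) hz2 (hm az)).2 _ _ hz2 hr2)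

end CfsgLib.AltEightRecog
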