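import Cfsg.Agent.Lib.AltEightRecog.NineSetting
import Cfsg.Agent.Lib.AltEightRecog.Nine

/-!
# The dichotomy A8 / A9 in the form used by the assembly
-/

set_option autoImplicit false
set_option maxRecDepth 100000

namespace CfsgLib.AltEightRecog

theorem lab_iff_conj : ∀ x : CA, (lab x = 1 ∨ lab x = 2 ∨ lab x = 3 ∨ lab x = 5) ↔
    ∃ g : CA, g * x * g⁻¹ = az ∨ g * x * g⁻¹ = ac ∨ g * x * g⁻¹ = ad ∨ g * x * g⁻¹ = ak := by decide +kernel

theorem nine_or_eight {G : Type*} [Group G] [Finite G] (D : AltCent G) (G0 : Subgroup G)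
    (h : NineSetting D G0) : G0 = ⊤ ∨ Nonempty (G ≃* alternatingGroup (Fin 9)) := by
  haveI := h.simple
  obtain ⟨e⟩ := h.alt
  exact Nine.main D (fun x => (h.std x).trans (lab_iff_conj x)) G0 e h.le

end CfsgLib.AltEightRecog
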