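import Cfsg.Agent.Lib.AltEightRecog.NineCentFacts
import Cfsg.Agent.Lib.Invol.GlaubermanZStar
import Cfsg.Agent.Lib.InvChar.ElemFour

/-!
# The centraliser of the involution `nr` in the A9 branch
-/

set_option autoImplicit false
set_option linter.style.haveILetI false
set_option maxHeartbeats 800000

namespace CfsgLib.AltEightRecog

open scoped Classical commutatorElement

universe u

namespace NineGen

variable {X : Type*} [Group X]

theorem mem_zpowers_invol {r : X} (hr : r * r = 1) {x : X} (hx : x ∈ Subgroup.zpowers r) :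
    x = 1 ∨ x = r := by
  obtain ⟨k, rfl⟩ := hx
  rcases Int.even_or_odd k with ⟨j, rfl⟩ | ⟨j, rfl⟩
  · exact Or.inl (by show r ^ (j + j) = 1; rw [← two_mul, zpow_mul, zpow_two, hr, one_zpow])
  · exact Or.inr (by show r ^ (2 * j + 1) = r; rw [zpow_add, zpow_mul, zpow_two, hr, one_zpow, one_mul,
      zpow_one])

theorem eq_one_of_sq_of_odd {x : X} {n : ℕ} (hn : Odd n) (hxn : x ^ n = 1) (hx : x * x = 1) :
    x = 1 := by
  obtain ⟨j, rfl⟩ := hn
  rwa [pow_succ, pow_mul, pow_two, hx, one_pow, one_mul] at hxn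

theorem card_map_mul [Finite X] (N : Subgroup X) [N.Normal] (H : Subgroup X) (h : N ≤ H) :
    Nat.card (H.map (QuotientGroup.mk' N)) * Nat.card N = Nat.card H := by
  have hidx : (H.map (QuotientGroup.mk' N)).index = H.index :=
    Subgroup.index_map_eq H (QuotientGroup.mk'_surjective N) (by rwa [QuotientGroup.ker_mk'])
  have h1 := H.card_mul_index
  have h2 := (H.map (QuotientGroup.mk' N)).card_mul_index
  have h3 := N.card_mul_index
  rw [hidx] at h2
  rw [Subgroup.index_eq_card N] at h3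
  apply Nat.eq_of_mul_eq_mul_right (Nat.pos_of_ne_zero (Subgroup.index_ne_zero_of_finite (H := H)))
  calc Nat.card (H.map (QuotientGroup.mk' N)) * Nat.card N * H.index
      = Nat.card N * (Nat.card (H.map (QuotientGroup.mk' N)) * H.index) := by ring
    _ = Nat.card N * Nat.card (X ⧸ N) := by rw [h2]
    _ = Nat.card X := h3
    _ = Nat.card H * H.index := h1.symm

theorem exists_conj_mem_sylow [Finite X] (T : Sylow 2 X) (E : Subgroup X) (hE : IsPGroup 2 E) :
    ∃ g : X, ∀ e ∈ E, g * e * g⁻¹ ∈ T := by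
  have : Fact (Nat.Prime 2) := ⟨Nat.prime_two⟩
  obtain ⟨T', hT'⟩ := hE.exists_le_sylow
  obtain ⟨g, hg⟩ := MulAction.exists_smul_eq X T' T
  refine ⟨g, fun e he => ?_⟩
  rw [← hg]
  exact Subgroup.smul_mem_pointwise_smul e (MulAut.conj g) (T' : Subgroup X) (hT' he)

end NineGen

namespace NineSetting

variable {G : Type u} [Group G] [Finite G] {D : AltCent G} {G0 : Subgroup G}

theorem hom_comm {x y : CA} : D.hom x * D.hom y = D.hom y * D.hom x ↔ x * y = y * x := by
  rw [← map_mul, ← map_mul, D.inj.eq_iff]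

theorem mem_centR {g : G} : g ∈ centR D ↔ g * D.hom nr = D.hom nr * g :=
  Subgroup.mem_centralizer_singleton_iff

theorem mem_SR {g : G} :
    g ∈ centR D ⊓ Subgroup.centralizer {D.hom az} ↔ ∃ x : CA, x * nr = nr * x ∧ D.hom x = g := by
  rw [Subgroup.mem_inf, mem_centR, Subgroup.mem_centralizer_singleton_iff]
  constructor
  · rintro ⟨h1, h2⟩
    obtain ⟨x, rfl⟩ := exists_hom_of_commute D h2
    exact ⟨x, hom_comm.1 h1, rfl⟩
  · rintro ⟨x, hx, rfl⟩
    have hm : D.hom x ∈ D.hom.range := ⟨x, rfl⟩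
    rw [D.range_eq, Subgroup.mem_centralizer_singleton_iff] at hm
    exact ⟨hom_comm.2 hx, hm⟩

theorem inA_le : inASub.map D.hom ≤ centR D := by
  rintro _ ⟨x, hx, rfl⟩
  exact mem_centR.2 (hom_comm.2 (inA_facts.2.2.2.2.1 x nr hx nine_facts.2.2.2.2.2.2.1))

theorem inA_comm {a b : G} (ha : a ∈ inASub.map D.hom) (hb : b ∈ inASub.map D.hom) :
    a * b = b * a := by
  obtain ⟨x, hx, rfl⟩ := ha
  obtain ⟨y, hy, rfl⟩ := hb
  exact hom_comm.2 (inA_facts.2.2.2.2.1 x y hx hy)

theorem inA_sq {a : G} (ha : a ∈ inASub.map D.hom) : a * a = 1 := by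
  obtain ⟨x, hx, rfl⟩ := ha
  rw [← map_mul, inA_facts.1 x hx, map_one]

variable (h : NineSetting D G0)
include h

theorem K_of {x : CA} (hx : IsConj (D.hom az) (D.hom x)) :
    lab x = 1 ∨ lab x = 2 ∨ lab x = 3 ∨ lab x = 5 := (h.std x).1 hx

theorem nonK_of {x : CA} (hxx : x * x = 1) (hx1 : x ≠ 1) (hx : ¬ IsConj (D.hom az) (D.hom x)) :
    lab x = 4 ∨ lab x = 6 := by
  have h0 : lab x ≠ 0 := fun e => (lab_eq_zero_iff x).1 e ⟨hxx, hx1⟩
  have h6 := lab_le x
  have hn : ¬ (lab x = 1 ∨ lab x = 2 ∨ lab x = 3 ∨ lab x = 5) := fun e => hx ((h.std x).2 e)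
  omega

theorem not_conj_of {x : CA} (hx : lab x = 4 ∨ lab x = 6) :
    ¬ IsConj (D.hom az) (D.hom x) := fun e => by
  have := h.K_of e
  omega

/-- An element of `N(A)` maps the classes outside the fused one to themselves. -/
theorem conj_inA {m : G} (hm : m ∈ Subgroup.normalizer ((inASub.map D.hom : Subgroup G) : Set G))
    {x : CA} (hx : inA x = true) (hl : lab x = 4 ∨ lab x = 6) :
    ∃ a : CA, inA a = true ∧ (lab a = 4 ∨ lab a = 6) ∧ D.hom a = m * D.hom x * m⁻¹ := by
  obtain ⟨a, ha, e⟩ := (Subgroup.mem_normalizer_iff.1 hm (D.hom x)).1 ⟨x, hx, rfl⟩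
  refine ⟨a, ha, h.nonK_of (inA_facts.1 a ha) ?_ ?_, e⟩
  · intro ha1
    rw [ha1, map_one, eq_comm, conj_eq_one_iff, ← map_one D.hom] at e
    have := D.inj e
    rw [this] at hl
    rw [(lab_eq_zero_iff 1).2 (by simp)] at hl
    omega
  · intro hc
    rw [e] at hc
    exact h.not_conj_of hl (hc.trans (isConj_iff.2 ⟨m, rfl⟩).symm)

omit h in
theorem inv_mem_normalizer {m : G}
    (hm : m ∈ Subgroup.normalizer ((inASub.map D.hom : Subgroup G) : Set G)) :
    m⁻¹ ∈ Subgroup.normalizer ((inASub.map D.hom : Subgroup G) : Set G) := Subgroup.inv_mem _ hm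

theorem odd_trivial {k g : G} (hk : k ∈ inASub.map D.hom) (hK : IsConj (D.hom az) k)
    (hg : g ∈ centR D) (hgk : g * k = k * g) (hodd : Odd (orderOf g)) : g = 1 := by
  obtain ⟨m, hm, hmk⟩ := h.trans_A k hk hK
  obtain ⟨a, ha, hla, hae⟩ := h.conj_inA (inv_mem_normalizer hm) nine_facts.2.2.2.2.2.2.1
    (Or.inl nine_facts.1)
  have hz : m⁻¹ * g * m * D.hom az = D.hom az * (m⁻¹ * g * m) := by
    calc m⁻¹ * g * m * D.hom az = m⁻¹ * (g * (m * D.hom az * m⁻¹)) * m := by group
      _ = m⁻¹ * (m * D.hom az * m⁻¹ * g) * m := by rw [hmk, hgk]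
      _ = D.hom az * (m⁻¹ * g * m) := by group
  obtain ⟨x, hx⟩ := exists_hom_of_commute D hz
  have hxa : x * a = a * x := by
    rw [← hom_comm (D := D), hx, hae, inv_inv]
    calc m⁻¹ * g * m * (m⁻¹ * D.hom nr * m) = m⁻¹ * (g * D.hom nr) * m := by group
      _ = m⁻¹ * (D.hom nr * g) * m := by rw [mem_centR.1 hg]
      _ = m⁻¹ * D.hom nr * m * (m⁻¹ * g * m) := by group
  have hox : orderOf x = orderOf g := by
    rw [← orderOf_injective D.hom D.inj x, hx, show m⁻¹ * g * m = MulAut.conj m⁻¹ g by simp]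
    exact orderOf_injective (MulAut.conj m⁻¹).toMonoidHom (MulAut.conj m⁻¹).injective g
  have hd3 : orderOf x ∣ 3 := by
    have h192 : orderOf x ∣ 2 ^ 6 * 3 := by
      have := orderOf_dvd_natCard x
      rwa [CA.card] at this
    exact ((Nat.coprime_two_right.2 (hox ▸ hodd)).pow_right 6).dvd_of_dvd_mul_left h192
  have hx3 : x * x * x = 1 := by
    rw [← orderOf_dvd_iff_pow_eq_one.1 hd3]; simp [pow_succ]
  have := NineFacts.odd_free a ha hla x hxa hx3
  rw [this, map_one] at hx
  calc g = m * (m⁻¹ * g * m) * m⁻¹ := by group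
    _ = 1 := by rw [← hx]; group

/-- An element of `N(A)` centralising `nr` fixes the four-group. -/
theorem conj_nv {n : G} (hn : n ∈ Subgroup.normalizer ((inASub.map D.hom : Subgroup G) : Set G))
    (hr : n ∈ centR D) : n * D.hom nv * n⁻¹ ∈ ({D.hom nv, D.hom (nr * nv)} : Finset G) := by
  obtain ⟨a, ha, hla, hae⟩ := h.conj_inA hn nine_facts.2.2.2.2.2.2.2.1 (Or.inr nine_facts.2.1)
  obtain ⟨b, hb, hlb, hbe⟩ := h.conj_inA hn NineFacts.basics.2.2.2.2.2.2.2.2.2.2.2.2.2
    (Or.inr nine_facts.2.2.1)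
  have hab : b = nr * a := D.inj (by
    rw [hbe, map_mul, map_mul, hae]
    calc n * (D.hom nr * D.hom nv) * n⁻¹ = n * D.hom nr * D.hom nv * n⁻¹ := by group
      _ = D.hom nr * (n * D.hom nv * n⁻¹) := by rw [mem_centR.1 hr]; group)
  rcases NineFacts.klein_iff a ha hla (hab ▸ hlb) with e | e <;> rw [← hae, e] <;> simp

/-- `A` is a Sylow 2-subgroup of the centraliser of `nr` and `nv`. -/
theorem sylow_U : ¬ 2 ∣ ((inASub.map D.hom).subgroupOf
    (centR D ⊓ Subgroup.centralizer {D.hom nv})).index := by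
  refine NineGen.odd_index _ _ 4 ?_ (by rw [inA_map_card]; norm_num) ?_
  · intro a ha
    refine ⟨inA_le ha, Subgroup.mem_centralizer_singleton_iff.2 ?_⟩
    exact inA_comm ha ⟨nv, nine_facts.2.2.2.2.2.2.2.1, rfl⟩
  intro g hg hgg hconj
  have hgr := mem_centR.1 hg.1
  have hgv := Subgroup.mem_centralizer_singleton_iff.1 hg.2
  have hgN : g ∈ Subgroup.normalizer ((inASub.map D.hom : Subgroup G) : Set G) := by
    rw [Subgroup.mem_normalizer_iff]
    intro a
    refine ⟨hconj a, fun ha => ?_⟩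
    have h2 := hconj _ ha
    have he : g * (g * a * g⁻¹) * g⁻¹ = g * g * a * (g * g)⁻¹ := by group
    rw [he] at h2
    have h3 := Subgroup.mul_mem _ (Subgroup.mul_mem _ (Subgroup.inv_mem _ hgg) h2) hgg
    rwa [show (g * g)⁻¹ * (g * g * a * (g * g)⁻¹) * (g * g) = a by group] at h3
  -- an element outside the four-group fixed by `g`
  have key : ∃ y : CA, inA y = true ∧ (lab y = 4 ∨ lab y = 6) ∧ y ≠ nr ∧ y ≠ nv ∧ y ≠ nr * nv ∧
      g * D.hom y = D.hom y * g := by
    obtain ⟨-, -, -, -, -, -, -, -, -, -, hyr, hyv, hyw, -⟩ := NineFacts.basics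
    have hyA : inA ny = true := nine_facts.2.2.2.2.2.2.2.2.1
    have hyl : lab ny = 4 ∨ lab ny = 6 := Or.inl nine_facts.2.2.2.1
    obtain ⟨b, hb, hlb, hbe⟩ := h.conj_inA hgN hyA hyl
    have hne : ∀ w : CA, ny ≠ w → g * D.hom w = D.hom w * g → b ≠ w := by
      intro w hw hgw hbw
      rw [hbw] at hbe
      refine hw (D.inj ?_)
      calc D.hom ny = g⁻¹ * (g * D.hom ny * g⁻¹) * g := by group
        _ = g⁻¹ * (D.hom w * g) := by rw [← hbe, mul_assoc]
        _ = D.hom w := by rw [← hgw]; group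
    have hb1 := hne nr hyr hgr
    have hb2 := hne nv hyv hgv
    have hb3 := hne (nr * nv) hyw (by
      rw [map_mul, ← mul_assoc, hgr, mul_assoc, hgv, ← mul_assoc])
    by_cases hby : b = ny
    · refine ⟨ny, hyA, hyl, hyr, hyv, hyw, ?_⟩
      rw [hby] at hbe
      exact mul_inv_eq_iff_eq_mul.1 hbe.symm
    · obtain ⟨hl, h1, h2, h3⟩ :=
        NineFacts.other_prod ny hyA hyl hyr hyv hyw b hb hlb hb1 hb2 hb3 (Ne.symm hby)
      refine ⟨ny * b, inA_mul _ _ hyA hb, hl, h1, h2, h3, ?_⟩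
      have hb' : g * D.hom b * g⁻¹ = D.hom ny := by
        have e1 : g * g * D.hom ny = D.hom ny * (g * g) := inA_comm hgg ⟨ny, hyA, rfl⟩
        calc g * D.hom b * g⁻¹ = g * g * D.hom ny * (g * g)⁻¹ := by rw [hbe]; group
          _ = D.hom ny := by rw [e1, mul_inv_cancel_right]
      have e2 : g * D.hom (ny * b) * g⁻¹ = D.hom (ny * b) := by
        rw [inA_facts.2.2.2.2.1 ny b hyA hb]
        calc g * D.hom (b * ny) * g⁻¹ = (g * D.hom b * g⁻¹) * (g * D.hom ny * g⁻¹) := by
              rw [map_mul]; group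
          _ = D.hom (b * ny) := by
              rw [hb', ← hbe, ← map_mul, inA_facts.2.2.2.2.1 ny b hyA hb]
      exact mul_inv_eq_iff_eq_mul.1 e2
  obtain ⟨y, hyA, hyl, hyr, hyv, hyw, hgy⟩ := key
  have hkA : inA (y * nr) = true := inA_mul _ _ hyA nine_facts.2.2.2.2.2.2.1
  obtain ⟨m, hm, hmk⟩ := h.trans_A _ ⟨y * nr, hkA, rfl⟩
    ((h.std _).2 (NineFacts.other_K y hyA hyl hyr hyv hyw))
  have hm' := inv_mem_normalizer hm
  obtain ⟨a, ha, hla, hae⟩ := h.conj_inA hm' nine_facts.2.2.2.2.2.2.1 (Or.inl nine_facts.1)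
  obtain ⟨b, hb, hlb, hbe⟩ := h.conj_inA hm' nine_facts.2.2.2.2.2.2.2.1 (Or.inr nine_facts.2.1)
  obtain ⟨c, hc, hlc, hce⟩ := h.conj_inA hm' NineFacts.basics.2.2.2.2.2.2.2.2.2.2.2.2.2
    (Or.inr nine_facts.2.2.1)
  have habc : a * b = c := D.inj (by rw [map_mul, hae, hbe, hce, map_mul]; group)
  have hanb : a ≠ b := by
    intro e
    rw [e] at hae
    exact NineFacts.basics.2.2.2.2.2.1 (D.inj (mul_left_cancel (mul_right_cancel (hbe.symm.trans hae))))
  have hgk : g * D.hom (y * nr) = D.hom (y * nr) * g := by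
    rw [map_mul, ← mul_assoc, hgy, mul_assoc, hgr, ← mul_assoc]
  have hNC : m⁻¹ * g * m ∈ Subgroup.normalizer ((inASub.map D.hom : Subgroup G) : Set G) ⊓
      Subgroup.centralizer {D.hom az} := by
    refine ⟨Subgroup.mul_mem _ (Subgroup.mul_mem _ hm' hgN) hm,
      Subgroup.mem_centralizer_singleton_iff.2 ?_⟩
    calc m⁻¹ * g * m * D.hom az = m⁻¹ * (g * (m * D.hom az * m⁻¹)) * m := by group
      _ = m⁻¹ * (m * D.hom az * m⁻¹ * g) * m := by rw [hmk, hgk]
      _ = D.hom az * (m⁻¹ * g * m) := by group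
  obtain ⟨x, hx, hxe⟩ := (inA_stab_iff D _).1 hNC
  have hxa : x * a = a * x := by
    rw [← hom_comm (D := D), hxe, hae, inv_inv]
    calc m⁻¹ * g * m * (m⁻¹ * D.hom nr * m) = m⁻¹ * (g * D.hom nr) * m := by group
      _ = m⁻¹ * (D.hom nr * g) * m := by rw [hgr]
      _ = m⁻¹ * D.hom nr * m * (m⁻¹ * g * m) := by group
  have hxb : x * b = b * x := by
    rw [← hom_comm (D := D), hxe, hbe, inv_inv]
    calc m⁻¹ * g * m * (m⁻¹ * D.hom nv * m) = m⁻¹ * (g * D.hom nv) * m := by group
      _ = m⁻¹ * (D.hom nv * g) * m := by rw [hgv]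
      _ = m⁻¹ * D.hom nv * m * (m⁻¹ * g * m) := by group
  have hxA := NineFacts.stab_fix a ha hla b hb hlb (habc ▸ hlc) hanb x hxa hxb hx
  have := (Subgroup.mem_normalizer_iff.1 hm (D.hom x)).1 ⟨x, hxA, rfl⟩
  rw [hxe, show m * (m⁻¹ * g * m) * m⁻¹ = g by group] at this
  exact this

/-- A Sylow 2-subgroup of the centraliser of `nr`. -/
theorem sylow_C : ¬ 2 ∣ ((centR D ⊓ Subgroup.centralizer {D.hom az}).subgroupOf (centR D)).index := by
  have hcard : Nat.card ↥(centR D ⊓ Subgroup.centralizer {D.hom az}) = 2 ^ 5 := by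
    rw [Nat.subtype_card ((Finset.univ.filter fun x : CA => x * nr = nr * x).map ⟨D.hom, D.inj⟩)
      (fun g => by
        rw [mem_SR, Finset.mem_map]
        simp only [Finset.mem_filter, Finset.mem_univ, true_and, Function.Embedding.coeFn_mk]),
      Finset.card_map, nine_facts.2.2.2.2.2.2.2.2.2.1]
    norm_num
  refine NineGen.odd_index _ _ 5 inf_le_left hcard ?_
  intro g hg _ hconj
  refine ⟨hg, ?_⟩
  obtain ⟨x, hx, hxe⟩ := mem_SR.1 (hconj (D.hom az) (mem_SR.2 ⟨az, by decide +kernel, rfl⟩))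
  have hxz : x = az := by
    refine NineFacts.center_K x hx (h.K_of ?_) ?_
    · exact isConj_iff.2 ⟨g, hxe.symm⟩
    · intro w hw
      rw [← hom_comm (D := D), hxe]
      have hinj : Function.Injective
          (fun a : ↥(centR D ⊓ Subgroup.centralizer {D.hom az}) =>
            (⟨g * a.1 * g⁻¹, hconj a.1 a.2⟩ : ↥(centR D ⊓ Subgroup.centralizer {D.hom az}))) := by
        intro a b hab
        exact Subtype.ext (mul_left_cancel (mul_right_cancel (congrArg Subtype.val hab)))
      obtain ⟨⟨b, hb⟩, hbe⟩ := Finite.surjective_of_injective hinj ⟨D.hom w, mem_SR.2 ⟨w, hw, rfl⟩⟩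
      have hbe' : g * b * g⁻¹ = D.hom w := congrArg Subtype.val hbe
      have hbz := Subgroup.mem_centralizer_singleton_iff.1 hb.2
      rw [← hbe']
      calc g * D.hom az * g⁻¹ * (g * b * g⁻¹) = g * (D.hom az * b) * g⁻¹ := by group
        _ = g * (b * D.hom az) * g⁻¹ := by rw [hbz]
        _ = g * b * g⁻¹ * (g * D.hom az * g⁻¹) := by group
  rw [hxz] at hxe
  exact Subgroup.mem_centralizer_singleton_iff.2 (mul_inv_eq_iff_eq_mul.1 hxe.symm)

/-- `nv` is fused in `C(nr)` only to `nr * nv` inside the Sylow subgroup. -/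
theorem conj_in_SR {g : G} (hg : g ∈ centR D)
    (ho : g * D.hom nv * g⁻¹ * D.hom az = D.hom az * (g * D.hom nv * g⁻¹)) :
    g * D.hom nv * g⁻¹ ∈ ({D.hom nv, D.hom (nr * nv)} : Finset G) := by
  let U := centR D ⊓ Subgroup.centralizer ({D.hom nv} : Set G)
  let z' := g⁻¹ * D.hom az * g
  have hzC : D.hom az ∈ centR D := inA_le ⟨az, inA_facts.2.1, rfl⟩
  have hz' : z' ∈ U := by
    refine ⟨Subgroup.mul_mem _ (Subgroup.mul_mem _ (Subgroup.inv_mem _ hg) hzC) hg,
      Subgroup.mem_centralizer_singleton_iff.2 ?_⟩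
    calc z' * D.hom nv = g⁻¹ * (D.hom az * (g * D.hom nv * g⁻¹)) * g := by simp only [z']; group
      _ = g⁻¹ * (g * D.hom nv * g⁻¹ * D.hom az) * g := by rw [ho]
      _ = D.hom nv * z' := by simp only [z']; group
  haveI : Fact (Nat.Prime 2) := ⟨Nat.prime_two⟩
  have hA0U : inASub.map D.hom ≤ U := fun a ha =>
    ⟨inA_le ha, Subgroup.mem_centralizer_singleton_iff.2
      (inA_comm ha ⟨nv, nine_facts.2.2.2.2.2.2.2.1, rfl⟩)⟩
  have hp : IsPGroup 2 ((inASub.map D.hom).subgroupOf U) := IsPGroup.of_card (n := 4) (by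
    rw [Nat.card_congr (Subgroup.subgroupOfEquivOfLe hA0U).toEquiv, inA_map_card]; norm_num)
  let T : Sylow 2 U := hp.toSylow h.sylow_U
  have hE : IsPGroup 2 (Subgroup.zpowers (⟨z', hz'⟩ : U)) := by
    refine IsPGroup.of_card (n := 1) ?_
    rw [Nat.card_zpowers, ← orderOf_injective U.subtype Subtype.val_injective, pow_one]
    apply orderOf_eq_prime
    · show (g⁻¹ * D.hom az * g) ^ 2 = 1
      rw [pow_two, show g⁻¹ * D.hom az * g * (g⁻¹ * D.hom az * g) =
        g⁻¹ * (D.hom az * D.hom az) * g by group, inA_sq ⟨az, inA_facts.2.1, rfl⟩]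
      group
    · show g⁻¹ * D.hom az * g ≠ 1
      intro e
      exact D.az_ne_one (by
        calc D.hom az = g * (g⁻¹ * D.hom az * g) * g⁻¹ := by group
          _ = 1 := by rw [e]; group)
  obtain ⟨u, hu⟩ := NineGen.exists_conj_mem_sylow T _ hE
  have ha : u.1 * z' * u.1⁻¹ ∈ inASub.map D.hom := hu _ (Subgroup.mem_zpowers _)
  have huv := Subgroup.mem_centralizer_singleton_iff.1 u.2.2
  let k := g * u.1⁻¹
  have hk : k ∈ centR D := Subgroup.mul_mem _ hg (Subgroup.inv_mem _ u.2.1)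
  let B : Subgroup CA := ((inASub.map D.hom).map (MulAut.conj k).toMonoidHom).comap D.hom
  have hle : (inASub.map D.hom).map (MulAut.conj k).toMonoidHom ≤
      centR D ⊓ Subgroup.centralizer {D.hom az} := by
    rintro _ ⟨b, hb, rfl⟩
    refine ⟨Subgroup.mul_mem _ (Subgroup.mul_mem _ hk (inA_le hb)) (Subgroup.inv_mem _ hk),
      Subgroup.mem_centralizer_singleton_iff.2 ?_⟩
    show k * b * k⁻¹ * D.hom az = D.hom az * (k * b * k⁻¹)
    have e : D.hom az = k * (u.1 * z' * u.1⁻¹) * k⁻¹ := by simp only [k, z']; group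
    have hc := inA_comm hb ha
    rw [e]
    calc k * b * k⁻¹ * (k * (u.1 * z' * u.1⁻¹) * k⁻¹)
        = k * (b * (u.1 * z' * u.1⁻¹)) * k⁻¹ := by group
      _ = k * (u.1 * z' * u.1⁻¹ * b) * k⁻¹ := by rw [hc]
      _ = k * (u.1 * z' * u.1⁻¹) * k⁻¹ * (k * b * k⁻¹) := by group
  have hle' : (inASub.map D.hom).map (MulAut.conj k).toMonoidHom ≤ D.hom.range :=
    fun w hw => let ⟨x, _, e⟩ := mem_SR.1 (hle hw); ⟨x, e⟩
  have hBmap : B.map D.hom = (inASub.map D.hom).map (MulAut.conj k).toMonoidHom :=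
    Subgroup.map_comap_eq_self hle'
  have hB : Nat.card B = 16 := by
    rw [Nat.card_congr (Subgroup.equivMapOfInjective B D.hom D.inj).toEquiv, hBmap,
      ← Nat.card_congr (Subgroup.equivMapOfInjective _ _ (MulAut.conj k).injective).toEquiv,
      inA_map_card]
  obtain ⟨l, hl⟩ := conj_to_inA B hB
    (fun x hx => by
      obtain ⟨w, hw, e⟩ := hx
      refine D.inj ?_
      rw [map_mul, ← e, ← map_mul, inA_sq hw, map_one, map_one])
    (fun x hx y hy => by
      obtain ⟨w, hw, e⟩ := hx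
      obtain ⟨w', hw', e'⟩ := hy
      rw [← hom_comm (D := D), ← e, ← e', ← map_mul, ← map_mul, inA_comm hw hw'])
  have hrB : nr ∈ B := ⟨D.hom nr, ⟨nr, nine_facts.2.2.2.2.2.2.1, rfl⟩, by
    show k * D.hom nr * k⁻¹ = D.hom nr
    rw [mem_centR.1 hk, mul_inv_cancel_right]⟩
  have hku : k * D.hom nv * k⁻¹ = g * D.hom nv * g⁻¹ := by
    simp only [k]
    calc g * u.1⁻¹ * D.hom nv * (g * u.1⁻¹)⁻¹ = g * (u.1⁻¹ * (D.hom nv * u.1)) * g⁻¹ := by group
      _ = g * D.hom nv * g⁻¹ := by rw [← huv]; group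
  have hoB : g * D.hom nv * g⁻¹ ∈ B.map D.hom := by
    rw [hBmap, ← hku]
    exact ⟨_, ⟨nv, nine_facts.2.2.2.2.2.2.2.1, rfl⟩, rfl⟩
  obtain ⟨o, hoB, hoe⟩ := hoB
  have hoA : inA o = true := by
    have := NineFacts.unique_conj l ((hl nr).1 hrB) _ ((hl o).1 hoB)
    rwa [show l * (l⁻¹ * o * l) * l⁻¹ = o by group] at this
  have hnotK : ∀ x : CA, lab x = 4 ∨ lab x = 6 → ∀ w : CA, D.hom w = g * D.hom x * g⁻¹ →
      inA w = true → lab w = 4 ∨ lab w = 6 := by
    intro x hx w hwe hw
    refine h.nonK_of (inA_facts.1 w hw) ?_ ?_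
    · intro e
      rw [e, map_one, eq_comm, conj_eq_one_iff, ← map_one D.hom] at hwe
      rw [D.inj hwe, (lab_eq_zero_iff 1).2 (by simp)] at hx
      omega
    · intro hc
      rw [hwe] at hc
      exact h.not_conj_of hx (hc.trans (isConj_iff.2 ⟨g, rfl⟩).symm)
  have hlo := hnotK nv (Or.inr nine_facts.2.1) o hoe hoA
  have hlro := hnotK (nr * nv) (Or.inr nine_facts.2.2.1) (nr * o) (by
    rw [map_mul, map_mul, hoe]
    calc D.hom nr * (g * D.hom nv * g⁻¹) = D.hom nr * g * D.hom nv * g⁻¹ := by group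
      _ = g * (D.hom nr * D.hom nv) * g⁻¹ := by rw [← mem_centR.1 hg]; group)
    (inA_mul _ _ nine_facts.2.2.2.2.2.2.1 hoA)
  rcases NineFacts.klein_iff o hoA hlo hlro with e | e <;> rw [← hoe, e] <;> simp

/-- The four-group is normal in the centraliser of `nr`. -/
theorem conj_nv_C {g : G} (hg : g ∈ centR D) :
    g * D.hom nv * g⁻¹ ∈ ({D.hom nv, D.hom (nr * nv)} : Finset G) := by
  haveI : Fact (Nat.Prime 2) := ⟨Nat.prime_two⟩
  obtain ⟨hrr, hvv, -, hr1, hv1, hvr, -⟩ := NineFacts.basics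
  let C := centR D
  let rC : C := ⟨D.hom nr, inA_le ⟨nr, nine_facts.2.2.2.2.2.2.1, rfl⟩⟩
  have hrC2 : rC * rC = 1 := Subtype.ext (by show D.hom nr * D.hom nr = 1; rw [← map_mul, hrr, map_one])
  have hrcen : ∀ w : C, w * rC = rC * w := fun w => Subtype.ext (mem_centR.1 w.2)
  let R0 : Subgroup C := Subgroup.zpowers rC
  haveI hR0 : R0.Normal := ⟨fun n hn w => by
    rcases NineGen.mem_zpowers_invol hrC2 hn with e | e
    · rw [e, mul_one, mul_inv_cancel]; exact R0.one_mem
    · rw [e, hrcen, mul_inv_cancel_right]; exact Subgroup.mem_zpowers _⟩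
  let q := QuotientGroup.mk' R0
  let S : Subgroup C := (centR D ⊓ Subgroup.centralizer {D.hom az}).subgroupOf C
  have hR0S : R0 ≤ S := by
    rw [Subgroup.zpowers_le]
    exact mem_SR.2 ⟨nr, rfl, rfl⟩
  have hSp : IsPGroup 2 S := IsPGroup.of_card (n := 5) (by
    rw [Nat.card_congr (Subgroup.subgroupOfEquivOfLe (inf_le_left (a := centR D))).toEquiv,
      Nat.subtype_card ((Finset.univ.filter fun x : CA => x * nr = nr * x).map ⟨D.hom, D.inj⟩)
        (fun g => by
          rw [mem_SR, Finset.mem_map]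
          simp only [Finset.mem_filter, Finset.mem_univ, true_and, Function.Embedding.coeFn_mk]),
      Finset.card_map, nine_facts.2.2.2.2.2.2.2.2.2.1]
    norm_num)
  have hidx : ¬ 2 ∣ (S.map q).index := by
    rw [Subgroup.index_map_eq S (QuotientGroup.mk'_surjective R0) (by rwa [QuotientGroup.ker_mk'])]
    exact h.sylow_C
  let T : Sylow 2 (C ⧸ R0) := (hSp.map q).toSylow hidx
  let vC : C := ⟨D.hom nv, inA_le ⟨nv, nine_facts.2.2.2.2.2.2.2.1, rfl⟩⟩
  have hvC : orderOf (q vC) = 2 := by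
    apply orderOf_eq_prime
    · rw [← map_pow]
      have e : vC ^ 2 = 1 := Subtype.ext (by
        show D.hom nv ^ 2 = 1
        rw [pow_two, ← map_mul, hvv, map_one])
      rw [e, map_one]
    · intro e
      rw [QuotientGroup.mk'_apply, QuotientGroup.eq_one_iff] at e
      rcases NineGen.mem_zpowers_invol hrC2 e with e | e
      · exact hv1 (D.inj ((congrArg Subtype.val e).trans (map_one D.hom).symm))
      · exact hvr (D.inj (congrArg Subtype.val e))
  have hiso : ∀ x : C ⧸ R0, x * q vC * x⁻¹ ∈ T → x * q vC * x⁻¹ = q vC := by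
    intro x hx
    obtain ⟨w, rfl⟩ := QuotientGroup.mk'_surjective R0 x
    rw [← map_inv, ← map_mul, ← map_mul] at hx ⊢
    obtain ⟨s, hs, hse⟩ := (show q (w * vC * w⁻¹) ∈ S.map q from hx)
    have hmem : w * vC * w⁻¹ ∈ S := by
      rw [QuotientGroup.mk'_apply, QuotientGroup.mk'_apply, QuotientGroup.eq] at hse
      have := S.mul_mem hs (hR0S hse)
      rwa [mul_inv_cancel_left] at this
    have hz : (w * vC * w⁻¹ : C).1 * D.hom az = D.hom az * (w * vC * w⁻¹ : C).1 :=
      Subgroup.mem_centralizer_singleton_iff.1 hmem.2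
    have := h.conj_in_SR w.2 hz
    simp only [Finset.mem_insert, Finset.mem_singleton] at this
    rcases this with e | e
    · exact congrArg q (Subtype.ext e)
    · rw [QuotientGroup.mk'_apply, QuotientGroup.mk'_apply, QuotientGroup.eq]
      have e' : w * vC * w⁻¹ = rC * vC := Subtype.ext (e.trans (map_mul _ _ _))
      rw [e', mul_inv_rev, inv_eq_of_mul_eq_one_right hrC2, mul_assoc, ← hrcen,
        ← mul_assoc vC⁻¹, inv_mul_cancel, one_mul]
      exact Subgroup.mem_zpowers _
  obtain ⟨N, hN, hNodd, hNc⟩ := CfsgLib.Invol.zStar_sylow T (q vC) hvC hiso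
  -- the odd normal subgroup is trivial
  have hinv : ∀ k : CA, inA k = true → IsConj (D.hom az) (D.hom k) →
      ∀ kC : C, kC.1 = D.hom k → ∀ n ∈ N, q kC * n * (q kC)⁻¹ = n⁻¹ := by
    intro k hk hK kC hkC
    have hkk : kC * kC = 1 := Subtype.ext (by
      show kC.1 * kC.1 = 1
      rw [hkC, ← map_mul, inA_facts.1 k hk, map_one])
    refine NineGen.inverts N (q kC) (by rw [← map_mul, hkk, map_one])
      (fun n hn => hN.conj_mem n hn _) ?_
    intro n hn hcomm
    obtain ⟨w, rfl⟩ := QuotientGroup.mk'_surjective R0 n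
    have hodd : Odd (orderOf (q w)) := by
      refine hNodd.of_dvd_nat ?_
      exact N.orderOf_dvd_natCard hn
    have hww : w * w * kC = kC * (w * w) := by
      rw [← map_mul, ← map_mul, QuotientGroup.mk'_apply, QuotientGroup.mk'_apply,
        QuotientGroup.eq] at hcomm
      rcases NineGen.mem_zpowers_invol hrC2 hcomm with e | e
      · have e1 : w * kC = kC * w := (inv_mul_eq_one.1 e).symm
        rw [mul_assoc, e1, ← mul_assoc, e1, mul_assoc]
      · have e1 : w * kC = kC * w * rC := by rw [← e]; group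
        calc w * w * kC = w * (w * kC) := mul_assoc _ _ _
          _ = w * (kC * w * rC) := by rw [e1]
          _ = (w * kC) * w * rC := by group
          _ = kC * w * (rC * w) * rC := by rw [e1]; group
          _ = kC * w * w * (rC * rC) := by rw [← hrcen]; group
          _ = kC * (w * w) := by rw [hrC2, mul_one, mul_assoc]
    have hwpow : (w * w) ^ orderOf (q w) = 1 := by
      have e0 : q (w ^ orderOf (q w)) = 1 := by rw [map_pow, pow_orderOf_eq_one]
      rw [QuotientGroup.mk'_apply, QuotientGroup.eq_one_iff] at e0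
      rw [← pow_two, ← pow_mul, mul_comm, pow_mul, pow_two]
      rcases NineGen.mem_zpowers_invol hrC2 e0 with e | e <;> rw [e]
      · rw [one_mul]
      · exact hrC2
    have hoddw : Odd (orderOf (w * w).1) := by
      rw [← Subgroup.subtype_apply, orderOf_injective C.subtype Subtype.val_injective]
      exact hodd.of_dvd_nat (orderOf_dvd_of_pow_eq_one hwpow)
    have h1 : (w * w).1 = 1 := h.odd_trivial (k := kC.1) (hkC ▸ ⟨k, hk, rfl⟩) (hkC ▸ hK)
      (w * w).2 (congrArg Subtype.val hww) hoddw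
    refine NineGen.eq_one_of_sq_of_odd hodd (pow_orderOf_eq_one _) ?_
    rw [← map_mul, show w * w = 1 from Subtype.ext h1, map_one]
  have hNbot : N = ⊥ := by
    rw [Subgroup.eq_bot_iff_forall]
    intro n hn
    obtain ⟨k, hk, hkK, hzkK⟩ := NineFacts.pair_K
    let zC : C := ⟨D.hom az, inA_le ⟨az, inA_facts.2.1, rfl⟩⟩
    let kC : C := ⟨D.hom k, inA_le ⟨k, hk, rfl⟩⟩
    have h1 := hinv az inA_facts.2.1 (IsConj.refl _) zC rfl
    have h2 := hinv k hk ((h.std _).2 hkK) kC rfl
    have h3 := hinv (az * k) (inA_mul _ _ inA_facts.2.1 hk) ((h.std _).2 hzkK) (zC * kC)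
      (map_mul _ _ _).symm n hn
    rw [map_mul] at h3
    have h4 : q zC * q kC * n * (q zC * q kC)⁻¹ = n := by
      calc q zC * q kC * n * (q zC * q kC)⁻¹ = q zC * (q kC * n * (q kC)⁻¹) * (q zC)⁻¹ := by group
        _ = q zC * n⁻¹ * (q zC)⁻¹ := by rw [h2 n hn]
        _ = n⁻¹⁻¹ := h1 _ (N.inv_mem hn)
        _ = n := inv_inv n
    have hsq : n * n = 1 := by
      have : n⁻¹ = n := h3.symm.trans h4
      calc n * n = n⁻¹ * n := by rw [this]
        _ = 1 := inv_mul_cancel n
    refine NineGen.eq_one_of_sq_of_odd (n := orderOf n) ?_ (pow_orderOf_eq_one _) hsq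
    exact hNodd.of_dvd_nat (N.orderOf_dvd_natCard hn)
  have hc := hNc (q ⟨g, hg⟩)
  rw [hNbot, Subgroup.mem_bot] at hc
  rw [← map_inv, ← map_inv, ← map_mul, ← map_mul, ← map_mul, QuotientGroup.mk'_apply,
    QuotientGroup.eq_one_iff] at hc
  simp only [Finset.mem_insert, Finset.mem_singleton]
  rcases NineGen.mem_zpowers_invol hrC2 hc with e | e
  · left
    have e' : D.hom nv * g * (D.hom nv)⁻¹ * g⁻¹ = 1 := congrArg Subtype.val e
    rw [mul_inv_eq_one, mul_inv_eq_iff_eq_mul] at e'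
    rw [← e', mul_inv_cancel_right]
  · right
    have e' : D.hom nv * g * (D.hom nv)⁻¹ * g⁻¹ = D.hom nr := congrArg Subtype.val e
    rw [map_mul]
    have hv2 : (D.hom nv)⁻¹ = D.hom nv := inv_eq_of_mul_eq_one_right (by
      rw [← map_mul, hvv, map_one])
    have hcv : D.hom nv * D.hom nr = D.hom nr * D.hom nv :=
      hom_comm.2 nine_facts.2.2.2.2.2.1.symm
    calc g * D.hom nv * g⁻¹
        = g * (D.hom nv)⁻¹ * g⁻¹ := by rw [hv2]
      _ = (D.hom nv)⁻¹ * (D.hom nv * g * (D.hom nv)⁻¹ * g⁻¹) := by group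
      _ = D.hom nr * D.hom nv := by rw [e', hv2, hcv]

end NineSetting

namespace NineSetting

variable {G : Type u} [Group G] [Finite G] {D : AltCent G} {G0 : Subgroup G}

omit [Finite G] in
theorem fourV_eq : fourV D = NineFacts.vSub.map D.hom := by
  apply le_antisymm
  · rw [fourV, Subgroup.closure_le]
    intro x hx
    rcases hx with rfl | rfl
    · exact ⟨nr, Or.inr (Or.inl rfl), rfl⟩
    · exact ⟨nv, Or.inr (Or.inr (Or.inl rfl)), rfl⟩
  · rintro _ ⟨x, hx, rfl⟩
    have h1 : D.hom nr ∈ fourV D := Subgroup.subset_closure (Or.inl rfl)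
    have h2 : D.hom nv ∈ fourV D := Subgroup.subset_closure (Or.inr rfl)
    rcases hx with rfl | rfl | rfl | rfl
    · rw [map_one]; exact Subgroup.one_mem _
    · exact h1
    · exact h2
    · rw [map_mul]; exact Subgroup.mul_mem _ h1 h2

omit [Finite G] in
theorem mem_fourV {x : G} :
    x ∈ fourV D ↔ x = 1 ∨ x = D.hom nr ∨ x = D.hom nv ∨ x = D.hom (nr * nv) := by
  rw [fourV_eq]
  constructor
  · rintro ⟨w, hw, rfl⟩
    rcases hw with rfl | rfl | rfl | rfl <;> simp
  · rintro (rfl | rfl | rfl | rfl)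
    · exact Subgroup.one_mem _
    · exact ⟨nr, Or.inr (Or.inl rfl), rfl⟩
    · exact ⟨nv, Or.inr (Or.inr (Or.inl rfl)), rfl⟩
    · exact ⟨nr * nv, Or.inr (Or.inr (Or.inr rfl)), rfl⟩

omit [Finite G] in
theorem card_fourV : Nat.card (fourV D) = 4 := by
  rw [fourV_eq, ← NineFacts.card_vSub]
  exact Nat.card_congr (Subgroup.equivMapOfInjective _ D.hom D.inj).toEquiv.symm

variable (h : NineSetting D G0)
include h

/-- The centraliser of `nr` has order `96`, or it is as in the alternating group of degree 9. -/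
theorem centR_cases_aux : Nat.card (centR D) = 96 ∨ NineCent D := by
  haveI : Fact (Nat.Prime 2) := ⟨Nat.prime_two⟩
  set A0 := inASub.map D.hom with hA0
  set N0 := Subgroup.normalizer ((A0 : Subgroup G) : Set G) with hN0
  set P := centR D ⊓ Subgroup.centralizer ({D.hom nv} : Set G) with hP
  have hAP : A0 ≤ P := fun a ha => ⟨inA_le ha, Subgroup.mem_centralizer_singleton_iff.2
      (inA_comm ha ⟨nv, nine_facts.2.2.2.2.2.2.2.1, rfl⟩)⟩
  have hVA : fourV D ≤ A0 := by
    rw [fourV_eq]; exact Subgroup.map_mono NineFacts.vSub_le_inA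
  have hCV : ∀ g ∈ centR D, ∀ w ∈ fourV D, g * w * g⁻¹ ∈ fourV D := by
    intro g hg w hw
    have h2 := h.conj_nv_C hg
    simp only [Finset.mem_insert, Finset.mem_singleton] at h2
    have hr : g * D.hom nr * g⁻¹ = D.hom nr := by
      rw [mem_centR.1 hg, mul_inv_cancel_right]
    have hrm : D.hom nr ∈ fourV D := mem_fourV.2 (Or.inr (Or.inl rfl))
    have hvm : g * D.hom nv * g⁻¹ ∈ fourV D := by
      rcases h2 with e | e <;> rw [e, mem_fourV] <;> simp
    rcases mem_fourV.1 hw with rfl | rfl | rfl | rfl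
    · rw [mul_one, mul_inv_cancel]; exact Subgroup.one_mem _
    · rwa [hr]
    · exact hvm
    · rw [map_mul, show g * (D.hom nr * D.hom nv) * g⁻¹ =
        g * D.hom nr * g⁻¹ * (g * D.hom nv * g⁻¹) by group, hr]
      exact Subgroup.mul_mem _ hrm hvm
  -- orders
  have hPC : Nat.card (centR D) = 2 * Nat.card P := by
    have h1 := NineGen.card_le_orbit (centR D) (D.hom nv)
      {D.hom nv, D.hom (nr * nv)} (fun g hg => h.conj_nv_C hg)
    have h2 : ({D.hom nv, D.hom (nr * nv)} : Finset G).card ≤ 2 := Finset.card_le_two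
    have hlt : P < centR D := by
      refine lt_of_le_of_ne inf_le_left (fun e => ?_)
      obtain ⟨x, hx, hxv⟩ := NineFacts.swap
      have hm : D.hom x ∈ P := by rw [e]; exact mem_centR.2 (hom_comm.2 hx)
      have := hom_comm.1 (Subgroup.mem_centralizer_singleton_iff.1 hm.2)
      rw [this, mul_inv_cancel_right] at hxv
      exact NineFacts.basics.2.2.2.1 (mul_eq_right.1 hxv.symm)
    obtain ⟨j, hj⟩ := Subgroup.card_dvd_of_le hlt.le
    have hP0 : 0 < Nat.card P := Nat.card_pos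
    have hle : Nat.card (centR D) ≤ 2 * Nat.card P := h1.trans (Nat.mul_le_mul_right _ h2)
    have hne : Nat.card (centR D) ≠ Nat.card P := fun e =>
      hlt.ne (Subgroup.eq_of_le_of_card_ge hlt.le e.le)
    rw [hj] at hle hne ⊢
    have hj2 : j ≤ 2 := Nat.le_of_mul_le_mul_left (by rw [mul_comm _ 2]; exact hle) hP0
    interval_cases j
    · simp [Nat.pos_iff_ne_zero] at hj hP0; exact absurd hj (Nat.card_pos (α := centR D)).ne'
    · exact absurd (mul_one _) hne
    · exact mul_comm _ _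
  have hN48 : 48 ≤ Nat.card ↥(N0 ⊓ P) := by
    have hN : Nat.card N0 = 576 := h.card_A
    have h1 := NineGen.card_le_orbit N0 (D.hom nr)
      ((Finset.univ.filter fun x : CA => inA x && (lab x == 4 || lab x == 6)).image D.hom)
      (fun n hn => by
        obtain ⟨a, ha, hla, hae⟩ := h.conj_inA hn nine_facts.2.2.2.2.2.2.1 (Or.inl nine_facts.1)
        rw [Finset.mem_image]
        exact ⟨a, by rcases hla with e | e <;> simp [ha, e], hae⟩)
    have h6 : ((Finset.univ.filter fun x : CA => inA x && (lab x == 4 || lab x == 6)).image D.hom).card ≤ 6 :=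
      Finset.card_image_le.trans NineFacts.nonK_count.le
    have h2 := NineGen.card_le_orbit (N0 ⊓ centR D) (D.hom nv)
      {D.hom nv, D.hom (nr * nv)} (fun n hn => h.conj_nv hn.1 hn.2)
    have h3 : ({D.hom nv, D.hom (nr * nv)} : Finset G).card ≤ 2 := Finset.card_le_two
    rw [inf_assoc] at h2
    have h4 := h1.trans (Nat.mul_le_mul_right _ h6)
    have h5 := h2.trans (Nat.mul_le_mul_right _ h3)
    rw [hN] at h4
    have h6' : Nat.card ↥(N0 ⊓ centR D) = Nat.card ↥(N0 ⊓ Subgroup.centralizer {D.hom nr}) := rfl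
    have h7 : Nat.card ↥(N0 ⊓ P) = Nat.card ↥(N0 ⊓ (centR D ⊓ Subgroup.centralizer {D.hom nv})) := rfl
    omega
  -- the quotient by the four-group
  let VP : Subgroup P := (fourV D).subgroupOf P
  haveI hVPn : VP.Normal := ⟨fun n hn g => by
    rw [Subgroup.mem_subgroupOf] at hn ⊢
    exact hCV g.1 g.2.1 n.1 hn⟩
  let q := QuotientGroup.mk' VP
  haveI : Fintype (P ⧸ VP) := Fintype.ofFinite _
  have hVle : fourV D ≤ P := hVA.trans hAP
  have hVPc : Nat.card VP = 4 := by
    rw [Nat.card_congr (Subgroup.subgroupOfEquivOfLe hVle).toEquiv, card_fourV]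
  let AP : Subgroup P := A0.subgroupOf P
  have hVPA : VP ≤ AP := fun w hw => hVA hw
  have hAPc : Nat.card AP = 16 := by
    rw [Nat.card_congr (Subgroup.subgroupOfEquivOfLe hAP).toEquiv, hA0, inA_map_card]
  let Ab : Subgroup (P ⧸ VP) := AP.map q
  have hAb : Nat.card Ab = 4 := by
    have := NineGen.card_map_mul VP AP hVPA
    rw [hVPc, hAPc] at this
    show Nat.card (AP.map (QuotientGroup.mk' VP)) = 4
    omega
  have hmemAb : ∀ w : P, q w ∈ Ab → w.1 ∈ A0 := by
    intro w ⟨a, ha, e⟩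
    rw [QuotientGroup.mk'_apply, QuotientGroup.mk'_apply, QuotientGroup.eq] at e
    have := AP.mul_mem ha (hVPA e)
    rwa [mul_inv_cancel_left] at this
  have hAbsq : ∀ a ∈ Ab, a * a = 1 := by
    rintro _ ⟨a, ha, rfl⟩
    have e : a * a = 1 := Subtype.ext (inA_sq (show a.1 ∈ A0 from ha))
    rw [← map_mul, e, map_one]
  have hAbcomm : ∀ a ∈ Ab, ∀ b ∈ Ab, a * b = b * a := by
    rintro _ ⟨a, ha, rfl⟩ _ ⟨b, hb, rfl⟩
    have e : a * b = b * a := Subtype.ext (inA_comm (show a.1 ∈ A0 from ha) (show b.1 ∈ A0 from hb))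
    rw [← map_mul, e, map_mul]
  obtain ⟨-, -, hyy, -, -, -, -, -, -, hy1, hyr, hyv, hyw, -⟩ := NineFacts.basics
  have hyA : D.hom ny ∈ A0 := ⟨ny, nine_facts.2.2.2.2.2.2.2.2.1, rfl⟩
  let yP : P := ⟨D.hom ny, hAP hyA⟩
  let yb := q yP
  have hybAb : yb ∈ Ab := ⟨yP, hyA, rfl⟩
  have hyb1 : yb ≠ 1 := by
    intro e
    have e' : yP ∈ VP := (QuotientGroup.eq_one_iff _).1 e
    rcases mem_fourV.1 (Subgroup.mem_subgroupOf.1 e') with e | e | e | e
    · exact hy1 (D.inj (e.trans (map_one D.hom).symm))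
    · exact hyr (D.inj e)
    · exact hyv (D.inj e)
    · exact hyw (D.inj e)
  have hyb : orderOf yb = 2 :=
    orderOf_eq_prime (by rw [pow_two]; exact hAbsq _ hybAb) hyb1
  have hcent : Subgroup.centralizer ({yb} : Set (P ⧸ VP)) = Ab := by
    apply le_antisymm
    · intro x hx
      obtain ⟨p, rfl⟩ := QuotientGroup.mk'_surjective VP x
      rw [Subgroup.mem_centralizer_singleton_iff] at hx
      have he : q (p * yP * p⁻¹) = q yP := by
        rw [map_mul, map_mul, map_inv, hx, mul_inv_cancel_right]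
      rw [QuotientGroup.mk'_apply, QuotientGroup.mk'_apply, eq_comm, QuotientGroup.eq,
        Subgroup.mem_subgroupOf, fourV_eq] at he
      obtain ⟨w, hw, hwe⟩ := he
      have hwe' : p.1 * D.hom ny * p.1⁻¹ = D.hom (ny * w) := by
        rw [map_mul, hwe]
        show _ = D.hom ny * ((D.hom ny)⁻¹ * (p.1 * D.hom ny * p.1⁻¹))
        group
      have hpr : p.1 * D.hom nr = D.hom nr * p.1 := mem_centR.1 p.2.1
      have hsqw : ny * w * (ny * w) = 1 :=
        inA_facts.1 _ (inA_mul _ _ nine_facts.2.2.2.2.2.2.2.2.1 (NineFacts.vSub_le_inA hw))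
      have hne : ny * w ≠ 1 := by
        intro e
        rw [e, map_one, conj_eq_one_iff, ← map_one D.hom] at hwe'
        exact hy1 (D.inj hwe')
      have hl1 := h.nonK_of hsqw hne (fun hc => h.not_conj_of (Or.inl nine_facts.2.2.2.1)
        (by rw [← hwe'] at hc; exact hc.trans (isConj_iff.2 ⟨p.1, rfl⟩).symm))
      have hpy : p.1 * D.hom az * p.1⁻¹ = D.hom (nr * (ny * w)) := by
        rw [map_mul, ← hwe', ← nine_facts.2.2.2.2.1, map_mul]
        calc p.1 * (D.hom nr * D.hom ny) * p.1⁻¹ = p.1 * D.hom nr * D.hom ny * p.1⁻¹ := by group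
          _ = D.hom nr * (p.1 * D.hom ny * p.1⁻¹) := by rw [hpr]; group
      have hl2 := h.K_of (isConj_iff.2 ⟨p.1, hpy⟩)
      have hw1 := NineFacts.y_coset w hw hl1 hl2
      rw [hw1, mul_one, nine_facts.2.2.2.2.1, mul_inv_eq_iff_eq_mul] at hpy
      obtain ⟨x', hx'⟩ := exists_hom_of_commute D hpy
      refine ⟨p, ?_, rfl⟩
      refine ⟨x', ?_, hx'⟩
      have hxv : x' * nv = nv * x' := by
        rw [← hom_comm (D := D), hx']
        exact Subgroup.mem_centralizer_singleton_iff.1 p.2.2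
      show inA x' = true
      simpa [inA, nv] using hxv
    · intro a ha
      rw [Subgroup.mem_centralizer_singleton_iff]
      exact hAbcomm a ha yb hybAb
  let NX : Subgroup (P ⧸ VP) := ((N0 ⊓ P).subgroupOf P).map q
  have hNX : 12 ≤ Nat.card NX := by
    have hle : VP ≤ (N0 ⊓ P).subgroupOf P := fun w hw =>
      ⟨Subgroup.le_normalizer (hVA hw), w.2⟩
    have := NineGen.card_map_mul VP _ hle
    rw [hVPc, Nat.card_congr (Subgroup.subgroupOfEquivOfLe (inf_le_right : N0 ⊓ P ≤ P)).toEquiv] at this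
    show 12 ≤ Nat.card (((N0 ⊓ P).subgroupOf P).map (QuotientGroup.mk' VP))
    omega
  have hNXn : ∀ n ∈ NX, ∀ a ∈ Ab, n * a * n⁻¹ ∈ Ab := by
    rintro _ ⟨n, hn, rfl⟩ _ ⟨a, ha, rfl⟩
    exact ⟨n * a * n⁻¹, (Subgroup.mem_normalizer_iff.1 hn.1 a.1).1 ha, by simp⟩
  have hAbidx : ¬ 2 ∣ Ab.index := by
    show ¬ 2 ∣ (AP.map q).index
    rw [Subgroup.index_map_eq AP (QuotientGroup.mk'_surjective VP) (by rwa [QuotientGroup.ker_mk'])]
    exact h.sylow_U
  have hXc : Nat.card (P ⧸ VP) * 4 = Nat.card P := by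
    rw [← hVPc, mul_comm, ← Subgroup.index_eq_card, Subgroup.card_mul_index]
  have hAbp : IsPGroup 2 Ab := IsPGroup.of_card (n := 2) (by rw [hAb]; norm_num)
  let T : Sylow 2 (P ⧸ VP) := hAbp.toSylow hAbidx
  by_cases hAn : Ab.Normal
  · left
    have h1 := NineGen.card_le_orbit (⊤ : Subgroup (P ⧸ VP)) yb
      ((Finset.univ.filter fun a : P ⧸ VP => a ∈ Ab).erase 1) (fun g _ => by
        rw [Finset.mem_erase, Finset.mem_filter]
        exact ⟨fun e => hyb1 (conj_eq_one_iff.1 e), Finset.mem_univ _, hAn.conj_mem _ hybAb g⟩)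
    rw [top_inf_eq, hcent, hAb, Subgroup.card_top] at h1
    have h3 : ((Finset.univ.filter fun a : P ⧸ VP => a ∈ Ab).erase 1).card = 3 := by
      rw [Finset.card_erase_of_mem (by simp [Ab.one_mem]), ← Nat.subtype_card
        (p := fun a => a ∈ Ab) _ (fun a => by simp)]
      omega
    rw [h3] at h1
    have := Subgroup.card_le_card_group NX
    omega
  right
  have hnc : ¬ Cfsg.HasNormalPComplement 2 (P ⧸ VP) := by
    rintro ⟨T', Nc, hNc, hcompl⟩
    have hT' : Nat.card (T' : Subgroup (P ⧸ VP)) = 4 := by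
      rw [T'.card_eq_multiplicity, ← T.card_eq_multiplicity]; exact hAb
    have hc := hcompl.card_mul_card
    have hci := Ab.card_mul_index
    rw [hT'] at hc
    rw [hAb] at hci
    have hNcc : Nat.card Nc = Ab.index := by omega
    have hdis : Nc ⊓ Ab = ⊥ := Subgroup.inf_eq_bot_of_coprime (by
      rw [hNcc, hAb, show (4 : ℕ) = 2 ^ 2 by norm_num]
      exact (Nat.coprime_two_right.2 (Nat.odd_iff.2 (Nat.two_dvd_ne_zero.1 hAbidx))).pow_right 2)
    have hquot : Nat.card ((P ⧸ VP) ⧸ Nc) = 2 ^ 2 := by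
      rw [← Subgroup.index_eq_card, hcompl.symm.index_eq_card, hT']
      norm_num
    have hq := IsPGroup.commutative_of_card_eq_prime_sq hquot
    have hle : NX ≤ Ab := by
      intro n hn
      rw [← hcent, Subgroup.mem_centralizer_singleton_iff]
      have hm : n * yb * n⁻¹ * yb⁻¹ ∈ Nc ⊓ Ab := by
        refine ⟨?_, Ab.mul_mem (hNXn n hn yb hybAb) (Ab.inv_mem hybAb)⟩
        show n * yb * n⁻¹ * yb⁻¹ ∈ Nc
        rw [← QuotientGroup.eq_one_iff]
        show (QuotientGroup.mk' Nc) (n * yb * n⁻¹ * yb⁻¹) = 1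
        rw [map_mul, map_mul, map_mul, map_inv, map_inv, hq (QuotientGroup.mk' Nc n),
          mul_inv_cancel_right, mul_inv_cancel]
      rw [hdis, Subgroup.mem_bot, mul_inv_eq_one, mul_inv_eq_iff_eq_mul] at hm
      exact hm
    have := Nat.le_of_dvd Nat.card_pos (Subgroup.card_dvd_of_le hle)
    omega
  have hne : ∀ E : Subgroup (P ⧸ VP), E.Normal → Cfsg.IsElementaryAbelian 2 E →
      Nat.card E ≠ 2 ∧ Nat.card E ≠ 4 := by
    intro E hE _
    have hEA : IsPGroup 2 E → E ≤ Ab := fun hEp e he => by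
      obtain ⟨g, hg⟩ := NineGen.exists_conj_mem_sylow T E hEp
      have := hg (g⁻¹ * e * g) (by simpa using hE.conj_mem e he g⁻¹)
      rwa [show g * (g⁻¹ * e * g) * g⁻¹ = e by group] at this
    refine ⟨fun hc => ?_, fun hc => ?_⟩
    · obtain ⟨e, he1, huniq⟩ := (Nat.card_eq_two_iff' (1 : E)).1 hc
      have heA : e.1 ∈ Ab := hEA (IsPGroup.of_card (n := 1) (by rw [hc]; norm_num)) e.2
      have hecen : ∀ g, g * e.1 * g⁻¹ = e.1 := fun g => by
        have := huniq ⟨g * e.1 * g⁻¹, hE.conj_mem _ e.2 g⟩ (fun h' => he1 (Subtype.ext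
          (conj_eq_one_iff.1 (congrArg Subtype.val h'))))
        exact congrArg Subtype.val this
      have he1' : e.1 ≠ 1 := fun h' => he1 (Subtype.ext h')
      by_cases hey : e.1 = yb
      · have htop : NX ≤ Subgroup.centralizer ({yb} : Set (P ⧸ VP)) := fun n _ => by
          rw [Subgroup.mem_centralizer_singleton_iff, ← mul_inv_eq_iff_eq_mul, ← hey]
          exact hecen n
        rw [hcent] at htop
        have := Nat.le_of_dvd Nat.card_pos (Subgroup.card_dvd_of_le htop)
        omega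
      · have h1 := NineGen.card_le_orbit NX yb {yb, e.1 * yb} (fun n hn => by
          have hm := hNXn n hn yb hybAb
          have hn1 : n * yb * n⁻¹ ≠ 1 := fun h' => hyb1 (conj_eq_one_iff.1 h')
          have hne' : n * yb * n⁻¹ ≠ e.1 := fun h' => hey
            (mul_left_cancel (mul_right_cancel (h'.trans (hecen n).symm))).symm
          have hfour : (Finset.univ.filter fun a : P ⧸ VP => a ∈ Ab) = {1, e.1, yb, e.1 * yb} := by
            refine (Finset.eq_of_subset_of_card_le ?_ ?_).symm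
            · intro a ha
              simp only [Finset.mem_insert, Finset.mem_singleton] at ha
              rcases ha with rfl | rfl | rfl | rfl <;>
                simp [Ab.one_mem, heA, hybAb, Ab.mul_mem heA hybAb]
            · rw [← Nat.subtype_card (p := fun a => a ∈ Ab) _ (fun a => by simp),
                show Nat.card { a // a ∈ Ab } = 4 from hAb]
              have hye : e.1 * yb ≠ 1 := fun h' => hey
                ((inv_eq_of_mul_eq_one_right (hAbsq _ heA)).symm.trans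
                  (inv_eq_of_mul_eq_one_right h'))
              rw [Finset.card_insert_of_notMem (by simp [he1'.symm, hyb1.symm, hye.symm]),
                Finset.card_insert_of_notMem (by simp [hey, hyb1]),
                Finset.card_insert_of_notMem (by simp [he1']), Finset.card_singleton]
          have hmem : n * yb * n⁻¹ ∈ (Finset.univ.filter fun a : P ⧸ VP => a ∈ Ab) := by simp [hm]
          rw [hfour] at hmem
          simp only [Finset.mem_insert, Finset.mem_singleton] at hmem ⊢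
          rcases hmem with h' | h' | h' | h'
          · exact absurd h' hn1
          · exact absurd h' hne'
          · exact Or.inl h'
          · exact Or.inr h')
        have h2 : Nat.card ↥(NX ⊓ Subgroup.centralizer {yb}) ≤ 4 := by
          rw [hcent, ← hAb]
          exact Nat.le_of_dvd Nat.card_pos (Subgroup.card_dvd_of_le inf_le_right)
        have h3 : ({yb, e.1 * yb} : Finset (P ⧸ VP)).card ≤ 2 := Finset.card_le_two
        have := Nat.mul_le_mul h3 h2
        omega
    · have := Subgroup.eq_of_le_of_card_ge (hEA (IsPGroup.of_card (n := 2) (by rw [hc]; norm_num)))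
        (by rw [hc, hAb])
      exact hAn (this ▸ hE)
  obtain ⟨e5⟩ := CfsgLib.InvChar.ElemFour.main yb hyb (by rw [hcent, hAb])
    (fun c hc => by rw [pow_two]; exact hAbsq c (hcent ▸ hc)) hnc hne
  have hX60 : Nat.card (P ⧸ VP) = 60 := by
    rw [Nat.card_congr e5.toEquiv, nat_card_alternatingGroup, Nat.card_fin]
    decide
  haveI : IsSimpleGroup (alternatingGroup (Fin 5)) := alternatingGroup.isSimpleGroup_five
  haveI : IsSimpleGroup (P ⧸ VP) := e5.isSimpleGroup
  have hperf : commutator (P ⧸ VP) = ⊤ := by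
    rcases Subgroup.Normal.eq_bot_or_eq_top (inferInstance : (commutator (P ⧸ VP)).Normal) with h' | h'
    · exfalso
      have htop : Subgroup.centralizer ({yb} : Set (P ⧸ VP)) = ⊤ := by
        rw [eq_top_iff]
        intro x _
        rw [Subgroup.mem_centralizer_singleton_iff]
        have hc : ⁅x, yb⁆ ∈ commutator (P ⧸ VP) :=
          Subgroup.commutator_mem_commutator (Subgroup.mem_top x) (Subgroup.mem_top yb)
        rw [h', Subgroup.mem_bot] at hc
        exact commutatorElement_eq_one_iff_mul_comm.1 hc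
      rw [hcent] at htop
      rw [htop, Subgroup.card_top] at hAb
      omega
    · exact h'
  refine ⟨by omega, hCV, card_fourV, ?_⟩
  intro g hg hgv
  have hgP : g ∈ P := ⟨hg, Subgroup.mem_centralizer_singleton_iff.2 hgv⟩
  have hm : q ⟨g, hgP⟩ ∈ (commutator P).map q := by
    have : (commutator P).map q = commutator (P ⧸ VP) := by
      rw [commutator_def, commutator_def, Subgroup.map_commutator,
        Subgroup.map_top_of_surjective q (QuotientGroup.mk'_surjective VP)]
    rw [this, hperf]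
    exact Subgroup.mem_top _
  obtain ⟨c, hc, hce⟩ := hm
  rw [QuotientGroup.mk'_apply, QuotientGroup.mk'_apply, eq_comm, QuotientGroup.eq_iff_div_mem] at hce
  refine ⟨g * c.1⁻¹, ?_, c.1, ?_, inv_mul_cancel_right g c.1⟩
  · have := Subgroup.mem_subgroupOf.1 hce
    simpa [div_eq_mul_inv] using this
  · rw [← hP, ← Subgroup.map_subtype_commutator]
    exact ⟨c, hc, rfl⟩

end NineSetting

/-- The centraliser of `nr` has order `96`, or it is as in the alternating group of degree 9. -/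
theorem centR_cases {G : Type u} [Group G] [Finite G] (D : AltCent G) (G0 : Subgroup G)
    (h : NineSetting D G0) : Nat.card (centR D) = 96 ∨ NineCent D :=
  h.centR_cases_aux

end CfsgLib.AltEightRecog
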