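import Cfsg.Agent.Lib.AltEightRecog.NineSetting

/-!
# Facts and generic lemmas for the centraliser of `nr` in the A9 branch
-/

set_option autoImplicit false
set_option maxRecDepth 100000
set_option linter.style.haveILetI false

namespace CfsgLib.AltEightRecog

universe u

/-! ## Facts about the model -/

namespace NineFacts

theorem odd_free : ∀ a : CA, inA a = true → (lab a = 4 ∨ lab a = 6) → ∀ x : CA, x * a = a * x →
    x * x * x = 1 → x = 1 := by decide +kernel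

theorem klein_iff : ∀ x : CA, inA x = true → (lab x = 4 ∨ lab x = 6) →
    (lab (nr * x) = 4 ∨ lab (nr * x) = 6) → x = nv ∨ x = nr * nv := by decide +kernel

set_option synthInstance.maxSize 1024 in
theorem other_prod : ∀ a : CA, inA a = true → (lab a = 4 ∨ lab a = 6) → a ≠ nr → a ≠ nv → a ≠ nr * nv →
    ∀ b : CA, inA b = true → (lab b = 4 ∨ lab b = 6) → b ≠ nr → b ≠ nv → b ≠ nr * nv →
    a ≠ b → (lab (a * b) = 4 ∨ lab (a * b) = 6) ∧ a * b ≠ nr ∧ a * b ≠ nv ∧ a * b ≠ nr * nv := by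
  decide +kernel

theorem other_K : ∀ a : CA, inA a = true → (lab a = 4 ∨ lab a = 6) → a ≠ nr → a ≠ nv →
    a ≠ nr * nv → (lab (a * nr) = 1 ∨ lab (a * nr) = 2 ∨ lab (a * nr) = 3 ∨ lab (a * nr) = 5) := by
  decide +kernel

set_option synthInstance.maxSize 1024 in
theorem stab_fix : ∀ a : CA, inA a = true → (lab a = 4 ∨ lab a = 6) →
    ∀ b : CA, inA b = true → (lab b = 4 ∨ lab b = 6) → (lab (a * b) = 4 ∨ lab (a * b) = 6) → a ≠ b →
    ∀ x : CA, x * a = a * x → x * b = b * x →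
      (∀ y : CA, inA y = true → inA (x * y * x⁻¹) = true) → inA x = true := by
  decide +kernel

theorem unique_conj : ∀ l : CA, inA (l⁻¹ * nr * l) = true →
    ∀ y : CA, inA y = true → inA (l * y * l⁻¹) = true := by decide +kernel

theorem center_K : ∀ x : CA, x * nr = nr * x →
    (lab x = 1 ∨ lab x = 2 ∨ lab x = 3 ∨ lab x = 5) →
    (∀ w : CA, w * nr = nr * w → x * w = w * x) → x = az := by decide +kernel

theorem swap : ∃ x : CA, x * nr = nr * x ∧ x * nv * x⁻¹ = nr * nv := by decide +kernel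

theorem pair_K : ∃ x : CA, inA x = true ∧ (lab x = 1 ∨ lab x = 2 ∨ lab x = 3 ∨ lab x = 5) ∧
    (lab (az * x) = 1 ∨ lab (az * x) = 2 ∨ lab (az * x) = 3 ∨ lab (az * x) = 5) := by decide +kernel

theorem nonK_count : (Finset.univ.filter fun x : CA => inA x && (lab x == 4 || lab x == 6)).card = 6 := by
  decide +kernel

theorem y_coset : ∀ w : CA, (w = 1 ∨ w = nr ∨ w = nv ∨ w = nr * nv) →
    (lab (ny * w) = 4 ∨ lab (ny * w) = 6) →
    (lab (nr * (ny * w)) = 1 ∨ lab (nr * (ny * w)) = 2 ∨ lab (nr * (ny * w)) = 3 ∨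
      lab (nr * (ny * w)) = 5) → w = 1 := by decide +kernel

theorem basics : nr * nr = 1 ∧ nv * nv = 1 ∧ ny * ny = 1 ∧ nr ≠ 1 ∧ nv ≠ 1 ∧ nv ≠ nr ∧
    nr * nv ≠ nr ∧ nr * nv ≠ 1 ∧ nr * nv ≠ nv ∧
    ny ≠ 1 ∧ ny ≠ nr ∧ ny ≠ nv ∧ ny ≠ nr * nv ∧ inA (nr * nv) = true := by decide +kernel

/-- The four-group in the model. -/
def vSub : Subgroup CA where
  carrier := {x | x = 1 ∨ x = nr ∨ x = nv ∨ x = nr * nv}
  one_mem' := Or.inl rfl
  mul_mem' := fun {x y} hx hy =>
    (show ∀ x y : CA, (x = 1 ∨ x = nr ∨ x = nv ∨ x = nr * nv) →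
      (y = 1 ∨ y = nr ∨ y = nv ∨ y = nr * nv) →
      (x * y = 1 ∨ x * y = nr ∨ x * y = nv ∨ x * y = nr * nv) by decide +kernel) x y hx hy
  inv_mem' := fun {x} hx =>
    (show ∀ x : CA, (x = 1 ∨ x = nr ∨ x = nv ∨ x = nr * nv) →
      (x⁻¹ = 1 ∨ x⁻¹ = nr ∨ x⁻¹ = nv ∨ x⁻¹ = nr * nv) by decide +kernel) x hx

theorem mem_vSub {x : CA} : x ∈ vSub ↔ x = 1 ∨ x = nr ∨ x = nv ∨ x = nr * nv := Iff.rfl

theorem card_vSub : Nat.card vSub = 4 := by
  rw [Nat.subtype_card ({1, nr, nv, nr * nv} : Finset CA) (fun x => by simp [mem_vSub])]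
  decide +kernel

theorem vSub_le_inA : vSub ≤ inASub := by
  intro x hx
  rcases hx with rfl | rfl | rfl | rfl
  · exact inASub.one_mem
  · exact nine_facts.2.2.2.2.2.2.1
  · exact nine_facts.2.2.2.2.2.2.2.1
  · exact basics.2.2.2.2.2.2.2.2.2.2.2.2.2

end NineFacts

/-! ## Generic lemmas -/

namespace NineGen

variable {X : Type*} [Group X] [Finite X]

/-- An orbit bound for the conjugation action. -/
theorem card_le_orbit (H : Subgroup X) (x : X) (S : Finset X)
    (hS : ∀ h ∈ H, h * x * h⁻¹ ∈ S) :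
    Nat.card H ≤ S.card * Nat.card ↥(H ⊓ Subgroup.centralizer {x}) := by
  classical
  let K : Subgroup H := (Subgroup.centralizer ({x} : Set X)).subgroupOf H
  have hK : Nat.card K = Nat.card ↥(H ⊓ Subgroup.centralizer {x}) :=
    Nat.card_congr
      { toFun := fun w => ⟨w.1.1, w.1.2, w.2⟩
        invFun := fun w => ⟨⟨w.1, w.2.1⟩, w.2.2⟩
        left_inv := fun _ => rfl
        right_inv := fun _ => rfl }
  have hidx : K.index ≤ S.card := by
    rw [Subgroup.index_eq_card, ← Nat.card_eq_finsetCard S]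
    refine Nat.card_le_card_of_injective
      (Quotient.lift (fun h : H => (⟨h.1 * x * h.1⁻¹, hS h.1 h.2⟩ : S)) ?_) ?_
    · intro a b hab
      have hab' := QuotientGroup.leftRel_apply.1 hab
      rw [Subgroup.mem_subgroupOf, Subgroup.mem_centralizer_singleton_iff] at hab'
      apply Subtype.ext
      show a.1 * x * a.1⁻¹ = b.1 * x * b.1⁻¹
      push_cast at hab'
      calc a.1 * x * a.1⁻¹ = a.1 * (x * (a.1⁻¹ * b.1)) * b.1⁻¹ := by group
        _ = a.1 * ((a.1⁻¹ * b.1) * x) * b.1⁻¹ := by rw [hab']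
        _ = b.1 * x * b.1⁻¹ := by group
    · intro p q hpq
      induction p using Quotient.inductionOn with
      | _ a =>
        induction q using Quotient.inductionOn with
        | _ b =>
          apply Quotient.sound
          refine QuotientGroup.leftRel_apply.2 ?_
          rw [Subgroup.mem_subgroupOf, Subgroup.mem_centralizer_singleton_iff]
          have h : a.1 * x * a.1⁻¹ = b.1 * x * b.1⁻¹ := congrArg Subtype.val hpq
          push_cast
          calc a.1⁻¹ * b.1 * x = a.1⁻¹ * (b.1 * x * b.1⁻¹) * b.1 := by group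
            _ = a.1⁻¹ * (a.1 * x * a.1⁻¹) * b.1 := by rw [h]
            _ = x * (a.1⁻¹ * b.1) := by group
  calc Nat.card H = Nat.card K * K.index := K.card_mul_index.symm
    _ ≤ Nat.card K * S.card := Nat.mul_le_mul_left _ hidx
    _ = S.card * Nat.card ↥(H ⊓ Subgroup.centralizer {x}) := by rw [hK, mul_comm]

/-- A fixed-point-free involutory automorphism inverts everything. -/
theorem inverts (N : Subgroup X) (k : X) (hk : k * k = 1) (hN : ∀ n ∈ N, k * n * k⁻¹ ∈ N)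
    (hfree : ∀ n ∈ N, k * n = n * k → n = 1) : ∀ n ∈ N, k * n * k⁻¹ = n⁻¹ := by
  let f : N → N := fun n => ⟨n.1⁻¹ * (k * n.1 * k⁻¹), N.mul_mem (N.inv_mem n.2) (hN n.1 n.2)⟩
  have hf : Function.Injective f := by
    intro a b hab
    have h : a.1⁻¹ * (k * a.1 * k⁻¹) = b.1⁻¹ * (k * b.1 * k⁻¹) := congrArg Subtype.val hab
    have h1 : k * (b.1 * a.1⁻¹) = b.1 * a.1⁻¹ * k := by
      calc k * (b.1 * a.1⁻¹) = b.1 * (b.1⁻¹ * (k * b.1 * k⁻¹)) * k * a.1⁻¹ := by group
        _ = b.1 * (a.1⁻¹ * (k * a.1 * k⁻¹)) * k * a.1⁻¹ := by rw [h]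
        _ = b.1 * a.1⁻¹ * k := by group
    have h2 := hfree _ (N.mul_mem b.2 (N.inv_mem a.2)) h1
    exact Subtype.ext (mul_inv_eq_one.1 h2).symm
  intro n hn
  obtain ⟨⟨w, hw⟩, e⟩ := (Finite.surjective_of_injective hf) ⟨n, hn⟩
  have e' : w⁻¹ * (k * w * k⁻¹) = n := congrArg Subtype.val e
  rw [← e']
  have hki : k⁻¹ = k := inv_eq_of_mul_eq_one_right hk
  calc k * (w⁻¹ * (k * w * k⁻¹)) * k⁻¹ = k * w⁻¹ * k * w * (k⁻¹ * k⁻¹) := by group
    _ = k * w⁻¹ * k * w := by rw [hki, hk, mul_one]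
    _ = k * w⁻¹ * k⁻¹ * w := by rw [hki]
    _ = (w⁻¹ * (k * w * k⁻¹))⁻¹ := by group

/-- A subgroup of order `2 ^ n` that is the largest 2-subgroup containing it has odd index. -/
theorem odd_index (H T : Subgroup X) (n : ℕ) (hHT : H ≤ T) (hH : Nat.card H = 2 ^ n)
    (hgrow : ∀ g ∈ T, g * g ∈ H → (∀ h ∈ H, g * h * g⁻¹ ∈ H) → g ∈ H) :
    ¬ 2 ∣ (H.subgroupOf T).index := by
  intro h2
  have : Fact (Nat.Prime 2) := ⟨Nat.prime_two⟩
  have hc : Nat.card (H.subgroupOf T) = 2 ^ n := by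
    rw [Nat.card_congr (Subgroup.subgroupOfEquivOfLe hHT).toEquiv, hH]
  have hdvd : 2 ^ (n + 1) ∣ Nat.card T := by
    rw [← (H.subgroupOf T).card_mul_index, hc, pow_succ]
    exact mul_dvd_mul_left _ h2
  obtain ⟨K, hK, hle⟩ := Sylow.exists_subgroup_card_pow_succ hdvd hc
  let L : Subgroup K := (H.subgroupOf T).subgroupOf K
  have hL : L.index = 2 := by
    have h := L.card_mul_index
    rw [Nat.card_congr (Subgroup.subgroupOfEquivOfLe hle).toEquiv, hc, hK, pow_succ] at h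
    exact Nat.eq_of_mul_eq_mul_left (by positivity) h
  have hnormal : L.Normal := Subgroup.normal_of_index_eq_two hL
  obtain ⟨g, hg, hgH⟩ : ∃ g ∈ K, g ∉ H.subgroupOf T := by
    by_contra hn
    push Not at hn
    have hKH : K = H.subgroupOf T := le_antisymm hn hle
    rw [hKH, hc] at hK
    exact absurd hK (Nat.ne_of_lt (Nat.pow_lt_pow_right (by norm_num) (Nat.lt_succ_self n)))
  refine hgH (hgrow g.1 g.2 ?_ ?_)
  · exact Subgroup.mul_self_mem_of_index_two hL ⟨g, hg⟩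
  · intro h hh
    exact hnormal.conj_mem ⟨⟨h, hHT hh⟩, hle (show h ∈ H from hh)⟩ hh ⟨g, hg⟩

end NineGen

end CfsgLib.AltEightRecog
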