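import Cfsg.Agent.Lib.AltEightRecog.NineCountModel
import Cfsg.Agent.Lib.Present.BinIcosahedral
import Mathlib.GroupTheory.Transfer
import Mathlib.Data.Fintype.BigOperators

/-!
# Pairs of involutions whose product powers to `nr`

The centraliser of `nr` is the extension of `fourV × A5` by an involution inducing a transposition
on the five points; the pairs are counted in this description.
-/

set_option autoImplicit false
set_option linter.style.haveILetI false
set_option linter.unusedSectionVars false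
set_option maxHeartbeats 1000000
set_option maxRecDepth 100000

namespace CfsgLib.AltEightRecog.NineCount

open Equiv Equiv.Perm
open scoped commutatorElement IsMulCommutative

variable {G : Type*} [Group G]

theorem inV_cases {x : CA} (h : inV x = true) : x = 1 ∨ x = nr ∨ x = nv ∨ x = nr * nv := by
  simpa [inV, or_assoc] using h

theorem inW_one : inW 1 = true := by simp [inW]

theorem model_inv {x : CA} (h : inV x = true) : x⁻¹ = x :=
  inv_eq_of_mul_eq_one_right (v_facts.2.2.2.2 x h).1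

/-- The description of the centraliser of `nr`. -/
structure Frame (D : AltCent G) where
  ι : A5 →* G
  inj : Function.Injective ι
  comm_r : ∀ q, ι q * D.hom nr = D.hom nr * ι q
  comm_v : ∀ q, ι q * D.hom nv = D.hom nv * ι q
  disj : ∀ x : CA, inV x = true → ∀ q, D.hom x = ι q → q = 1
  exists_mul : ∀ g : G, g * D.hom nr = D.hom nr * g → g * D.hom nv = D.hom nv * g →
    ∃ x : CA, inV x = true ∧ ∃ q, g = D.hom x * ι q
  wel : CA
  wA : A5
  wel_mem : inW wel = true
  wel_ne : wel ≠ 1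
  wel_eq : D.hom wel = ι wA
  π : Perm (Fin 5)
  π_sq : π * π = 1
  π_moved : moved π = 2
  tm : CA
  tm_comm : tm * nr = nr * tm
  tm_out : inA tm = false
  tm_sq : tm * tm = 1
  tm_sq' : inA (tm * nr) = false
  conj : ∀ q q' : A5, π * q * π⁻¹ = q' → D.hom tm * ι q * (D.hom tm)⁻¹ = ι q'
  cover : ∀ g : G, g * D.hom nr = D.hom nr * g →
    g * D.hom nv = D.hom nv * g ∨ ∃ p : G, p * D.hom nr = D.hom nr * p ∧
      p * D.hom nv = D.hom nv * p ∧ g = D.hom tm * p

theorem exists_frame [Finite G] (D : AltCent G) (hstd : Standard D) (hC : NineCent D) :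
    Nonempty (Frame D) := by
  classical
  set r := D.hom nr with hr
  set v := D.hom nv with hv
  set P := centR D ⊓ Subgroup.centralizer ({v} : Set G) with hPdef
  have hmemC : ∀ g : G, g ∈ centR D ↔ g * r = r * g := fun g =>
    Subgroup.mem_centralizer_singleton_iff
  have hmemP : ∀ g : G, g ∈ P ↔ g * r = r * g ∧ g * v = v * g := fun g => by
    rw [hPdef, Subgroup.mem_inf, hmemC, Subgroup.mem_centralizer_singleton_iff]
  -- the four-group
  let Vm : Subgroup CA :=
    { carrier := {x | inV x = true}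
      one_mem' := v_facts.1
      mul_mem' := fun {a b} ha hb => v_facts.2.2.2.1 a b ha hb
      inv_mem' := fun {a} ha => show inV a⁻¹ = true by rw [model_inv ha]; exact ha }
  have hV : ∀ g ∈ fourV D, ∃ x : CA, inV x = true ∧ D.hom x = g := by
    have hle : fourV D ≤ Vm.map D.hom := by
      rw [fourV, Subgroup.closure_le]
      rintro _ (rfl | rfl)
      · exact ⟨nr, v_facts.2.1, rfl⟩
      · exact ⟨nv, v_facts.2.2.1, rfl⟩
    intro g hg
    obtain ⟨x, hx, hxg⟩ := hle hg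
    exact ⟨x, hx, hxg⟩
  have hV' : ∀ x : CA, inV x = true → D.hom x ∈ fourV D := by
    intro x hx
    have h1 : r ∈ fourV D := Subgroup.subset_closure (Or.inl rfl)
    have h2 : v ∈ fourV D := Subgroup.subset_closure (Or.inr rfl)
    rcases inV_cases hx with rfl | rfl | rfl | rfl
    · rw [map_one]; exact one_mem _
    · exact h1
    · exact h2
    · rw [map_mul]; exact mul_mem h1 h2
  have hAP : ∀ a : CA, inA a = true → D.hom a ∈ P := by
    intro a ha
    rw [hmemP, hr, hv, ← map_mul, ← map_mul, ← map_mul, ← map_mul, ((in_a_facts.2.2 a ha)).1,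
      (in_a_facts.2.2 a ha).2]
    exact ⟨rfl, rfl⟩
  have hVP : ∀ x : CA, inV x = true → ∀ p ∈ P, p * D.hom x = D.hom x * p := by
    intro x hx p hp
    obtain ⟨h1, h2⟩ := (hmemP p).1 hp
    rcases inV_cases hx with rfl | rfl | rfl | rfl
    · simp
    · exact h1
    · exact h2
    · rw [map_mul]; exact Commute.mul_right h1 h2
  -- the outer involution
  obtain ⟨tm, ht1, ht2, ht3, -, ht5, -, wt, hwt, hwt1, hwt2, hwt3⟩ := t_facts
  set t := D.hom tm with htdef
  have htr : t * r = r * t := by rw [htdef, hr, ← map_mul, ← map_mul, ht1]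
  have htv : t * v * t⁻¹ = r * v := by
    rw [htdef, hr, hv, ← map_inv, ← map_mul, ← map_mul, ← map_mul, (out_facts tm ht1 ht2).1]
  have hrv : r * v ≠ v := fun h => by
    have : D.hom nr = D.hom 1 := by rw [map_one]; exact mul_eq_right.1 h
    exact absurd (D.inj this) (by decide +kernel)
  have htP : t ∉ P := fun h => hrv (by
    rw [← htv, ((hmemP t).1 h).2, mul_inv_cancel_right])
  have hcov : ∀ g : G, g * r = r * g → g ∈ P ∨ t⁻¹ * g ∈ P := by
    intro g hg
    obtain ⟨x, hx, hxg⟩ := hV _ (hC.normal g ((hmemC g).2 hg) v (Subgroup.subset_closure (Or.inr rfl)))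
    have hgr : g * r * g⁻¹ = r := by rw [hg, mul_inv_cancel_right]
    rcases inV_cases hx with rfl | rfl | rfl | rfl
    · rw [map_one] at hxg
      exact absurd (D.inj ((conj_eq_one_iff.1 hxg.symm).trans (map_one D.hom).symm)) (by decide +kernel)
    · exfalso
      have : v = r := (MulAut.conj g).injective
        (show g * v * g⁻¹ = g * r * g⁻¹ by rw [← hxg, hgr])
      exact absurd (D.inj this) (by decide +kernel)
    · left
      exact (hmemP g).2 ⟨hg, by
        calc g * v = g * v * g⁻¹ * g := by group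
          _ = v * g := by rw [← hxg]⟩
    · right
      refine (hmemP _).2 ⟨Commute.mul_left (Commute.inv_left htr) hg, ?_⟩
      rw [map_mul] at hxg
      calc t⁻¹ * g * v = t⁻¹ * (g * v * g⁻¹) * g := by group
        _ = t⁻¹ * (t * v * t⁻¹) * g := by rw [← hxg, htv]
        _ = v * (t⁻¹ * g) := by group
  have hPC : P ≤ centR D := inf_le_left
  have htC : t ∈ centR D := (hmemC t).2 htr
  have hPcard : Nat.card P = 240 := by
    let f : P × Bool → centR D := fun q => ⟨(if q.2 then t else 1) * q.1,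
      mul_mem (by split_ifs; exacts [htC, one_mem _]) (hPC q.1.2)⟩
    have hf : Function.Bijective f := by
      refine ⟨?_, ?_⟩
      · rintro ⟨p, b⟩ ⟨p', b'⟩ h
        have h' : (if b then t else 1) * (p : G) = (if b' then t else 1) * (p' : G) :=
          congrArg Subtype.val h
        rcases b with _ | _ <;> rcases b' with _ | _ <;> simp at h'
        · exact Prod.ext h' rfl
        · exfalso; apply htP
          rw [show t = (p : G) * (p' : G)⁻¹ by rw [h']; group]
          exact mul_mem p.2 (inv_mem p'.2)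
        · exfalso; apply htP
          rw [show t = (p' : G) * (p : G)⁻¹ by rw [← h']; group]
          exact mul_mem p'.2 (inv_mem p.2)
        · exact Prod.ext h' rfl
      · rintro ⟨g, hg⟩
        rcases hcov g ((hmemC g).1 hg) with h | h
        · exact ⟨(⟨g, h⟩, false), Subtype.ext (by simp [f])⟩
        · exact ⟨(⟨_, h⟩, true), Subtype.ext (by simp [f])⟩
    have := Nat.card_eq_of_bijective f hf
    rw [Nat.card_prod, hC.card, Nat.card_eq_fintype_card (α := Bool), Fintype.card_bool] at this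
    omega
  -- the derived subgroup
  set Q := ⁅P, P⁆ with hQdef
  have hQP : Q ≤ P := Subgroup.commutator_le.2 fun a ha b hb =>
    mul_mem (mul_mem (mul_mem ha hb) (inv_mem ha)) (inv_mem hb)
  have hdisj : ∀ x : CA, inV x = true → D.hom x ∈ Q → x = 1 := by
    intro x hx hxQ
    set H : Subgroup P := (inASub.map D.hom).subgroupOf P with hH
    have hAle : inASub.map D.hom ≤ P := by
      rintro _ ⟨a, ha, rfl⟩; exact hAP a ha
    have hHcard : Nat.card H = 16 := by
      rw [hH, Nat.card_congr (Subgroup.subgroupOfEquivOfLe hAle).toEquiv, inA_map_card]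
    have hHidx : H.index = 15 := by
      have := H.card_mul_index
      rw [hHcard, hPcard] at this
      omega
    haveI : IsMulCommutative H := ⟨⟨fun a b => by
      obtain ⟨a', ha', hae⟩ := Subgroup.mem_subgroupOf.1 a.2
      obtain ⟨b', hb', hbe⟩ := Subgroup.mem_subgroupOf.1 b.2
      apply Subtype.ext; apply Subtype.ext
      show (a.1.1 : G) * b.1.1 = b.1.1 * a.1.1
      rw [← hae, ← hbe, ← map_mul, ← map_mul, inA_facts.2.2.2.2.1 a' b' ha' hb']⟩⟩
    let φ : P →* H := MonoidHom.transfer (MonoidHom.id H)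
    let xP : P := ⟨D.hom x, hAP x (v_facts.2.2.2.2 x hx).2⟩
    have hkey : ∀ (k : ℕ) (g₀ : P), g₀⁻¹ * xP ^ k * g₀ ∈ H → g₀⁻¹ * xP ^ k * g₀ = xP ^ k := by
      intro k g₀ _
      have hc : Commute g₀ xP := Subtype.ext (hVP x hx g₀ g₀.2)
      rw [mul_assoc, ← (hc.pow_right k).eq, inv_mul_cancel_left]
    have hφ : (φ xP : P) = xP ^ H.index :=
      congrArg Subtype.val (MonoidHom.transfer_eq_pow (MonoidHom.id H) xP hkey)
    have hxc : xP ∈ commutator P := by
      have hQe : Q = (commutator P).map P.subtype := by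
        rw [commutator_def, Subgroup.map_commutator, ← MonoidHom.range_eq_map, Subgroup.range_subtype]
      obtain ⟨y, hy, hye⟩ := (hQe ▸ hxQ : D.hom x ∈ (commutator P).map P.subtype)
      rwa [show xP = y from Subtype.ext hye.symm]
    have hker : φ xP = 1 := Abelianization.commutator_subset_ker φ hxc
    rw [hker, hHidx] at hφ
    have hx15 : x ^ 15 = 1 := D.inj (by
      rw [map_pow, map_one]
      exact (congrArg Subtype.val hφ).symm)
    have hx2 : x ^ 2 = 1 := by rw [pow_two]; exact (v_facts.2.2.2.2 x hx).1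
    rw [pow_succ, show (14 : ℕ) = 2 * 7 from rfl, pow_mul, hx2, one_pow, one_mul] at hx15
    exact hx15
  have hmulP : ∀ g ∈ P, ∃ x : CA, inV x = true ∧ ∃ c ∈ Q, g = D.hom x * c := by
    intro g hg
    obtain ⟨w, hw, c, hc, hwc⟩ := hC.perfect_quot g ((hmemC g).2 ((hmemP g).1 hg).1) ((hmemP g).1 hg).2
    obtain ⟨x, hx, rfl⟩ := hV w hw
    exact ⟨x, hx, c, hc, hwc.symm⟩
  have hQcard : Nat.card Q = 60 := by
    let f : {x : CA // inV x = true} × Q → P := fun q => ⟨D.hom q.1.1 * q.2,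
      mul_mem (hAP _ (v_facts.2.2.2.2 _ q.1.2).2) (hQP q.2.2)⟩
    have hf : Function.Bijective f := by
      refine ⟨?_, ?_⟩
      · rintro ⟨⟨x, hx⟩, c⟩ ⟨⟨x', hx'⟩, c'⟩ h
        have h' : D.hom x * (c : G) = D.hom x' * (c' : G) := congrArg Subtype.val h
        have hx1 : x'⁻¹ * x = 1 := hdisj _ (Vm.mul_mem (Vm.inv_mem hx') hx) (by
          rw [map_mul, map_inv, show (D.hom x')⁻¹ * D.hom x = (c' : G) * (c : G)⁻¹ by
            calc (D.hom x')⁻¹ * D.hom x = (D.hom x')⁻¹ * (D.hom x * c) * (c : G)⁻¹ := by group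
              _ = (c' : G) * (c : G)⁻¹ := by rw [h']; group]
          exact mul_mem c'.2 (inv_mem c.2))
        obtain rfl : x = x' := (inv_mul_eq_one.1 hx1).symm
        exact Prod.ext rfl (Subtype.ext (mul_left_cancel h'))
      · rintro ⟨g, hg⟩
        obtain ⟨x, hx, c, hc, rfl⟩ := hmulP g hg
        exact ⟨(⟨x, hx⟩, ⟨c, hc⟩), rfl⟩
    have hcard := Nat.card_eq_of_bijective f hf
    have h4 : Nat.card {x : CA // inV x = true} = 4 := by
      rw [Nat.card_eq_fintype_card, Fintype.card_subtype]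
      decide +kernel
    rw [Nat.card_prod, h4, hPcard] at hcard
    omega
  have hperf : Q ≤ ⁅Q, Q⁆ := by
    conv_lhs => rw [hQdef]
    refine Subgroup.commutator_le.2 fun a ha b hb => ?_
    obtain ⟨x, hx, c, hc, rfl⟩ := hmulP a ha
    obtain ⟨y, hy, d, hd, rfl⟩ := hmulP b hb
    have key : ⁅D.hom x * c, D.hom y * d⁆ = ⁅c, d⁆ := by
      have hxc : Commute c (D.hom x) := hVP x hx c (hQP hc)
      have hxd : Commute d (D.hom x) := hVP x hx d (hQP hd)
      have hyc : Commute c (D.hom y) := hVP y hy c (hQP hc)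
      have hyd : Commute d (D.hom y) := hVP y hy d (hQP hd)
      have hxy : Commute (D.hom y) (D.hom x) := hVP x hx _ (hAP y (v_facts.2.2.2.2 y hy).2)
      rw [commutatorElement_def, commutatorElement_def]
      calc D.hom x * c * (D.hom y * d) * (D.hom x * c)⁻¹ * (D.hom y * d)⁻¹
          = D.hom x * (c * D.hom y) * d * c⁻¹ * (D.hom x)⁻¹ * d⁻¹ * (D.hom y)⁻¹ := by group
        _ = D.hom x * (D.hom y * c) * d * c⁻¹ * (D.hom x)⁻¹ * d⁻¹ * (D.hom y)⁻¹ := by rw [hyc.eq]
        _ = (D.hom x * D.hom y) * (c * d * c⁻¹ * (D.hom x)⁻¹) * d⁻¹ * (D.hom y)⁻¹ := by group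
        _ = (D.hom y * D.hom x) * ((D.hom x)⁻¹ * (c * d * c⁻¹)) * d⁻¹ * (D.hom y)⁻¹ := by
            rw [((((hxc.mul_left hxd).mul_left hxc.inv_left)).inv_right).eq, hxy.eq]
        _ = D.hom y * (c * d * c⁻¹ * d⁻¹) * (D.hom y)⁻¹ := by group
        _ = c * d * c⁻¹ * d⁻¹ := by
            rw [← (((hyc.mul_left hyd).mul_left hyc.inv_left).mul_left hyd.inv_left).eq,
              mul_inv_cancel_right]
    rw [key]
    exact Subgroup.commutator_mem_commutator hc hd
  have hQns : ¬ Group.IsSolvable Q := by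
    intro hs
    haveI : Nontrivial Q := Finite.one_lt_card_iff_nontrivial.1 (by omega)
    refine (Group.IsSolvable.commutator_lt_top_of_nontrivial Q).ne
      (Subgroup.map_injective Q.subtype_injective ?_)
    rw [commutator_def, Subgroup.map_commutator, ← MonoidHom.range_eq_map, Subgroup.range_subtype]
    exact le_antisymm (Subgroup.commutator_le.2 fun a ha b hb =>
      mul_mem (mul_mem (mul_mem ha hb) (inv_mem ha)) (inv_mem hb)) hperf
  obtain ⟨e⟩ := CfsgLib.Present.nonsolvable_sixty hQcard hQns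
  let ι : A5 →* G := Q.subtype.comp e.symm.toMonoidHom
  have hιinj : Function.Injective ι := Q.subtype_injective.comp e.symm.injective
  have hιQ : ∀ q, ι q ∈ Q := fun q => (e.symm q).2
  have hιr : ∀ g ∈ Q, ∃ q, ι q = g := fun g hg => ⟨e ⟨g, hg⟩, by simp [ι]⟩
  have hιV : ∀ x : CA, inV x = true → ∀ q, ι q * D.hom x = D.hom x * ι q := fun x hx q =>
    hVP x hx _ (hQP (hιQ q))
  have hdec : ∀ g ∈ P, ∃ x : CA, inV x = true ∧ ∃ q, g = D.hom x * ι q := by
    intro g hg
    obtain ⟨x, hx, c, hc, rfl⟩ := hmulP g hg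
    obtain ⟨q, rfl⟩ := hιr c hc
    exact ⟨x, hx, q, rfl⟩
  have hdisj' : ∀ x : CA, inV x = true → ∀ q, D.hom x = ι q → q = 1 := by
    intro x hx q h
    refine hιinj ?_
    rw [map_one, ← h, hdisj x hx (h ▸ hιQ q), map_one]
  -- the complement `inW` lies in the derived subgroup
  have hconj : ∀ x : CA, inV x = true → ∀ q q' : A5, q * q = 1 → q ≠ 1 → q' * q' = 1 → q' ≠ 1 →
      IsConj (D.hom x * ι q) (D.hom x * ι q') := by
    intro x hx q q' h1 h2 h3 h4
    obtain ⟨k, rfl⟩ := a5_conj q h1 h2 q' h3 h4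
    refine isConj_iff.2 ⟨ι k, ?_⟩
    rw [map_mul, map_mul, map_inv, ← mul_assoc (ι k), hιV x hx k]
    group
  have hnonK : ∀ a : CA, inA a = true → inV a = false → ¬ IsConj (D.hom az) (D.hom a) →
      inW a = true := by
    intro a ha haV hK
    obtain ⟨x, hx, hxa⟩ := w_split a ha
    rw [hstd a] at hK
    have hax : x * (x * a) = a := by rw [← mul_assoc, (v_facts.2.2.2.2 x hx).1, one_mul]
    rw [← hax, w_lab x hx _ hxa] at hK
    by_cases h1 : x = 1
    · rwa [h1, one_mul] at hxa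
    · exfalso
      have h2 : x * a = 1 := by
        by_contra h2
        exact hK ⟨h1, h2⟩
      rw [h2, mul_one] at hax
      rw [← hax, hx] at haV
      exact Bool.noConfusion haV
  have hnotK : ∀ w : CA, inW w = true → ¬ IsConj (D.hom az) (D.hom w) := by
    intro w hw hK
    rw [hstd w, ← one_mul w, w_lab 1 v_facts.1 w hw] at hK
    exact hK.1 rfl
  have hwdec : ∀ w : CA, inW w = true → w ≠ 1 →
      ∃ x : CA, inV x = true ∧ ∃ q, D.hom w = D.hom x * ι q ∧ q * q = 1 ∧ q ≠ 1 := by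
    intro w hw hw1
    obtain ⟨x, hx, q, hq⟩ := hdec _ (hAP w (w_facts.2.1 w hw).2)
    refine ⟨x, hx, q, hq, hιinj ?_, ?_⟩
    · have h : D.hom w * D.hom w = 1 := by rw [← map_mul, (w_facts.2.1 w hw).1, map_one]
      rw [hq] at h
      rw [map_mul, map_one]
      calc ι q * ι q = D.hom x * D.hom x * (ι q * ι q) := by
            rw [← map_mul D.hom, (v_facts.2.2.2.2 x hx).1, map_one, one_mul]
        _ = D.hom x * (ι q * D.hom x) * ι q := by rw [hιV x hx q]; group
        _ = 1 := by rw [← h]; group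
    · rintro rfl
      rw [map_one, mul_one] at hq
      obtain rfl := D.inj hq
      exact hw1 (w_facts.1 w hx hw)
  have hWQ : ∀ w : CA, inW w = true → ∃ q, D.hom w = ι q := by
    intro w hw
    by_cases hw1 : w = 1
    · exact ⟨1, by rw [hw1, map_one, map_one]⟩
    obtain ⟨x, hx, q, hq, hq2, hq1⟩ := hwdec w hw hw1
    obtain ⟨w', hw', hw'1, hw'w⟩ := w_other w hw hw1
    obtain ⟨x', hx', q', hq', hq'2, hq'1⟩ := hwdec w' hw' hw'1
    have hmem : ∀ y : CA, inV y = true → ∀ b : CA, D.hom b = D.hom y * ι q → inA b = true →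
        ¬ IsConj (D.hom az) (D.hom b) → inW b = true := by
      intro y hy b hb hbA hbK
      refine hnonK b hbA ?_ hbK
      by_contra hbV
      rw [Bool.not_eq_false] at hbV
      refine hq1 (hdisj' (y⁻¹ * b) (Vm.mul_mem (Vm.inv_mem hy) hbV) q ?_)
      rw [map_mul, hb, map_inv, inv_mul_cancel_left]
    have hxw : D.hom (x * w) = ι q := by
      rw [map_mul, hq, ← mul_assoc, ← map_mul, (v_facts.2.2.2.2 x hx).1, map_one, one_mul]
    have hxwA : inA (x * w) = true := inA_mul _ _ (v_facts.2.2.2.2 x hx).2 (w_facts.2.1 w hw).2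
    have ha : D.hom (x' * (x * w)) = D.hom x' * ι q := by rw [map_mul, hxw]
    have haA : inA (x' * (x * w)) = true := inA_mul _ _ (v_facts.2.2.2.2 x' hx').2 hxwA
    have haW : inW (x' * (x * w)) = true := hmem x' hx' _ ha haA fun hK => hnotK w' hw' (by
      rw [hq']
      exact (ha ▸ hK).trans (hconj x' hx' q q' hq2 hq1 hq'2 hq'1))
    have hbW : inW (x' * (x * w) * w') = true := w_facts.2.2 _ haW _ hw'
    have hb : D.hom (x' * (x * w) * w') = ι (q * q') := by
      rw [map_mul, ha, hq', map_mul]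
      calc D.hom x' * ι q * (D.hom x' * ι q') = D.hom x' * (ι q * D.hom x') * ι q' := by group
        _ = D.hom x' * D.hom x' * (ι q * ι q') := by rw [hιV x' hx' q]; group
        _ = ι q * ι q' := by rw [← map_mul D.hom, (v_facts.2.2.2.2 x' hx').1, map_one, one_mul]
    have hqq2 : q * q' * (q * q') = 1 := hιinj (by
      rw [map_mul, ← hb, ← map_mul, (w_facts.2.1 _ hbW).1, map_one, map_one])
    have hqq1 : q * q' ≠ 1 := fun h => by
      have hqq : q = q' := by
        rw [← mul_one q, ← hq'2, ← mul_assoc, h, one_mul]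
      have hd : w' * w = x' * x := D.inj (by
        rw [map_mul, map_mul, hq', hq, ← hqq]
        calc D.hom x' * ι q * (D.hom x * ι q) = D.hom x' * (ι q * D.hom x) * ι q := by group
          _ = D.hom x' * D.hom x * (ι q * ι q) := by rw [hιV x hx q]; group
          _ = D.hom x' * D.hom x := by rw [← map_mul ι, hq2, map_one, mul_one])
      have h1 := w_facts.1 (x' * x) (v_facts.2.2.2.1 x' x hx' hx) (hd ▸ w_facts.2.2 _ hw' _ hw)
      rw [h1] at hd
      apply hw'w
      rw [← mul_one w', ← (w_facts.2.1 w hw).1, ← mul_assoc, hd, one_mul]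
    have hxwW : inW (x * w) = true := hmem 1 v_facts.1 _ (by rw [map_one, one_mul, hxw]) hxwA
      fun hK => hnotK _ hbW (by
        have hc := hconj 1 v_facts.1 q (q * q') hq2 hq1 hqq2 hqq1
        rw [map_one, one_mul, one_mul, ← hxw, ← hb] at hc
        exact hK.trans hc)
    have hx1 : x = 1 := w_facts.1 x hx (by
      have := w_facts.2.2 _ hxwW _ hw
      rwa [mul_assoc, (w_facts.2.1 w hw).1, mul_one] at this)
    exact ⟨q, by rw [hq, hx1, map_one, one_mul]⟩
  -- the action of the outer involution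
  have htt : t * t = 1 := by rw [htdef, ← map_mul, ht3, map_one]
  have htinv : t⁻¹ = t := inv_eq_of_mul_eq_one_right htt
  have htPc : P.map (MulAut.conj t).toMonoidHom = P := by
    refine Subgroup.eq_of_le_of_card_ge ?_
      (Subgroup.card_map_of_injective (MulAut.conj t).injective).ge
    rintro _ ⟨p, hp, rfl⟩
    obtain ⟨h1, h2⟩ := (hmemP p).1 hp
    show t * p * t⁻¹ ∈ P
    rw [hmemP]
    have e1 : t * r * t⁻¹ = r := by rw [htr, mul_inv_cancel_right]
    have e2 : v = t * (r * v) * t⁻¹ := by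
      rw [← htv, htinv]
      calc v = t * t * v * (t * t) := by rw [htt]; simp
        _ = t * (t * v * t) * t := by group
    have hrvp : p * (r * v) = r * v * p := Commute.mul_right h1 h2
    refine ⟨?_, ?_⟩
    · calc t * p * t⁻¹ * r = t * p * t⁻¹ * (t * r * t⁻¹) := by rw [e1]
        _ = t * (p * r) * t⁻¹ := by group
        _ = t * (r * p) * t⁻¹ := by rw [h1]
        _ = t * r * t⁻¹ * (t * p * t⁻¹) := by group
        _ = r * (t * p * t⁻¹) := by rw [e1]
    · conv_lhs => rw [e2]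
      conv_rhs => rw [e2]
      calc t * p * t⁻¹ * (t * (r * v) * t⁻¹) = t * (p * (r * v)) * t⁻¹ := by group
        _ = t * (r * v * p) * t⁻¹ := by rw [hrvp]
        _ = t * (r * v) * t⁻¹ * (t * p * t⁻¹) := by group
  have hQt : ∀ g ∈ Q, t * g * t⁻¹ ∈ Q := by
    intro g hg
    have : Q.map (MulAut.conj t).toMonoidHom = Q := by rw [hQdef, Subgroup.map_commutator, htPc]
    exact this ▸ ⟨g, hg, rfl⟩
  choose α hα using fun q : A5 => hιr _ (hQt _ (hιQ q))
  have hαmul : ∀ a b, α (a * b) = α a * α b := fun a b => hιinj (by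
    rw [hα, map_mul, map_mul, hα, hα]; group)
  have hαα : ∀ a, α (α a) = a := fun a => hιinj (by
    rw [hα, hα, htinv]
    calc t * (t * ι a * t) * t = t * t * ι a * (t * t) := by group
      _ = ι a := by rw [htt, one_mul, mul_one])
  have hα1 : ∀ a, α a = 1 ↔ a = 1 := fun a => by
    have h1 : α 1 = 1 := mul_left_cancel (a := α 1) (by rw [← hαmul, one_mul, mul_one])
    exact ⟨fun h => by rw [← hαα a, h, h1], fun h => by rw [h, h1]⟩
  have hαinv : ∀ a, a * a = 1 ∧ a ≠ 1 → α a * α a = 1 ∧ α a ≠ 1 := fun a ha =>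
    ⟨by rw [← hαmul, ha.1, (hα1 1).2 rfl], fun h => ha.2 ((hα1 a).1 h)⟩
  choose qi hqi using a5_fix_surj
  choose πf hπf using fun i => a5_fix (α (qi i)) (hαinv _ ⟨(hqi i).1, (hqi i).2.1⟩).1
    (hαinv _ ⟨(hqi i).1, (hqi i).2.1⟩).2
  have hfix : ∀ q : A5, q * q = 1 → q ≠ 1 → ∀ i, (q : Perm (Fin 5)) i = i →
      (α q : Perm (Fin 5)) (πf i) = πf i := by
    intro q h1 h2 i hi
    obtain ⟨j, hj, huniq⟩ := a5_fix (qi i) (hqi i).1 (hqi i).2.1
    have hc : qi i * q = q * qi i := (a5_comm _ (hqi i).1 (hqi i).2.1 q h1 h2).2 fun k hk => by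
      rw [huniq k hk, ← huniq i (hqi i).2.2]; exact hi
    have hc' : α (qi i) * α q = α q * α (qi i) := by rw [← hαmul, ← hαmul, hc]
    exact (a5_comm _ (hαinv _ ⟨(hqi i).1, (hqi i).2.1⟩).1 (hαinv _ ⟨(hqi i).1, (hqi i).2.1⟩).2
      _ (hαinv q ⟨h1, h2⟩).1 (hαinv q ⟨h1, h2⟩).2).1 hc' _ (hπf i).1
  have hππ : ∀ i, πf (πf i) = i := by
    intro i
    have h := hfix _ (hαinv _ ⟨(hqi i).1, (hqi i).2.1⟩).1 (hαinv _ ⟨(hqi i).1, (hqi i).2.1⟩).2
      _ (hπf i).1
    rw [hαα] at h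
    obtain ⟨j, hj, huniq⟩ := a5_fix (qi i) (hqi i).1 (hqi i).2.1
    rw [huniq _ h, ← huniq i (hqi i).2.2]
  let π : Perm (Fin 5) := ⟨πf, πf, hππ, hππ⟩
  have hπsq : π * π = 1 := Equiv.ext hππ
  have hπinv : π⁻¹ = π := inv_eq_of_mul_eq_one_right hπsq
  have hequi : ∀ (g : A5) (i : Fin 5), (α g : Perm (Fin 5)) (πf i) = πf ((g : Perm (Fin 5)) i) := by
    intro g i
    have h1 := (hqi i).1
    have h2 := (hqi i).2.1
    have hq1 : g * qi i * g⁻¹ * (g * qi i * g⁻¹) = 1 := by
      rw [conj_mul, h1, mul_one, mul_inv_cancel]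
    have hq2 : g * qi i * g⁻¹ ≠ 1 := fun h => h2 (conj_eq_one_iff.1 h)
    have hfix1 : ((g * qi i * g⁻¹ : A5) : Perm (Fin 5)) ((g : Perm (Fin 5)) i) = (g : Perm (Fin 5)) i := by
      simp [(hqi i).2.2]
    have h := hfix _ hq1 hq2 _ hfix1
    obtain ⟨j, hj, huniq⟩ := a5_fix _ (hαinv _ ⟨hq1, hq2⟩).1 (hαinv _ ⟨hq1, hq2⟩).2
    rw [huniq _ h]
    refine huniq _ ?_
    have hinvg : α g⁻¹ = (α g)⁻¹ := eq_inv_of_mul_eq_one_right (by
      rw [← hαmul, mul_inv_cancel, (hα1 1).2 rfl])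
    rw [hαmul, hαmul, hinvg]
    simp [(hπf i).1]
  have hconjπ : ∀ q : A5, π * q * π⁻¹ = (α q : Perm (Fin 5)) := by
    intro q
    refine Equiv.ext fun i => ?_
    rw [hπinv]
    show πf ((q : Perm (Fin 5)) (πf i)) = _
    rw [← hequi, hππ]
  have hmoved : moved π = 2 := by
    obtain ⟨q, hq⟩ := hWQ wt hwt
    obtain ⟨q', hq'⟩ := hWQ _ hwt2
    have hq2 : q * q = 1 := hιinj (by rw [map_mul, ← hq, ← map_mul, (w_facts.2.1 wt hwt).1, map_one, map_one])
    have hq1 : q ≠ 1 := fun h => hwt1 (D.inj (by rw [hq, h, map_one, map_one]))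
    have hqq' : α q = q' := hιinj (by rw [hα, ← hq', ← hq, map_mul, map_mul, map_inv])
    refine a5_swap π hπsq q hq2 hq1 ?_ ?_
    · rw [hconjπ, hqq']
      exact fun h => hwt3 (D.inj (by rw [hq', hq, Subtype.ext h]))
    · rw [hconjπ, hqq', ← Subgroup.coe_mul, ← Subgroup.coe_mul]
      refine congrArg Subtype.val (hιinj ?_)
      rw [map_mul, map_mul, ← hq, ← hq', ← map_mul, ← map_mul,
        inA_facts.2.2.2.2.1 _ _ (w_facts.2.1 _ hwt2).2 (w_facts.2.1 _ hwt).2]
  obtain ⟨qw, hqw⟩ := hWQ wt hwt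
  exact ⟨{
    ι := ι, inj := hιinj
    comm_r := fun q => ((hmemP _).1 (hQP (hιQ q))).1
    comm_v := fun q => ((hmemP _).1 (hQP (hιQ q))).2
    disj := hdisj'
    exists_mul := fun g h1 h2 => hdec g ((hmemP g).2 ⟨h1, h2⟩)
    wel := wt, wA := qw, wel_mem := hwt, wel_ne := hwt1, wel_eq := hqw
    π := π, π_sq := hπsq, π_moved := hmoved
    tm := tm, tm_comm := ht1, tm_out := ht2, tm_sq := ht3, tm_sq' := ht5
    conj := fun q q' h => by
      rw [show q' = α q from Subtype.ext (h.symm.trans (hconjπ q))]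
      exact (hα q).symm
    cover := fun g hg => by
      rcases hcov g hg with h | h
      · exact Or.inl ((hmemP g).1 h).2
      · exact Or.inr ⟨t⁻¹ * g, ((hmemP _).1 h).1, ((hmemP _).1 h).2, by simp [htdef]⟩ }⟩

variable {D : AltCent G} (F : Frame D)

theorem Frame.comm_inV {x : CA} (hx : inV x = true) (q : A5) :
    F.ι q * D.hom x = D.hom x * F.ι q := by
  rcases inV_cases hx with rfl | rfl | rfl | rfl
  · simp
  · exact F.comm_r q
  · exact F.comm_v q
  · rw [map_mul]; exact Commute.mul_right (F.comm_r q) (F.comm_v q)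

theorem Frame.mul_mul {x y : CA} (hy : inV y = true) (a b : A5) :
    D.hom x * F.ι a * (D.hom y * F.ι b) = D.hom (x * y) * F.ι (a * b) := by
  rw [map_mul, map_mul]
  calc D.hom x * F.ι a * (D.hom y * F.ι b) = D.hom x * (F.ι a * D.hom y) * F.ι b := by group
    _ = _ := by rw [F.comm_inV hy a]; group

theorem Frame.eq_iff {x y : CA} (hx : inV x = true) (hy : inV y = true) {a b : A5}
    (h : D.hom x * F.ι a = D.hom y * F.ι b) : x = y ∧ a = b := by
  have h1 : D.hom (y⁻¹ * x) = F.ι (b * a⁻¹) := by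
    rw [map_mul, map_mul, map_inv, map_inv]
    calc (D.hom y)⁻¹ * D.hom x = (D.hom y)⁻¹ * (D.hom x * F.ι a) * (F.ι a)⁻¹ := by group
      _ = F.ι b * (F.ι a)⁻¹ := by rw [h]; group
  have h2 : b * a⁻¹ = 1 := F.disj _ (by rw [model_inv hy]; exact v_facts.2.2.2.1 y x hy hx) _ h1
  obtain rfl := mul_inv_eq_one.1 h2
  exact ⟨D.inj (mul_right_cancel h), rfl⟩

theorem Frame.t_out (g : G) (hg : g * D.hom nv = D.hom nv * g) (p : G)
    (hp : p * D.hom nv = D.hom nv * p) : g ≠ D.hom F.tm * p := by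
  intro h
  have ht : D.hom F.tm * D.hom nv = D.hom nv * D.hom F.tm := by
    rw [show D.hom F.tm = g * p⁻¹ by rw [h]; group]
    exact Commute.mul_left hg (Commute.inv_left hp)
  rw [← map_mul, ← map_mul] at ht
  have h1 := (out_facts F.tm F.tm_comm F.tm_out).1
  rw [D.inj ht, mul_inv_cancel_right] at h1
  exact absurd h1 (by decide +kernel)

theorem Frame.comm_nv {x : CA} (hx : inV x = true) (q : A5) :
    D.hom x * F.ι q * D.hom nv = D.hom nv * (D.hom x * F.ι q) := by
  have h : x * nv = nv * x := (in_a_facts.2.2 x (v_facts.2.2.2.2 x hx).2).2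
  calc D.hom x * F.ι q * D.hom nv = D.hom x * (F.ι q * D.hom nv) := by group
    _ = D.hom (x * nv) * F.ι q := by rw [F.comm_v q, map_mul]; group
    _ = D.hom nv * (D.hom x * F.ι q) := by rw [h, map_mul]; group

/-- Involutions of the inner part. -/
theorem Frame.inner_inv (hstd : Standard D) {x : CA} (hx : inV x = true) {q : A5}
    (h : D.hom x * F.ι q * (D.hom x * F.ι q) = 1) :
    q * q = 1 ∧ (IsConj (D.hom az) (D.hom x * F.ι q) ↔ x ≠ 1 ∧ q ≠ 1) := by
  rw [F.mul_mul hx, (v_facts.2.2.2.2 x hx).1, map_one, one_mul] at h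
  have hqq : q * q = 1 := F.inj (h.trans (map_one _).symm)
  refine ⟨hqq, ?_⟩
  by_cases hq : q = 1
  · subst hq
    rw [map_one, mul_one, hstd x, ← mul_one x, w_lab x hx 1 inW_one]
    simp
  have hw := w_facts.2.1 F.wel F.wel_mem
  have hwA1 : F.wA * F.wA = 1 := F.inj (by
    rw [map_mul, ← F.wel_eq, ← map_mul, hw.1, map_one, map_one])
  have hwA2 : F.wA ≠ 1 := fun h' => F.wel_ne (D.inj (by rw [F.wel_eq, h', map_one, map_one]))
  obtain ⟨k, hk⟩ := a5_conj q hqq hq F.wA hwA1 hwA2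
  have hc : IsConj (D.hom x * F.ι q) (D.hom (x * F.wel)) := by
    refine isConj_iff.2 ⟨F.ι k, ?_⟩
    rw [map_mul, F.wel_eq, ← hk, map_mul, map_mul, map_inv, ← mul_assoc (F.ι k), F.comm_inV hx k]
    group
  have hiff : IsConj (D.hom az) (D.hom x * F.ι q) ↔ IsConj (D.hom az) (D.hom (x * F.wel)) :=
    ⟨fun h' => h'.trans hc, fun h' => h'.trans hc.symm⟩
  rw [hiff, hstd, w_lab x hx _ F.wel_mem]
  simp [F.wel_ne, hq]

theorem Frame.conj_tm_inV {x : CA} (hx : inV x = true) :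
    inV (F.tm * x * F.tm⁻¹) = true ∧ ((F.tm * x * F.tm⁻¹ * x = 1) ↔ (x = 1 ∨ x = nr)) := by
  have e1 : F.tm * nr * F.tm⁻¹ = nr := by rw [F.tm_comm, mul_inv_cancel_right]
  have e2 := (out_facts F.tm F.tm_comm F.tm_out).1
  have e3 : F.tm * (nr * nv) * F.tm⁻¹ = nr * (nr * nv) := by rw [← conj_mul, e1, e2]
  rcases inV_cases hx with rfl | rfl | rfl | rfl
  · simp [v_facts.1]
  · rw [e1]; decide +kernel
  · rw [e2]; decide +kernel
  · rw [e3]; decide +kernel

theorem Frame.conj_t (s : A5) : ∃ s' : A5, (s' : Perm (Fin 5)) = F.π * s * F.π⁻¹ ∧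
    D.hom F.tm * F.ι s * (D.hom F.tm)⁻¹ = F.ι s' :=
  let s' : A5 := ⟨F.π * s * F.π⁻¹, (alternatingGroup.normal).conj_mem _ s.2 _⟩
  ⟨s', rfl, F.conj s s' rfl⟩

/-- Elements of square one in the outer part. -/
theorem Frame.outer_sq_iff {x : CA} (hx : inV x = true) (s : A5) :
    D.hom F.tm * (D.hom x * F.ι s) * (D.hom F.tm * (D.hom x * F.ι s)) = 1 ↔
      (x = 1 ∨ x = nr) ∧ F.π * s * (F.π * s) = 1 := by
  obtain ⟨s', hs', hts⟩ := F.conj_t s
  have htinv : (D.hom F.tm)⁻¹ = D.hom F.tm :=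
    inv_eq_of_mul_eq_one_right (by rw [← map_mul, F.tm_sq, map_one])
  have hπinv : F.π⁻¹ = F.π := inv_eq_of_mul_eq_one_right F.π_sq
  have hcalc : D.hom F.tm * (D.hom x * F.ι s) * (D.hom F.tm * (D.hom x * F.ι s)) =
      D.hom (F.tm * x * F.tm⁻¹ * x) * F.ι (s' * s) := by
    calc D.hom F.tm * (D.hom x * F.ι s) * (D.hom F.tm * (D.hom x * F.ι s))
        = D.hom F.tm * (D.hom x * F.ι s) * (D.hom F.tm)⁻¹ * (D.hom x * F.ι s) := by
          rw [htinv]; group
      _ = D.hom (F.tm * x * F.tm⁻¹) * F.ι s' * (D.hom x * F.ι s) := by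
          rw [← hts, map_mul, map_mul, map_inv]; group
      _ = _ := F.mul_mul hx _ _
  rw [hcalc]
  have hval : ((s' * s : A5) : Perm (Fin 5)) = F.π * s * (F.π * s) := by
    rw [Subgroup.coe_mul, hs', hπinv]; group
  constructor
  · intro h
    obtain ⟨h1, h2⟩ := F.eq_iff (v_facts.2.2.2.1 _ _ (F.conj_tm_inV hx).1 hx) v_facts.1
      (a := s' * s) (b := 1) (by rw [h, map_one, map_one, one_mul])
    exact ⟨(F.conj_tm_inV hx).2.1 h1, hval ▸ congrArg Subtype.val h2⟩
  · rintro ⟨h1, h2⟩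
    rw [(F.conj_tm_inV hx).2.2 h1, map_one, one_mul,
      show s' * s = 1 from Subtype.ext (hval.trans h2), map_one]

/-- Involutions of the outer part are not conjugate to the central involution. -/
theorem Frame.outer_not (hstd : Standard D) {x : CA} (hx : x = 1 ∨ x = nr) {s : A5}
    (hs : F.π * s * (F.π * s) = 1) :
    ¬ IsConj (D.hom az) (D.hom F.tm * (D.hom x * F.ι s)) := by
  have hxV : inV x = true := by rcases hx with rfl | rfl; exacts [v_facts.1, v_facts.2.1]
  obtain ⟨k, hk⟩ := a5_tr F.π F.π_sq F.π_moved s hs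
  obtain ⟨k', hk', htk⟩ := F.conj_t k
  have hs' : s = k' * k⁻¹ := Subtype.ext (by
    have hπinv : F.π⁻¹ = F.π := inv_eq_of_mul_eq_one_right F.π_sq
    rw [Subgroup.coe_mul, Subgroup.coe_inv, hk']
    calc (s : Perm (Fin 5)) = F.π⁻¹ * (F.π * s) := by group
      _ = F.π⁻¹ * ((k : Perm (Fin 5)) * F.π * (k : Perm (Fin 5))⁻¹) := by rw [hk]
      _ = F.π * k * F.π⁻¹ * (k : Perm (Fin 5))⁻¹ := by rw [hπinv]; group)
  have htinv : (D.hom F.tm)⁻¹ = D.hom F.tm :=
    inv_eq_of_mul_eq_one_right (by rw [← map_mul, F.tm_sq, map_one])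
  have hc : IsConj (D.hom (F.tm * x)) (D.hom F.tm * (D.hom x * F.ι s)) := by
    refine isConj_iff.2 ⟨F.ι k, ?_⟩
    rw [hs', map_mul, map_mul, map_inv, ← htk]
    have hk2 := F.comm_inV hxV k
    have hxt : D.hom x * D.hom F.tm = D.hom F.tm * D.hom x := by
      rcases hx with rfl | rfl
      · simp
      · rw [← map_mul, ← map_mul, F.tm_comm]
    calc F.ι k * (D.hom F.tm * D.hom x) * (F.ι k)⁻¹
        = F.ι k * (D.hom x * D.hom F.tm) * (F.ι k)⁻¹ := by rw [hxt]
      _ = D.hom x * F.ι k * D.hom F.tm * (F.ι k)⁻¹ := by rw [← mul_assoc, hk2]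
      _ = D.hom x * D.hom F.tm * (D.hom F.tm * F.ι k * (D.hom F.tm)⁻¹) * (F.ι k)⁻¹ := by
          conv_rhs => rw [htinv]
          calc D.hom x * F.ι k * D.hom F.tm * (F.ι k)⁻¹
              = D.hom x * ((D.hom F.tm)⁻¹ * D.hom F.tm) * F.ι k * D.hom F.tm * (F.ι k)⁻¹ := by group
            _ = _ := by rw [htinv]; group
      _ = _ := by rw [hxt]; group
  intro hK
  have hK' : IsConj (D.hom az) (D.hom (F.tm * x)) := hK.trans hc.symm
  rw [hstd] at hK'
  rcases hx with rfl | rfl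
  · rw [mul_one] at hK'
    exact (out_facts F.tm F.tm_comm F.tm_out).2 F.tm_sq hK'
  · refine (out_facts _ ?_ F.tm_sq').2 ?_ hK'
    · rw [F.tm_comm, mul_assoc, F.tm_comm]
    · calc F.tm * nr * (F.tm * nr) = F.tm * (nr * F.tm) * nr := by group
        _ = (F.tm * F.tm) * (nr * nr) := by rw [← F.tm_comm]; group
        _ = 1 := by rw [F.tm_sq, (v_facts.2.2.2.2 nr v_facts.2.1).1, one_mul]

/-- The inner criterion for `nr` among the powers. -/
theorem Frame.mem_zpowers_iff {x : CA} (hx : inV x = true) (c : A5) :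
    D.hom nr ∈ Subgroup.zpowers (D.hom x * F.ι c) ↔ x = nr ∧ c ^ 15 = 1 := by
  have hcm : Commute (D.hom x) (F.ι c) := (F.comm_inV hx c).symm
  have hx2 : x ^ (2 : ℤ) = 1 := by rw [zpow_two]; exact (v_facts.2.2.2.2 x hx).1
  have hr : D.hom nr = D.hom nr * F.ι 1 := by rw [map_one, mul_one]
  constructor
  · intro h
    obtain ⟨k, hk⟩ := Subgroup.mem_zpowers_iff.1 h
    rw [hcm.mul_zpow, ← map_zpow, ← map_zpow, hr] at hk
    rcases Int.even_or_odd k with ⟨m, rfl⟩ | ⟨m, rfl⟩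
    · exfalso
      rw [← two_mul, zpow_mul x, hx2, one_zpow] at hk
      exact absurd (F.eq_iff v_facts.1 v_facts.2.1 hk).1 (by decide +kernel)
    · rw [zpow_add_one x, zpow_mul x, hx2, one_zpow, one_mul] at hk
      obtain ⟨h1, h2⟩ := F.eq_iff hx v_facts.2.1 hk
      refine ⟨h1, ?_⟩
      have h30 : c ^ (30 : ℤ) = 1 := by
        rw [show (30 : ℤ) = ((30 : ℕ) : ℤ) from rfl, zpow_natCast]; exact (a5_order c).1
      -- `15 = (2 m + 1) * 15 - 30 m`
      rw [← zpow_natCast, show ((15 : ℕ) : ℤ) = (2 * m + 1) * 15 + 30 * (-m) by push_cast; ring,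
        zpow_add, zpow_mul, zpow_mul, h2, h30, one_zpow, one_zpow, one_mul]
  · rintro ⟨rfl, hc⟩
    refine Subgroup.mem_zpowers_iff.2 ⟨15, ?_⟩
    rw [show (15 : ℤ) = ((15 : ℕ) : ℤ) from rfl, zpow_natCast, hcm.mul_pow, ← map_pow, ← map_pow,
      hc, map_one, mul_one, show (nr : CA) ^ 15 = nr by decide +kernel]

end CfsgLib.AltEightRecog.NineCount

namespace CfsgLib.AltEightRecog

open NineCount Equiv.Perm

/-- The pairs with product powering to `nr`. -/
theorem card_pairs_nr {G : Type*} [Group G] [Finite G] (D : AltCent G) (G0 : Subgroup G)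
    (h : NineSetting D G0) (hC : NineCent D)
    (hcl : ∀ t : G, orderOf t = 2 → IsConj (D.hom az) t ∨ IsConj (D.hom nr) t) :
    Nat.card (PairSet D (D.hom nr)) = 555 := by
  classical
  obtain ⟨F⟩ := exists_frame D h.std hC
  have hnc : ¬ IsConj (D.hom az) (D.hom nr) := fun hcj => by
    have := (h.std nr).1 hcj
    rw [nine_facts.1] at this
    omega
  have hsq : ∀ {a b : G}, IsConj a b → a * a = 1 → a ≠ 1 → b * b = 1 ∧ b ≠ 1 := by
    intro a b hab h1 h2
    obtain ⟨g, rfl⟩ := isConj_iff.1 hab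
    exact ⟨by rw [conj_mul, h1, mul_one, mul_inv_cancel], fun h3 => h2 (conj_eq_one_iff.1 h3)⟩
  have hzsq : D.hom az * D.hom az = 1 := by
    rw [← map_mul, inA_facts.1 az inA_facts.2.1, map_one]
  have hrsq : D.hom nr * D.hom nr = 1 := by
    rw [← map_mul, (v_facts.2.2.2.2 nr v_facts.2.1).1, map_one]
  have hr1 : D.hom nr ≠ 1 := fun e =>
    absurd (D.inj (e.trans (map_one D.hom).symm)) (by decide +kernel)
  have hK' : ∀ y : G, IsConj (D.hom nr) y ↔ (y * y = 1 ∧ y ≠ 1) ∧ ¬ IsConj (D.hom az) y := by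
    intro y
    refine ⟨fun hy => ⟨hsq hy hrsq hr1, fun hz => hnc (hz.trans hy.symm)⟩, fun hy => ?_⟩
    have : orderOf y = 2 := orderOf_eq_prime (by rw [pow_two]; exact hy.1.1) hy.1.2
    exact (hcl y this).resolve_left hy.2
  -- the parameters
  let T1 := {p : A5 × A5 // (p.1 * p.1 = 1 ∧ p.1 ≠ 1) ∧ (p.2 * p.2 = 1 ∧ p.2 ≠ 1) ∧
    ¬ (p.1 * p.2 * (p.1 * p.2) = 1 ∧ p.1 * p.2 ≠ 1)}
  let T2 := {p : A5 × A5 // F.π * p.1 * (F.π * p.1) = 1 ∧ p.2 * p.2 = 1 ∧ p.2 ≠ 1 ∧
    ¬ (twist (F.π * p.1) p.2 * twist (F.π * p.1) p.2 = 1 ∧ twist (F.π * p.1) p.2 ≠ 1)}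
  let vb : Bool → CA := fun b => if b then nv else nr * nv
  let eb : Bool → CA := fun b => if b then 1 else nr
  have hvb : ∀ b, inV (vb b) = true ∧ vb b ≠ 1 ∧ vb b ≠ nr ∧ vb b * (F.tm * vb b * F.tm⁻¹) = nr := by
    have e2 := (out_facts F.tm F.tm_comm F.tm_out).1
    have e3 : F.tm * (nr * nv) * F.tm⁻¹ = nr * (nr * nv) := by
      rw [← conj_mul, e2, F.tm_comm, mul_inv_cancel_right]
    intro b
    rcases b with _ | _
    · simp only [vb, Bool.false_eq_true, if_false, e3]; decide +kernel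
    · simp only [vb, if_true, e2]; decide +kernel
  have heb : ∀ b, inV (eb b) = true ∧ (eb b = 1 ∨ eb b = nr) := fun b => by
    rcases b with _ | _
    · exact ⟨v_facts.2.1, Or.inr rfl⟩
    · exact ⟨v_facts.1, Or.inl rfl⟩
  let f : T1 ⊕ (Bool × Bool) × T2 → G × G := fun u => match u with
    | Sum.inl p => (D.hom nr * F.ι p.1.1, D.hom 1 * F.ι p.1.2)
    | Sum.inr (b, p) => (D.hom (vb b.1) * F.ι p.1.2, D.hom F.tm * (D.hom (eb b.2) * F.ι p.1.1))
  -- the power of a product with an outer involution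
  have houter : ∀ (x : CA) (_ : inV x = true) (q : A5) (x' : CA) (_ : x' = 1 ∨ x' = nr) (s : A5),
      F.π * s * (F.π * s) = 1 →
      ∃ c : A5, (c : Equiv.Perm (Fin 5)) = twist (F.π * s) q ∧
        (D.hom nr ∈ Subgroup.zpowers (D.hom x * F.ι q * (D.hom F.tm * (D.hom x' * F.ι s))) ↔
          x * (F.tm * x * F.tm⁻¹) = nr ∧ c ^ 15 = 1) := by
    intro x hx q x' hx' s hs
    have hx'V : inV x' = true := by rcases hx' with rfl | rfl; exacts [v_facts.1, v_facts.2.1]
    let q' : A5 := ⟨(s : Equiv.Perm (Fin 5)) * q * (s : Equiv.Perm (Fin 5))⁻¹,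
      mul_mem (mul_mem s.2 q.2) (inv_mem s.2)⟩
    obtain ⟨q'', hq'', htq⟩ := F.conj_t q'
    refine ⟨q * q'', ?_, ?_⟩
    · rw [Subgroup.coe_mul, hq'', twist]
      simp only [q']
      group
    set X := D.hom x * F.ι q with hX
    set T := D.hom F.tm * (D.hom x' * F.ι s) with hT
    have hT2 : T * T = 1 := (F.outer_sq_iff hx'V s).2 ⟨hx', hs⟩
    have hTinv : T⁻¹ = T := inv_eq_of_mul_eq_one_right hT2
    have hconjT : T * X * T⁻¹ = D.hom (F.tm * x * F.tm⁻¹) * F.ι q'' := by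
      have h1 : D.hom x' * F.ι s * X * (D.hom x' * F.ι s)⁻¹ = D.hom x * F.ι q' := by
        have hxx : x' * x * x'⁻¹ = x := by
          rw [mul_inv_eq_iff_eq_mul]
          exact inA_facts.2.2.2.2.1 _ _ (v_facts.2.2.2.2 x' hx'V).2 (v_facts.2.2.2.2 x hx).2
        rw [hX, mul_inv_rev, F.mul_mul hx, ← map_inv, ← map_inv, mul_assoc, ← mul_assoc (F.ι _) (F.ι _),
          ← map_mul F.ι, F.comm_inV (by rw [model_inv hx'V]; exact hx'V), ← mul_assoc, ← map_mul, hxx]
        rfl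
      rw [← htq, map_mul, map_mul, map_inv]
      calc T * X * T⁻¹ = D.hom F.tm * (D.hom x' * F.ι s * X * (D.hom x' * F.ι s)⁻¹) * (D.hom F.tm)⁻¹ := by
            rw [hT]; group
        _ = _ := by rw [h1]; group
    have hgg : X * T * (X * T) = D.hom (x * (F.tm * x * F.tm⁻¹)) * F.ι (q * q'') := by
      calc X * T * (X * T) = X * (T * X * T⁻¹) := by rw [hTinv]; group
        _ = _ := by rw [hconjT, hX, F.mul_mul (F.conj_tm_inV hx).1]
    have hggV : inV (x * (F.tm * x * F.tm⁻¹)) = true := v_facts.2.2.2.1 _ _ hx (F.conj_tm_inV hx).1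
    rw [← F.mem_zpowers_iff hggV, ← hgg]
    constructor
    · intro hm
      obtain ⟨k, hk⟩ := Subgroup.mem_zpowers_iff.1 hm
      rcases Int.even_or_odd k with ⟨m, rfl⟩ | ⟨m, rfl⟩
      · refine Subgroup.mem_zpowers_iff.2 ⟨m, ?_⟩
        rw [← hk, (Commute.refl (X * T)).mul_zpow, ← zpow_add]
      · exfalso
        rw [zpow_add_one, zpow_mul, zpow_two, hgg] at hk
        set A := D.hom (x * (F.tm * x * F.tm⁻¹)) * F.ι (q * q'') with hA
        refine F.t_out (X⁻¹ * (A ^ m)⁻¹ * D.hom nr) ?_ (D.hom x' * F.ι s) (F.comm_nv hx'V s) ?_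
        · refine Commute.mul_left (Commute.mul_left (Commute.inv_left (F.comm_nv hx q))
            (Commute.inv_left (Commute.zpow_left (F.comm_nv hggV _) m))) ?_
          show D.hom nr * D.hom nv = D.hom nv * D.hom nr
          rw [← map_mul, ← map_mul, nine_facts.2.2.2.2.2.1]
        · rw [← hT, ← hk]; group
    · intro hm
      refine (Subgroup.zpowers_le.2 ?_) hm
      exact mul_mem (Subgroup.mem_zpowers _) (Subgroup.mem_zpowers _)
  have hgood : ∀ c : A5, c ^ 15 = 1 ↔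
      ¬ ((c : Equiv.Perm (Fin 5)) * c = 1 ∧ (c : Equiv.Perm (Fin 5)) ≠ 1) := fun c => by
    rw [(a5_order c).2, ← Subgroup.coe_mul, ne_eq, ne_eq, OneMemClass.coe_eq_one, OneMemClass.coe_eq_one]
  -- membership
  have hmem : ∀ u, IsConj (D.hom az) (f u).1 ∧ IsConj (D.hom nr) (f u).2 ∧
      D.hom nr ∈ Subgroup.zpowers ((f u).1 * (f u).2) := by
    rintro (⟨⟨q, q'⟩, ⟨h1, h2⟩, ⟨h3, h4⟩, h5⟩ | ⟨⟨b, b'⟩, ⟨⟨s, q⟩, h1, h2, h3, h4⟩⟩)
    · have e1 : D.hom nr * F.ι q * (D.hom nr * F.ι q) = 1 := by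
        rw [F.mul_mul v_facts.2.1, (v_facts.2.2.2.2 nr v_facts.2.1).1, h1]; simp
      have e2 : D.hom 1 * F.ι q' * (D.hom 1 * F.ι q') = 1 := by
        rw [F.mul_mul v_facts.1, h3]; simp
      refine ⟨(F.inner_inv h.std v_facts.2.1 e1).2.2 ⟨by decide +kernel, h2⟩, (hK' _).2 ⟨⟨e2, ?_⟩, ?_⟩, ?_⟩
      · intro e
        simp only [f, map_one, one_mul] at e
        exact h4 (F.inj (e.trans (map_one F.ι).symm))
      · exact fun hz => ((F.inner_inv h.std v_facts.1 e2).2.1 hz).1 rfl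
      · show D.hom nr ∈ Subgroup.zpowers (D.hom nr * F.ι q * (D.hom 1 * F.ι q'))
        rw [F.mul_mul v_facts.1, mul_one, F.mem_zpowers_iff v_facts.2.1]
        exact ⟨rfl, (a5_order _).2.2 h5⟩
    · obtain ⟨hv1, hv2, -, hv4⟩ := hvb b
      obtain ⟨he1, he2⟩ := heb b'
      have e1 : D.hom (vb b) * F.ι q * (D.hom (vb b) * F.ι q) = 1 := by
        rw [F.mul_mul hv1, (v_facts.2.2.2.2 _ hv1).1, h2]; simp
      have e2 := (F.outer_sq_iff he1 s).2 ⟨he2, h1⟩
      refine ⟨(F.inner_inv h.std hv1 e1).2.2 ⟨hv2, h3⟩, (hK' _).2 ⟨⟨e2, ?_⟩, F.outer_not h.std he2 h1⟩, ?_⟩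
      · intro e
        exact F.t_out 1 (by simp) _ (F.comm_nv he1 s) e.symm
      · obtain ⟨c, hc1, hc2⟩ := houter (vb b) hv1 q (eb b') he2 s h1
        refine hc2.2 ⟨hv4, (hgood c).2 ?_⟩
        rw [hc1]
        exact h4
  have hinj : Function.Injective f := by
    rintro (⟨⟨q, q'⟩, hq⟩ | ⟨⟨b, b'⟩, ⟨⟨s, q⟩, hs⟩⟩) (⟨⟨q₁, q₁'⟩, hq₁⟩ | ⟨⟨b₁, b₁'⟩, ⟨⟨s₁, q₁⟩, hs₁⟩⟩) e <;>
      simp only [f, Prod.mk.injEq] at e
    · obtain ⟨-, rfl⟩ := F.eq_iff v_facts.2.1 v_facts.2.1 e.1
      obtain ⟨-, rfl⟩ := F.eq_iff v_facts.1 v_facts.1 e.2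
      rfl
    · exact absurd (F.eq_iff v_facts.2.1 (hvb b₁).1 e.1).1.symm (hvb b₁).2.2.1
    · exact absurd (F.eq_iff (hvb b).1 v_facts.2.1 e.1).1 (hvb b).2.2.1
    · obtain ⟨e1, rfl⟩ := F.eq_iff (hvb b).1 (hvb b₁).1 e.1
      obtain ⟨e2, rfl⟩ := F.eq_iff (heb b').1 (heb b₁').1 (mul_left_cancel e.2)
      have : b = b₁ := by
        rcases b with _ | _ <;> rcases b₁ with _ | _ <;> first | rfl | exact absurd e1 (by decide +kernel)
      subst this
      have : b' = b₁' := by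
        rcases b' with _ | _ <;> rcases b₁' with _ | _ <;> first | rfl | exact absurd e2 (by decide +kernel)
      subst this
      rfl
  have hsurj : ∀ p : G × G, IsConj (D.hom az) p.1 → IsConj (D.hom nr) p.2 →
      D.hom nr ∈ Subgroup.zpowers (p.1 * p.2) → ∃ u, f u = p := by
    rintro ⟨X, Y⟩ hX hY hm
    simp only at hX hY hm
    obtain ⟨hX2, hX1⟩ := hsq hX hzsq (AltCent.az_ne_one D)
    obtain ⟨⟨hY2, hY1⟩, hYK⟩ := (hK' Y).1 hY
    obtain ⟨k, hk⟩ := Subgroup.mem_zpowers_iff.1 hm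
    have hXY : Commute (X * Y) (D.hom nr) := hk ▸ Commute.self_zpow (X * Y) k
    have hXinv : X⁻¹ = X := inv_eq_of_mul_eq_one_right hX2
    have hYinv : Y⁻¹ = Y := inv_eq_of_mul_eq_one_right hY2
    have hXr : X * D.hom nr = D.hom nr * X := by
      have e : X * D.hom nr * X⁻¹ = (D.hom nr)⁻¹ := by
        rw [← hk, ← conj_zpow, ← inv_zpow]
        congr 1
        rw [mul_inv_rev, hXinv, hYinv, ← mul_assoc, hX2, one_mul]
      rw [inv_eq_of_mul_eq_one_right hrsq] at e
      exact mul_inv_eq_iff_eq_mul.1 e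
    have hYr : Y * D.hom nr = D.hom nr * Y := by
      have e : Commute (X⁻¹ * (X * Y)) (D.hom nr) := Commute.mul_left (Commute.inv_left hXr) hXY
      rwa [inv_mul_cancel_left] at e
    -- `X` lies in the inner part
    have hXin : X * D.hom nv = D.hom nv * X := by
      rcases F.cover X hXr with h' | ⟨p, hp1, hp2, rfl⟩
      · exact h'
      · exfalso
        obtain ⟨x, hx, s, rfl⟩ := F.exists_mul p hp1 hp2
        obtain ⟨hx', hs⟩ := (F.outer_sq_iff hx s).1 hX2
        exact F.outer_not h.std hx' hs hX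
    obtain ⟨x, hx, q, rfl⟩ := F.exists_mul X hXr hXin
    obtain ⟨hqq, hiff⟩ := F.inner_inv h.std hx hX2
    obtain ⟨hx1, hq1⟩ := hiff.1 hX
    rcases F.cover Y hYr with hYin | ⟨p, hp1, hp2, rfl⟩
    · obtain ⟨y, hy, q', rfl⟩ := F.exists_mul Y hYr hYin
      obtain ⟨hqq', hiff'⟩ := F.inner_inv h.std hy hY2
      rw [F.mul_mul hy, F.mem_zpowers_iff (v_facts.2.2.2.1 x y hx hy)] at hm
      have hy1 : y = 1 := by
        by_contra hy1
        have hq'1 : q' = 1 := by
          by_contra hq'1; exact hYK (hiff'.2 ⟨hy1, hq'1⟩)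
        have hq15 : (q : A5) ^ 15 = 1 := by rw [← hm.2, hq'1, mul_one]
        exact (a5_order q).2.1 hq15 ⟨hqq, hq1⟩
      subst hy1
      rw [mul_one] at hm
      obtain ⟨rfl, hm2⟩ := hm
      exact ⟨Sum.inl ⟨(q, q'), ⟨hqq, hq1⟩, ⟨hqq', fun (e : q' = 1) => hY1 (by rw [e, map_one, map_one, mul_one])⟩,
        (a5_order _).2.1 hm2⟩, rfl⟩
    · obtain ⟨x', hx', s, rfl⟩ := F.exists_mul p hp1 hp2
      obtain ⟨hx'1, hs⟩ := (F.outer_sq_iff hx' s).1 hY2
      obtain ⟨c, hc1, hc2⟩ := houter x hx q x' hx'1 s hs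
      obtain ⟨hxv, hc15⟩ := hc2.1 hm
      have hb : ∃ b, vb b = x := by
        rcases inV_cases hx with rfl | rfl | rfl | rfl
        · exact absurd rfl hx1
        · exfalso
          rw [F.tm_comm, mul_inv_cancel_right] at hxv
          exact absurd hxv (by decide +kernel)
        · exact ⟨true, rfl⟩
        · exact ⟨false, rfl⟩
      obtain ⟨b, rfl⟩ := hb
      have hb' : ∃ b', eb b' = x' := by
        rcases hx'1 with rfl | rfl
        · exact ⟨true, rfl⟩
        · exact ⟨false, rfl⟩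
      obtain ⟨b', rfl⟩ := hb'
      refine ⟨Sum.inr ((b, b'), ⟨(s, q), hs, hqq, hq1, ?_⟩), rfl⟩
      show ¬ (twist (F.π * s) q * twist (F.π * s) q = 1 ∧ twist (F.π * s) q ≠ 1)
      rw [← hc1]
      exact (hgood c).1 hc15
  let g : T1 ⊕ (Bool × Bool) × T2 → PairSet D (D.hom nr) := fun u => ⟨f u, hmem u⟩
  have hg : Function.Bijective g := by
    refine ⟨fun a b e => hinj (congrArg Subtype.val e), fun p => ?_⟩
    obtain ⟨u, hu⟩ := hsurj p.1 p.2.1 p.2.2.1 p.2.2.2
    exact ⟨u, Subtype.ext hu⟩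
  rw [← Nat.card_eq_of_bijective g hg, Nat.card_sum, Nat.card_prod]
  have hT1 : Nat.card T1 = 195 := by
    rw [Nat.card_eq_fintype_card, Fintype.card_subtype]
    exact count_one
  have hT2 : Nat.card T2 = 90 := by
    let e : T2 ≃ Σ s : {s : A5 // F.π * s * (F.π * s) = 1},
        {q : A5 // q * q = 1 ∧ q ≠ 1 ∧
          ¬ (twist (F.π * s.1) q * twist (F.π * s.1) q = 1 ∧ twist (F.π * s.1) q ≠ 1)} :=
      { toFun := fun p => ⟨⟨p.1.1, p.2.1⟩, ⟨p.1.2, p.2.2⟩⟩
        invFun := fun p => ⟨(p.1.1, p.2.1), p.1.2, p.2.2⟩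
        left_inv := fun _ => rfl
        right_inv := fun _ => rfl }
    rw [Nat.card_congr e, Nat.card_sigma, Finset.sum_const_nat (m := 9)]
    · rw [Finset.card_univ, Fintype.card_subtype, (count_out F.π F.π_sq F.π_moved).1]
    · intro s _
      rw [Nat.card_eq_fintype_card, Fintype.card_subtype]
      exact count_q _ s.2 ((count_out F.π F.π_sq F.π_moved).2 s.1 s.2)
  rw [hT1, hT2, Nat.card_prod, Nat.card_eq_fintype_card (α := Bool), Fintype.card_bool]

end CfsgLib.AltEightRecog
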