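import Cfsg.Agent.Lib.AltEightRecog.NineSetting

/-!
# The pairs of involutions whose product powers to the central involution
-/

set_option autoImplicit false
set_option maxRecDepth 100000
set_option linter.style.haveILetI false

namespace CfsgLib.AltEightRecog

/-- Conjugates of the centre in the model. -/
def kSet : Finset CA := Finset.univ.filter fun x : CA => lab x == 1 || lab x == 2 || lab x == 3 || lab x == 5

/-- The involutions of the second class in the model. -/
def rSet : Finset CA := Finset.univ.filter fun x : CA => lab x == 4 || lab x == 6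

/-- The pairs in the model. -/
def azPairs : Finset (CA × CA) :=
  (kSet ×ˢ rSet).filter fun p => decide (∃ k : Fin 25, (p.1 * p.2) ^ (k : ℕ) = az)

theorem card_azPairs : azPairs.card = 156 := by decide +kernel

theorem pow_bound : ∀ w : CA, ∃ k : Fin 25, (k : ℕ) ≠ 0 ∧ w ^ (k : ℕ) = 1 := by decide +kernel

theorem mem_azPairs (x y : CA) : (x, y) ∈ azPairs ↔
    (lab x = 1 ∨ lab x = 2 ∨ lab x = 3 ∨ lab x = 5) ∧ (lab y = 4 ∨ lab y = 6) ∧ az ∈ Subgroup.zpowers (x * y) := by
  simp only [azPairs, kSet, rSet, Finset.mem_filter, Finset.mem_product, Finset.mem_univ, true_and,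
    Bool.or_eq_true, beq_iff_eq, decide_eq_true_eq, or_assoc, and_assoc]
  refine and_congr_right fun _ => and_congr_right fun _ => ⟨fun ⟨k, hk⟩ => ⟨k, by simpa using hk⟩, fun hz => ?_⟩
  obtain ⟨k, hk0, hk⟩ := pow_bound (x * y)
  have hd : orderOf (x * y) ∣ (k : ℕ) := orderOf_dvd_of_pow_eq_one hk
  have hle : orderOf (x * y) < 25 := lt_of_le_of_lt (Nat.le_of_dvd (Nat.pos_of_ne_zero hk0) hd) k.2
  rw [mem_zpowers_iff_mem_range_orderOf] at hz
  obtain ⟨j, hj, hje⟩ := Finset.mem_image.1 hz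
  exact ⟨⟨j, lt_trans (Finset.mem_range.1 hj) hle⟩, hje⟩

theorem card_pairs_az {G : Type*} [Group G] [Finite G] (D : AltCent G) (hstd : Standard D)
    (hcl : ∀ t : G, orderOf t = 2 → IsConj (D.hom az) t ∨ IsConj (D.hom nr) t) :
    Nat.card (PairSet D (D.hom az)) = 156 := by
  classical
  set s := D.hom az with hs
  set r := D.hom nr with hr
  have hnc : ¬ IsConj s r := fun hcj => by
    have := (hstd nr).1 hcj
    rw [nine_facts.1] at this
    omega
  have hsq : ∀ c : CA, lab c ≠ 0 → c * c = 1 ∧ c ≠ 1 := fun c hc => by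
    by_contra hn
    exact hc ((lab_eq_zero_iff c).2 hn)
  have hR : ∀ y : CA, IsConj r (D.hom y) ↔ lab y = 4 ∨ lab y = 6 := by
    intro y
    constructor
    · intro hy
      have h0 : lab y ≠ 0 := fun h0 => by
        obtain ⟨g, hg⟩ := isConj_iff.1 hy
        have hn := hsq nr (by rw [nine_facts.1]; norm_num)
        refine (lab_eq_zero_iff y).1 h0 ⟨D.inj ?_, fun h1 => hn.2 (D.inj ?_)⟩
        · rw [map_mul, map_one, ← hg, show g * r * g⁻¹ * (g * r * g⁻¹) = g * (r * r) * g⁻¹ by group, hr,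
            ← map_mul, hn.1, map_one, mul_one, mul_inv_cancel]
        · rw [h1, map_one] at hg
          rw [map_one]
          exact conj_eq_one_iff.1 hg
      have hnK : ¬ (lab y = 1 ∨ lab y = 2 ∨ lab y = 3 ∨ lab y = 5) := fun hK =>
        hnc (((hstd y).2 hK).trans hy.symm)
      have := lab_le y
      omega
    · rintro (h | h)
      · exact D.isConj_of_lab (by rw [nine_facts.1]; norm_num) (nine_facts.1.trans h.symm)
      · rcases hcl (D.hom y) (by
          rw [orderOf_injective D.hom D.inj]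
          exact orderOf_eq_prime (by rw [pow_two]; exact (hsq y (by omega)).1) (hsq y (by omega)).2) with hc | hc
        · exact absurd ((hstd y).1 hc) (by omega)
        · exact hc
  have hss : s * s = 1 := by
    rw [hs, ← map_mul, (hsq az (by rw [lab_reps.1]; norm_num)).1, map_one]
  have hcomm : ∀ a b : G, IsConj s a → IsConj r b → s ∈ Subgroup.zpowers (a * b) →
      a * s = s * a ∧ b * s = s * b := by
    intro a b ha hb hz
    have inv2 : ∀ u t : G, u * u = 1 → IsConj u t → t * t = 1 := by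
      intro u t hu ht
      obtain ⟨g, rfl⟩ := isConj_iff.1 ht
      rw [show g * u * g⁻¹ * (g * u * g⁻¹) = g * (u * u) * g⁻¹ by group, hu]
      group
    have haa := inv2 s a hss ha
    have hbb := inv2 r b (by rw [hr, ← map_mul, (hsq nr (by rw [nine_facts.1]; norm_num)).1, map_one]) hb
    obtain ⟨k, hk⟩ := Subgroup.mem_zpowers_iff.1 hz
    have hinv : a * (a * b) * a⁻¹ = (a * b)⁻¹ := by
      rw [← mul_assoc, haa, one_mul, inv_eq_of_mul_eq_one_right haa, mul_inv_rev,
        inv_eq_of_mul_eq_one_right haa, inv_eq_of_mul_eq_one_right hbb]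
    have hza : a * s * a⁻¹ = s := by
      rw [← hk, ← conj_zpow, hinv, inv_zpow, hk, inv_eq_of_mul_eq_one_right hss]
    have h1 : a * s = s * a := mul_inv_eq_iff_eq_mul.1 hza
    refine ⟨h1, ?_⟩
    have h2 : Commute (a * b) s := hk ▸ Commute.self_zpow _ k
    have h3 : Commute (a * (a * b)) s := (show Commute a s from h1).mul_left h2
    rwa [← mul_assoc, haa, one_mul] at h3
  rw [← card_azPairs, ← Nat.card_eq_finsetCard]
  refine (Nat.card_eq_of_bijective (fun q : {q // q ∈ azPairs} =>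
    (⟨(D.hom q.1.1, D.hom q.1.2), ?_⟩ : PairSet D s)) ⟨?_, ?_⟩).symm
  · obtain ⟨h1, h2, h3⟩ := (mem_azPairs q.1.1 q.1.2).1 q.2
    refine ⟨(hstd _).2 h1, (hR _).2 h2, ?_⟩
    rw [← map_mul]
    obtain ⟨k, hk⟩ := Subgroup.mem_zpowers_iff.1 h3
    exact ⟨k, by show D.hom (q.1.1 * q.1.2) ^ k = s; rw [← map_zpow, hk]⟩
  · intro q q' hq
    have h := congrArg Subtype.val hq
    exact Subtype.ext (Prod.ext (D.inj (congrArg Prod.fst h)) (D.inj (congrArg Prod.snd h)))
  · rintro ⟨⟨a, b⟩, ha, hb, hz⟩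
    obtain ⟨h1, h2⟩ := hcomm a b ha hb hz
    obtain ⟨x, rfl⟩ := exists_hom_of_commute D h1
    obtain ⟨y, rfl⟩ := exists_hom_of_commute D h2
    refine ⟨⟨(x, y), (mem_azPairs x y).2 ⟨(hstd x).1 ha, (hR y).1 hb, ?_⟩⟩, rfl⟩
    obtain ⟨k, hk⟩ := Subgroup.mem_zpowers_iff.1 hz
    refine ⟨k, D.inj ?_⟩
    show D.hom ((x * y) ^ k) = D.hom az
    rw [map_zpow, map_mul]
    exact hk

end CfsgLib.AltEightRecog
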