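import Cfsg.Agent.Lib.AltEightRecog.NineSetting
import Mathlib.GroupTheory.SpecificGroups.Alternating

/-!
# Facts about the models used to count pairs of involutions in the centraliser of `nr`
-/

set_option autoImplicit false
set_option maxRecDepth 100000

namespace CfsgLib.AltEightRecog.NineCount

open Equiv Equiv.Perm

/-- The alternating group on the five cosets. -/
abbrev A5 : Subgroup (Perm (Fin 5)) := alternatingGroup (Fin 5)

/-- The points moved by a permutation. -/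
def moved (π : Perm (Fin 5)) : ℕ := (Finset.univ.filter fun i => π i ≠ i).card

theorem a5_fix : ∀ q : A5, q * q = 1 → q ≠ 1 →
    ∃ i, (q : Perm (Fin 5)) i = i ∧ ∀ j, (q : Perm (Fin 5)) j = j → j = i := by decide +kernel

theorem a5_fix_surj : ∀ i : Fin 5, ∃ q : A5, q * q = 1 ∧ q ≠ 1 ∧ (q : Perm (Fin 5)) i = i := by
  decide +kernel

theorem a5_comm : ∀ q : A5, q * q = 1 → q ≠ 1 → ∀ q' : A5, q' * q' = 1 → q' ≠ 1 →
    (q * q' = q' * q ↔ ∀ i, (q : Perm (Fin 5)) i = i → (q' : Perm (Fin 5)) i = i) := by decide +kernel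

theorem a5_order : ∀ c : A5, c ^ 30 = 1 ∧ (c ^ 15 = 1 ↔ ¬ (c * c = 1 ∧ c ≠ 1)) := by decide +kernel

theorem a5_conj : ∀ q : A5, q * q = 1 → q ≠ 1 → ∀ q' : A5, q' * q' = 1 → q' ≠ 1 →
    ∃ h : A5, h * q * h⁻¹ = q' := by decide +kernel

theorem a5_swap : ∀ π : Perm (Fin 5), π * π = 1 → ∀ q : A5, q * q = 1 → q ≠ 1 →
    π * q * π⁻¹ ≠ q → π * q * π⁻¹ * q = q * (π * q * π⁻¹) → moved π = 2 := by decide +kernel

theorem a5_tr : ∀ π : Perm (Fin 5), π * π = 1 → moved π = 2 → ∀ s : A5,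
    π * s * (π * s) = 1 → ∃ h : A5, (h : Perm (Fin 5)) * π * (h : Perm (Fin 5))⁻¹ = π * s := by
  decide +kernel

theorem count_one : (Finset.univ.filter fun p : A5 × A5 =>
    (p.1 * p.1 = 1 ∧ p.1 ≠ 1) ∧ (p.2 * p.2 = 1 ∧ p.2 ≠ 1) ∧
      ¬ (p.1 * p.2 * (p.1 * p.2) = 1 ∧ p.1 * p.2 ≠ 1)).card = 195 := by decide +kernel

/-- The product of an involution with its image under conjugation. -/
def twist (τ : Perm (Fin 5)) (q : A5) : Perm (Fin 5) := (q : Perm (Fin 5)) * (τ * q * τ⁻¹)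

theorem count_out : ∀ π : Perm (Fin 5), π * π = 1 → moved π = 2 →
    (Finset.univ.filter fun s : A5 => π * s * (π * s) = 1).card = 10 ∧
      ∀ s : A5, π * s * (π * s) = 1 → moved (π * s) = 2 := by decide +kernel

theorem count_q : ∀ τ : Perm (Fin 5), τ * τ = 1 → moved τ = 2 →
    (Finset.univ.filter fun q : A5 => q * q = 1 ∧ q ≠ 1 ∧
      ¬ (twist τ q * twist τ q = 1 ∧ twist τ q ≠ 1)).card = 9 := by decide +kernel

/-- Membership in the complement of the four-group inside `inA`. -/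
def inW (x : CA) : Bool :=
  x == 1 || (inA x && (lab x == 4 || lab x == 6) && x != nr && x != nv && x != nr * nv)

/-- Membership in the four-group. -/
def inV (x : CA) : Bool := x == 1 || x == nr || x == nv || x == nr * nv

theorem v_facts : inV 1 = true ∧ inV nr = true ∧ inV nv = true ∧
    (∀ x y : CA, inV x = true → inV y = true → inV (x * y) = true) ∧
    (∀ x : CA, inV x = true → x * x = 1 ∧ inA x = true) := by decide +kernel

theorem w_split : ∀ x : CA, inA x = true →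
    ∃ v : CA, inV v = true ∧ inW (v * x) = true := by decide +kernel

theorem w_lab : ∀ v : CA, inV v = true → ∀ w : CA, inW w = true →
    ((lab (v * w) = 1 ∨ lab (v * w) = 2 ∨ lab (v * w) = 3 ∨ lab (v * w) = 5) ↔ v ≠ 1 ∧ w ≠ 1) := by
  decide +kernel

theorem w_facts : (∀ x : CA, inV x = true → inW x = true → x = 1) ∧
    (∀ w : CA, inW w = true → w * w = 1 ∧ inA w = true) ∧
    (∀ v : CA, inW v = true → ∀ w : CA, inW w = true → inW (v * w) = true) := by decide +kernel

theorem w_other : ∀ w : CA, inW w = true → w ≠ 1 →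
    ∃ w' : CA, inW w' = true ∧ w' ≠ 1 ∧ w' ≠ w := by decide +kernel

theorem out_facts : ∀ x : CA, x * nr = nr * x → inA x = false →
    x * nv * x⁻¹ = nr * nv ∧
      (x * x = 1 → ¬ (lab x = 1 ∨ lab x = 2 ∨ lab x = 3 ∨ lab x = 5)) := by decide +kernel

theorem t_facts : ∃ x : CA, x * nr = nr * x ∧ inA x = false ∧ x * x = 1 ∧
    (x * nr) * nr = nr * (x * nr) ∧ inA (x * nr) = false ∧ (x * nr) * (x * nr) = 1 ∧
    ∃ w : CA, inW w = true ∧ w ≠ 1 ∧ inW (x * w * x⁻¹) = true ∧ x * w * x⁻¹ ≠ w := by decide +kernel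

theorem in_a_facts : inA nr = true ∧ inA nv = true ∧
    ∀ x : CA, inA x = true → x * nr = nr * x ∧ x * nv = nv * x := by decide +kernel

end CfsgLib.AltEightRecog.NineCount
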