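import Cfsg.Agent.Lib.AltEightRecog.NineSetting
import Cfsg.Agent.S0213
import Mathlib.GroupTheory.GroupAction.Quotient

/-!
# A9 from the order formula
-/

set_option autoImplicit false
set_option linter.style.haveILetI false
set_option maxHeartbeats 400000

namespace CfsgLib.AltEightRecog

open Equiv

theorem AltCent.card_cent_az {G : Type*} [Group G] (D : AltCent G) :
    Nat.card (Subgroup.centralizer ({D.hom az} : Set G)) = 192 := by
  rw [← D.range_eq, Nat.card_congr (MonoidHom.ofInjective D.inj).symm.toEquiv, CA.card]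

/-- The group is A9. -/
theorem nine_final {G : Type*} [Group G] [Finite G] (D : AltCent G) (G0 : Subgroup G) (h : NineSetting D G0)
    (hcl : ∀ t : G, orderOf t = 2 → IsConj (D.hom az) t ∨ IsConj (D.hom nr) t)
    (hc : Nat.card (centR D) = 480) (hr : Nat.card (PairSet D (D.hom nr)) = 555)
    (hz : Nat.card (PairSet D (D.hom az)) = 156) : Nonempty (G ≃* alternatingGroup (Fin 9)) := by
  classical
  haveI := h.simple
  have horder : ∀ x : CA, lab x ≠ 0 → orderOf (D.hom x) = 2 := fun x hx => by
    have h' : x * x = 1 ∧ x ≠ 1 := by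
      by_contra hn
      exact hx ((lab_eq_zero_iff x).2 hn)
    rw [orderOf_injective D.hom D.inj]
    exact orderOf_eq_prime (by rw [pow_two]; exact h'.1) h'.2
  have hnc : ¬ IsConj (D.hom az) (D.hom nr) := fun hcj => by
    have := (h.std nr).1 hcj
    rw [nine_facts.1] at this
    omega
  have hz' : Nat.card {p : G × G // IsConj (D.hom az) p.1 ∧ IsConj (D.hom nr) p.2 ∧
      D.hom az ∈ Subgroup.zpowers (p.1 * p.2)} = 156 := hz
  have hr' : Nat.card {p : G × G // IsConj (D.hom az) p.1 ∧ IsConj (D.hom nr) p.2 ∧
      D.hom nr ∈ Subgroup.zpowers (p.1 * p.2)} = 555 := hr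
  have hcard : Nat.card G = 181440 := by
    rw [Cfsg.Agent.S0213.result (D.hom az) (D.hom nr) (horder az (by rw [lab_reps.1]; norm_num))
      (horder nr (by rw [nine_facts.1]; norm_num)) hnc hcl, D.card_cent_az, hz', hr']
    change Nat.card (centR D) * 156 + 192 * 555 = 181440
    rw [hc]
  obtain ⟨e⟩ := h.alt
  have hG0 : Nat.card G0 = 20160 := by
    rw [Nat.card_congr e.toEquiv, nat_card_alternatingGroup, Nat.card_eq_fintype_card, Fintype.card_fin]
    norm_num [Nat.factorial]
  have hidx : G0.index = 9 := by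
    have := Subgroup.card_mul_index G0
    rw [hG0, hcard] at this
    omega
  have hne : G0 ≠ ⊤ := fun h0 => by rw [h0, Subgroup.index_top] at hidx; norm_num at hidx
  haveI : Fintype (G ⧸ G0) := Fintype.ofFinite _
  let en : (G ⧸ G0) ≃ Fin 9 := Fintype.equivFinOfCardEq (by rw [← Nat.card_eq_fintype_card]; exact hidx)
  let f : G →* Perm (Fin 9) := en.permCongrHom.toMonoidHom.comp (MulAction.toPermHom G (G ⧸ G0))
  have hf : Function.Injective f := by
    refine en.permCongrHom.injective.comp ?_
    rw [← MonoidHom.ker_eq_bot_iff]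
    refine (h.simple.eq_bot_or_eq_top_of_normal _ inferInstance).resolve_right fun h0 => hne ?_
    rw [← Subgroup.normalCore_eq_ker] at h0
    exact top_le_iff.1 (h0 ▸ Subgroup.normalCore_le G0)
  have hrange : f.range.index = 2 := by
    have h1 := Subgroup.card_mul_index f.range
    rw [Nat.card_congr (MonoidHom.ofInjective hf).symm.toEquiv, hcard, Nat.card_perm, Nat.card_fin] at h1
    norm_num [Nat.factorial] at h1
    omega
  exact ⟨(MonoidHom.ofInjective hf).trans (MulEquiv.subgroupCongr
    (Equiv.Perm.eq_alternatingGroup_of_index_eq_two hrange))⟩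

end CfsgLib.AltEightRecog
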