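import Cfsg.Agent.Lib.AltEightRecog.NineQuot
import Mathlib.GroupTheory.Transfer
import Mathlib.GroupTheory.GroupAction.Quotient
import Mathlib.GroupTheory.SpecificGroups.Alternating.Centralizer

/-!
The degree nine case: the centraliser of order 480 as an extension of the symmetric group of degree 5.
-/

set_option autoImplicit false
set_option linter.style.haveILetI false

open Equiv
open scoped commutatorElement

namespace CfsgLib.AltEightRecog.Nine

theorem perm_conj : ∀ σ : Perm (Fin 5), σ * σ = 1 → Perm.sign σ = -1 → σ.cycleType = {2} := by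
  decide +kernel

theorem inU_gen : ∀ c : CA, inU c = true → c ≠ 1 →
    ∃ a ∈ [(⟨0, 2⟩ : CA), ⟨6, 0⟩, ⟨6, 2⟩], ∃ b ∈ [(⟨0, 2⟩ : CA), ⟨6, 0⟩, ⟨6, 2⟩],
      a ≠ b ∧ a ≠ 1 ∧ b ≠ 1 ∧ inU a = true ∧ inU b = true ∧ b * a = c := by decide +kernel

namespace Hyp

variable {G : Type*} [Group G] (H : Hyp G)

/-- The centraliser of `r`. -/
abbrev Cr : Subgroup G := Subgroup.centralizer ({H.r} : Set G)

/-- The centraliser of the four-group inside the centraliser of `r`. -/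
abbrev C1c : Subgroup H.Cr := H.C1.subgroupOf H.Cr

/-- The four-group inside the centraliser of `r`. -/
abbrev Vc : Subgroup H.Cr := H.V.subgroupOf H.Cr

theorem hom_mem_Cr {x : CA} (h : inA x = true) : H.D.hom x ∈ H.Cr :=
  (H.AG_le_C1 (H.mem_AG.2 ⟨x, h, rfl⟩)).1

variable [Finite G]

instance normal_C1c : H.C1c.Normal := Subgroup.normal_of_index_eq_two H.index_C1

instance normal_Vc : H.Vc.Normal := ⟨fun v hv g => Subgroup.mem_subgroupOf.2 (by
  show (g : G) * v * (g : G)⁻¹ ∈ H.V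
  have hg := mem_cent_iff.1 g.2
  have hgr : (g : G) * H.r * (g : G)⁻¹ = H.r := mul_inv_eq_iff_eq_mul.2 hg
  obtain ⟨x, hx, he⟩ := H.mem_V.1 (Subgroup.mem_subgroupOf.1 hv)
  rw [← he]
  simp only [inV, Bool.or_eq_true, beq_iff_eq] at hx
  have hr'V : H.r' ∈ H.V := H.mem_V.2 ⟨ar', by decide +kernel, rfl⟩
  have hrV : H.r ∈ H.V := H.mem_V.2 ⟨ar, by decide +kernel, rfl⟩
  rcases hx with ((rfl | rfl) | rfl) | rfl
  · simp
  · rw [hgr]; exact hrV
  · rcases H.orbit hg with h | h <;> rw [h]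
    · exact hr'V
    · exact H.V.mul_mem hrV hr'V
  · rw [map_mul, show (g : G) * (H.r * H.r') * (g : G)⁻¹ = (g : G) * H.r * (g : G)⁻¹ * ((g : G) * H.r' * (g : G)⁻¹) by group,
      hgr]
    rcases H.orbit hg with h | h <;> rw [h]
    · exact H.V.mul_mem hrV hr'V
    · exact H.V.mul_mem hrV (H.V.mul_mem hrV hr'V))⟩

/-- Involutions outside the centraliser of the four-group. -/
theorem outer_class {x : G} (hx : x ∈ H.Cr) (hx1 : x ∉ H.C1) (h2 : x * x = 1) : IsConj H.r x := by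
  haveI : Fact (Nat.Prime 2) := ⟨Nat.prime_two⟩
  have hxo : orderOf x = 2 := orderOf_eq_prime (by rw [pow_two]; exact h2)
    fun e => hx1 (e ▸ H.C1.one_mem)
  set S : Subgroup H.Cr := (H.Cr ⊓ H.D.hom.range).subgroupOf H.Cr with hS
  have hScard : Nat.card S = 32 := by
    rw [Nat.card_congr (Subgroup.subgroupOfEquivOfLe (inf_le_left : H.Cr ⊓ H.D.hom.range ≤ H.Cr)).toEquiv,
      H.card_model inCr _ (fun y hy => ?_) (fun g hg => ?_), inCr_card]
    · simp only [inCr, beq_iff_eq] at hy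
      exact ⟨mem_cent_iff.2 (H.hom_comm_iff.2 hy), y, rfl⟩
    · obtain ⟨h1, y, rfl⟩ := hg
      refine ⟨y, ?_, rfl⟩
      simp only [inCr, beq_iff_eq]
      exact H.hom_comm_iff.1 (mem_cent_iff.1 h1)
  obtain ⟨P, hP⟩ := (IsPGroup.of_card (p := 2) (n := 5) (G := S) (by rw [hScard]; norm_num)).exists_le_sylow
  have hPS : (P : Subgroup H.Cr) = S := (Subgroup.eq_of_le_of_card_ge hP (by
    obtain ⟨n, hn⟩ := IsPGroup.iff_card.1 P.2
    have hd : Nat.card (P : Subgroup H.Cr) ∣ Nat.card H.Cr := Subgroup.card_subgroup_dvd_card _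
    rw [hn] at hd ⊢
    rw [hScard]
    rcases Nat.lt_or_ge n 6 with h | h
    · calc 2 ^ n ≤ 2 ^ 5 := Nat.pow_le_pow_right (by norm_num) (by omega)
        _ = 32 := by norm_num
    · exact absurd (((pow_dvd_pow 2 h).trans hd)) (by norm_num; exact H.not_sixtyfour_dvd))).symm
  obtain ⟨Q, hQ⟩ := (IsPGroup.of_card (G := Subgroup.zpowers (⟨x, hx⟩ : H.Cr)) (p := 2) (n := 1)
    (by rw [Nat.card_zpowers, Subgroup.orderOf_mk, hxo, pow_one])).exists_le_sylow
  obtain ⟨h, hh⟩ := MulAction.exists_smul_eq H.Cr Q P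
  have hm : h * (⟨x, hx⟩ : H.Cr) * h⁻¹ ∈ S := by
    rw [← hPS, ← hh]
    exact (Subgroup.smul_mem_pointwise_smul_iff (a := MulAut.conj h) (x := (⟨x, hx⟩ : H.Cr))
      (S := (Q : Subgroup H.Cr))).2 (hQ (Subgroup.mem_zpowers _))
  obtain ⟨hmC, y, hy⟩ := Subgroup.mem_subgroupOf.1 hm
  have hy' : H.D.hom y = (h : G) * x * (h : G)⁻¹ := hy
  have hyr : inCr y = true := by
    simp only [inCr, beq_iff_eq]
    exact H.hom_comm_iff.1 (by rw [hy']; exact mem_cent_iff.1 hmC)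
  have hyA : inA y = false := by
    rw [Bool.eq_false_iff]
    intro hyA
    refine hx1 ?_
    have hmem : h * (⟨x, hx⟩ : H.Cr) * h⁻¹ ∈ H.C1c := Subgroup.mem_subgroupOf.2 (by
      show (h : G) * x * (h : G)⁻¹ ∈ H.C1
      rw [← hy']
      exact H.AG_le_C1 (H.mem_AG.2 ⟨y, hyA, rfl⟩))
    have h3 := H.normal_C1c.conj_mem _ hmem h⁻¹
    have h4 : h⁻¹ * (h * (⟨x, hx⟩ : H.Cr) * h⁻¹) * h⁻¹⁻¹ = ⟨x, hx⟩ := by group
    rw [h4] at h3
    exact Subgroup.mem_subgroupOf.1 h3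
  have hy2 : y * y = 1 := H.D.inj (by
    rw [map_mul, hy', map_one, show (h : G) * x * (h : G)⁻¹ * ((h : G) * x * (h : G)⁻¹) =
      (h : G) * (x * x) * (h : G)⁻¹ by group, h2]
    group)
  have hR := (H.isR_iff y).2 ((outer_facts y hyr hyA).1 hy2)
  rw [hy'] at hR
  exact hR.trans (isConj_iff.2 ⟨h, rfl⟩ : IsConj x ((h : G) * x * (h : G)⁻¹)).symm

omit [Finite G] in
theorem aw_mem : H.D.hom aw ∈ H.Cr :=
  mem_cent_iff.2 (H.hom_comm_iff.2 basic.2.2.2.2.2.2.2.2.2.2.2.2.1)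

variable (h480 : Nat.card (Subgroup.centralizer ({H.r} : Set G)) = 480)
include h480

theorem card_X0_five : Nat.card H.X0 = 60 := by
  have := H.card_C; have := H.card_X0
  omega

theorem card_C1c : Nat.card H.C1c = 240 := by
  rw [Nat.card_congr (Subgroup.subgroupOfEquivOfLe (inf_le_left : H.C1 ≤ H.Cr)).toEquiv, H.card_X0,
    H.card_X0_five h480]

/-- A point map onto the symmetric group of degree 5. -/
theorem exists_phi : ∃ φ : H.Cr →* Perm (Fin 5), φ.ker = H.Vc ∧ Function.Surjective φ ∧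
    ∀ g : H.Cr, g ∈ H.C1c ↔ Perm.sign (φ g) = 1 := by
  haveI : Fact (Nat.Prime 2) := ⟨Nat.prime_two⟩
  set M5 : Subgroup H.Cr := H.G0.subgroupOf H.Cr with hM5
  have h96 : Nat.card M5 = 96 := by
    rw [← H.card_cent_r_G0]
    exact Nat.card_congr
      { toFun := fun a => ⟨a.1.1, a.1.2, Subgroup.mem_subgroupOf.1 a.2⟩
        invFun := fun a => ⟨⟨a.1, a.2.1⟩, Subgroup.mem_subgroupOf.2 a.2.2⟩
        left_inv := fun a => rfl
        right_inv := fun a => rfl }
  have hidx : Nat.card (H.Cr ⧸ M5) = 5 := by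
    have h := Subgroup.card_mul_index M5
    rw [h96, h480] at h
    show M5.index = 5
    omega
  let q : (H.Cr ⧸ M5) ≃ Fin 5 := Finite.equivFinOfCardEq hidx
  let φ : H.Cr →* Perm (Fin 5) := q.permCongrHom.toMonoidHom.comp (MulAction.toPermHom H.Cr (H.Cr ⧸ M5))
  have hker : φ.ker = M5.normalCore := by
    rw [Subgroup.normalCore_eq_ker]
    ext g
    show q.permCongrHom (MulAction.toPermHom H.Cr (H.Cr ⧸ M5) g) = 1 ↔ _
    rw [map_eq_one_iff _ (q.permCongrHom).injective]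
    rfl
  have hVker : H.Vc ≤ φ.ker := by
    rw [hker]
    refine Subgroup.normal_le_normalCore.2 ?_
    intro v hv
    obtain ⟨x, -, he⟩ := H.mem_V.1 (Subgroup.mem_subgroupOf.1 hv)
    refine Subgroup.mem_subgroupOf.2 ?_
    rw [← he]
    exact H.hom_mem x
  -- the kernel inside `C1`
  let ι : H.C1 →* H.Cr := Subgroup.inclusion inf_le_left
  set M : Subgroup H.C1 := φ.ker.comap ι with hM
  have hMV : H.Vi ≤ M := fun v hv => hVker (Subgroup.mem_subgroupOf.2 (Subgroup.mem_subgroupOf.1 hv))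
  set Mb : Subgroup H.X0 := M.map (QuotientGroup.mk' H.Vi) with hMb
  haveI hMbn : Mb.Normal := Subgroup.Normal.map inferInstance _ (QuotientGroup.mk'_surjective _)
  have hMdvd : Nat.card M ∣ 96 := by
    have h1 : M.map ι ≤ M5 := by
      refine le_trans (Subgroup.map_comap_le _ _) ?_
      rw [hker]; exact Subgroup.normalCore_le _
    rw [← h96, Nat.card_congr (M.equivMapOfInjective ι (Subgroup.inclusion_injective _)).toEquiv]
    exact Subgroup.card_dvd_of_le h1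
  have hMbcard : 4 * Nat.card Mb = Nat.card M := by
    have h1 := Subgroup.card_mul_index ((QuotientGroup.mk' H.Vi).comp M.subtype).ker
    rw [Subgroup.index_ker, MonoidHom.range_comp, Subgroup.range_subtype, ← MonoidHom.comap_ker,
      QuotientGroup.ker_mk'] at h1
    change Nat.card (H.Vi.subgroupOf M) * Nat.card Mb = Nat.card M at h1
    rw [Nat.card_congr (Subgroup.subgroupOfEquivOfLe hMV).toEquiv,
      Nat.card_congr (Subgroup.subgroupOfEquivOfLe (H.V_le_AG.trans H.AG_le_C1)).toEquiv, H.card_V] at h1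
    exact h1
  have h60 := H.card_X0_five h480
  have hMb12 : Nat.card Mb ∣ 12 := by
    have h1 : Nat.card Mb ∣ 24 := by
      have := hMdvd
      rw [← hMbcard, show (96 : ℕ) = 4 * 24 from rfl] at this
      exact Nat.dvd_of_mul_dvd_mul_left (by norm_num) this
    have h2 : Nat.card Mb ∣ 60 := h60 ▸ Subgroup.card_subgroup_dvd_card Mb
    have := Nat.dvd_gcd h1 h2
    norm_num at this
    exact this
  have hcl := H.X0_spec.2
  haveI hBne : Nontrivial H.B := Finite.one_lt_card_iff_nontrivial.1 (by rw [H.card_B]; norm_num)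
  obtain ⟨⟨b, hb⟩, hbne⟩ := exists_ne (1 : H.B)
  have hb1 : b ≠ 1 := fun h => hbne (Subtype.ext h)
  have hbo := orderOf_two_of (H.B_sq b hb) hb1
  have hMbot : Mb = ⊥ := by
    by_cases he : 2 ∣ Nat.card Mb
    · exfalso
      obtain ⟨⟨i, hi⟩, hio⟩ := exists_prime_orderOf_dvd_card' 2 he
      rw [Subgroup.orderOf_mk] at hio
      have h15 : Nat.card {u : H.X0 // IsConj b u} = 15 := by
        have h := Subgroup.card_mul_index (Subgroup.centralizer ({b} : Set H.X0))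
        rw [← CfsgLib.Invol.card_isConj_eq_index, H.cent_B b hb hb1, H.card_B, h60] at h
        omega
      have hle : Nat.card {u : H.X0 // IsConj b u} ≤ Nat.card Mb := by
        refine Nat.card_le_card_of_injective (fun u => (⟨u.1, ?_⟩ : Mb))
          fun a c h => Subtype.ext (congrArg (fun z : Mb => (z : H.X0)) h)
        obtain ⟨g, hg⟩ := isConj_iff.1 ((hcl b i hbo hio).symm.trans u.2)
        exact hg ▸ hMbn.conj_mem i hi g
      have := Nat.le_of_dvd (by norm_num) hMb12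
      omega
    · obtain ⟨l, hl, hl1, hlb⟩ : ∃ l ∈ H.B, l ≠ 1 ∧ l ≠ b := by
        by_contra hcon
        push Not at hcon
        have hle : Nat.card H.B ≤ Nat.card ({1, b} : Set H.X0) :=
          Nat.card_le_card_of_injective (fun x : H.B => (⟨(x : H.X0), by
            by_cases h : (x : H.X0) = 1
            · exact Or.inl h
            · exact Or.inr (hcon x x.2 h)⟩ : ({1, b} : Set H.X0)))
            (fun a c h => Subtype.ext (congrArg (fun z : ({1, b} : Set H.X0) => (z : H.X0)) h))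
        rw [Nat.card_coe_set_eq, Set.ncard_pair (Ne.symm hb1), H.card_B] at hle
        omega
      have hfix : ∀ d ∈ H.B, d ≠ 1 → ∀ w ∈ Mb, d * w * d⁻¹ = w → w = 1 := by
        intro d hd hd1 w hw hc
        have hwB : w ∈ H.B := by
          rw [← H.cent_B d hd hd1, mem_cent_iff]
          exact (mul_inv_eq_iff_eq_mul.1 hc).symm
        have h1 : orderOf w ∣ 2 := orderOf_dvd_of_pow_eq_one (by rw [pow_two, H.B_sq w hwB])
        have h2 : orderOf w ∣ Nat.card Mb := by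
          rw [← Subgroup.orderOf_mk w hw]; exact orderOf_dvd_natCard _
        rw [← orderOf_eq_one_iff]
        exact Nat.eq_one_of_dvd_coprimes ((Nat.Prime.coprime_iff_not_dvd Nat.prime_two).2 he) h1 h2
      refine eq_bot_of_four Mb (H.B_sq b hb) (H.B_sq l hl) (fun w hw => hMbn.conj_mem w hw b)
        (fun w hw => hMbn.conj_mem w hw l) (hfix b hb hb1) (hfix l hl hl1) (hfix _ (H.B.mul_mem hb hl) ?_)
      exact fun e => hlb ((mul_eq_one_iff_eq_inv.1 e).trans (inv_eq_of_mul_eq_one_right (H.B_sq l hl))).symm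
  have hC1ker : ∀ g : H.Cr, g ∈ H.C1c → g ∈ φ.ker → g ∈ H.Vc := by
    intro g hg hk
    have hgC1 : (g : G) ∈ H.C1 := Subgroup.mem_subgroupOf.1 hg
    have hgM : (⟨g, hgC1⟩ : H.C1) ∈ M := hk
    have : (QuotientGroup.mk' H.Vi) ⟨g, hgC1⟩ ∈ Mb := ⟨_, hgM, rfl⟩
    rw [hMbot, Subgroup.mem_bot, H.mk_eq_one] at this
    exact Subgroup.mem_subgroupOf.2 this
  have hkerC1 : φ.ker ≤ H.C1c := by
    intro x hx
    by_contra hxC
    have hp : IsPGroup 2 φ.ker := by
      intro g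
      refine ⟨2, Subtype.ext ?_⟩
      have hg2 : (g : H.Cr) * g ∈ H.Vc :=
        hC1ker _ (Subgroup.mul_self_mem_of_index_two H.index_C1 _) (φ.ker.mul_mem g.2 g.2)
      obtain ⟨y, hy, he⟩ := H.mem_V.1 (Subgroup.mem_subgroupOf.1 hg2)
      have he' : H.D.hom y = ((g : H.Cr) : G) * ((g : H.Cr) : G) := he
      apply Subtype.ext
      show ((g : H.Cr) : G) ^ (2 ^ 2) = 1
      rw [show (2 : ℕ) ^ 2 = 2 * 2 from rfl, pow_mul, pow_two ((g : H.Cr) : G), ← he', pow_two, ← map_mul,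
        (inA_elem y (inV_spec y hy).1).1, map_one]
    obtain ⟨Q, hQ⟩ := hp.exists_le_sylow
    set S : Subgroup H.Cr := (H.Cr ⊓ H.D.hom.range).subgroupOf H.Cr with hS
    obtain ⟨P, hP⟩ : ∃ P : Sylow 2 H.Cr, (P : Subgroup H.Cr) = S := by
      have hc : Nat.card S = 32 := by
        rw [Nat.card_congr (Subgroup.subgroupOfEquivOfLe (inf_le_left : H.Cr ⊓ H.D.hom.range ≤ H.Cr)).toEquiv,
          H.card_model inCr _ (fun y hy => ?_) (fun g hg => ?_), inCr_card]
        · simp only [inCr, beq_iff_eq] at hy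
          exact ⟨mem_cent_iff.2 (H.hom_comm_iff.2 hy), y, rfl⟩
        · obtain ⟨h1, y, rfl⟩ := hg
          refine ⟨y, ?_, rfl⟩
          simp only [inCr, beq_iff_eq]
          exact H.hom_comm_iff.1 (mem_cent_iff.1 h1)
      obtain ⟨P, hP⟩ := (IsPGroup.of_card (p := 2) (n := 5) (G := S) (by rw [hc]; norm_num)).exists_le_sylow
      refine ⟨P, (Subgroup.eq_of_le_of_card_ge hP ?_).symm⟩
      obtain ⟨n, hn⟩ := IsPGroup.iff_card.1 P.2
      have hd : Nat.card (P : Subgroup H.Cr) ∣ Nat.card H.Cr := Subgroup.card_subgroup_dvd_card _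
      rw [hn, h480] at hd
      rw [hn, hc]
      rcases Nat.lt_or_ge n 6 with h | h
      · calc 2 ^ n ≤ 2 ^ 5 := Nat.pow_le_pow_right (by norm_num) (by omega)
          _ = 32 := by norm_num
      · exact absurd ((pow_dvd_pow 2 h).trans hd) (by norm_num)
    obtain ⟨c, hc⟩ := MulAction.exists_smul_eq H.Cr Q P
    have hxS : x ∈ S := by
      rw [← hP, ← hc]
      have h1 : c⁻¹ * x * c⁻¹⁻¹ ∈ φ.ker := (MonoidHom.normal_ker φ).conj_mem x hx c⁻¹
      have h2 := (Subgroup.smul_mem_pointwise_smul_iff (a := MulAut.conj c) (x := c⁻¹ * x * c⁻¹⁻¹)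
        (S := (Q : Subgroup H.Cr))).2 (hQ h1)
      rwa [show MulAut.conj c • (c⁻¹ * x * c⁻¹⁻¹) = x by
        show c * (c⁻¹ * x * c⁻¹⁻¹) * c⁻¹ = x
        group] at h2
    obtain ⟨-, z, hz⟩ := Subgroup.mem_subgroupOf.1 hxS
    have hz' : H.D.hom z = (x : G) := hz
    have hzr : inCr z = true := by
      simp only [inCr, beq_iff_eq]
      exact H.hom_comm_iff.1 (hz'.symm ▸ mem_cent_iff.1 x.2)
    have hzA : inA z = false := by
      rw [Bool.eq_false_iff]
      intro hzA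
      exact hxC (Subgroup.mem_subgroupOf.2 (hz' ▸ H.AG_le_C1 (H.mem_AG.2 ⟨z, hzA, rfl⟩)))
    obtain ⟨-, -, y, hy, hyV⟩ := outer_facts z hzr hzA
    simp only [inCr, beq_iff_eq] at hy
    let yC : H.Cr := ⟨H.D.hom y, mem_cent_iff.2 (H.hom_comm_iff.2 hy)⟩
    have hck : x * yC * x⁻¹ * yC⁻¹ ∈ φ.ker := by
      have := φ.ker.mul_mem hx ((MonoidHom.normal_ker φ).conj_mem _ (φ.ker.inv_mem hx) yC)
      convert this using 1
      group
    have hcC : x * yC * x⁻¹ * yC⁻¹ ∈ H.C1c := by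
      by_cases hyC : yC ∈ H.C1c
      · exact H.C1c.mul_mem (H.normal_C1c.conj_mem yC hyC x) (H.C1c.inv_mem hyC)
      · have h1 : x * yC ∈ H.C1c := (Subgroup.mul_mem_iff_of_index_two H.index_C1).2
          (iff_of_false hxC hyC)
        have h2 : x⁻¹ * yC⁻¹ ∈ H.C1c := (Subgroup.mul_mem_iff_of_index_two H.index_C1).2
          (iff_of_false (fun h => hxC (inv_inv x ▸ H.C1c.inv_mem h))
            (fun h => hyC (inv_inv yC ▸ H.C1c.inv_mem h)))
        have := H.C1c.mul_mem h1 h2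
        rwa [← mul_assoc] at this
    obtain ⟨w, hw, he⟩ := H.mem_V.1 (Subgroup.mem_subgroupOf.1 (hC1ker _ hcC hck))
    have he' : H.D.hom w = (x : G) * H.D.hom y * (x : G)⁻¹ * (H.D.hom y)⁻¹ := he
    rw [← hz', ← map_inv, ← map_inv, ← map_mul, ← map_mul, ← map_mul] at he'
    rw [H.D.inj he'] at hw
    rw [hyV] at hw
    exact absurd hw (by decide)
  have hkerV : φ.ker = H.Vc := le_antisymm (fun g hg => hC1ker g (hkerC1 hg) hg) hVker
  have hVc4 : Nat.card H.Vc = 4 := by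
    rw [Nat.card_congr (Subgroup.subgroupOfEquivOfLe (H.V_le_AG.trans (H.AG_le_C1.trans inf_le_left))).toEquiv,
      H.card_V]
  have hsurj : Function.Surjective φ := by
    rw [← MonoidHom.range_eq_top]
    refine Subgroup.eq_top_of_card_eq _ ?_
    have h := Subgroup.card_mul_index φ.ker
    rw [Subgroup.index_ker, hkerV, hVc4, h480] at h
    rw [Nat.card_perm, Nat.card_fin]
    show _ = 120
    omega
  refine ⟨φ, hkerV, hsurj, ?_⟩
  have himg : H.C1c.map φ = alternatingGroup (Fin 5) := by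
    refine Perm.eq_alternatingGroup_of_index_eq_two ?_
    rw [Subgroup.index_map_eq _ hsurj hkerC1, H.index_C1]
  intro g
  rw [← Perm.mem_alternatingGroup, ← himg]
  refine ⟨fun h => ⟨g, h, rfl⟩, ?_⟩
  rintro ⟨a, ha, he⟩
  have hk : a⁻¹ * g ∈ φ.ker := by rw [MonoidHom.mem_ker, map_mul, map_inv, he, inv_mul_cancel]
  have := H.C1c.mul_mem ha (hkerC1 hk)
  rwa [mul_inv_cancel_left] at this

/-- The derived group of the centraliser of the four-group. -/
abbrev Dc : Subgroup H.Cr := ⁅H.C1c, H.C1c⁆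

open scoped IsMulCommutative in
theorem Dc_inf_Vc {g : H.Cr} (hD : g ∈ H.Dc) (hV : g ∈ H.Vc) : g = 1 := by
  haveI : Fact (Nat.Prime 2) := ⟨Nat.prime_two⟩
  set A : Subgroup H.C1 := H.AG.subgroupOf H.C1 with hA
  haveI : IsMulCommutative A := ⟨⟨fun a b => by
    obtain ⟨x, hx, hxe⟩ := H.mem_AG.1 (Subgroup.mem_subgroupOf.1 a.2)
    obtain ⟨y, hy, hye⟩ := H.mem_AG.1 (Subgroup.mem_subgroupOf.1 b.2)
    apply Subtype.ext; apply Subtype.ext
    show ((a : H.C1) : G) * ((b : H.C1) : G) = ((b : H.C1) : G) * ((a : H.C1) : G)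
    rw [← hxe, ← hye]
    exact H.hom_comm_iff.2 ((inA_elem x hx).2 y hy)⟩⟩
  set T := MonoidHom.transfer (MonoidHom.id A) with hT
  have hA15 : A.index = 15 := by
    have h := Subgroup.card_mul_index A
    rw [Nat.card_congr (Subgroup.subgroupOfEquivOfLe H.AG_le_C1).toEquiv, H.card_AG, H.card_X0,
      H.card_X0_five h480] at h
    omega
  obtain ⟨g', hg', hge⟩ : ∃ g' ∈ ⁅(⊤ : Subgroup H.C1), (⊤ : Subgroup H.C1)⁆,
      Subgroup.inclusion (inf_le_left : H.C1 ≤ H.Cr) g' = g := by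
    have hm : H.Dc = (⁅(⊤ : Subgroup H.C1), (⊤ : Subgroup H.C1)⁆).map
        (Subgroup.inclusion (inf_le_left : H.C1 ≤ H.Cr)) := by
      rw [Subgroup.map_commutator, ← MonoidHom.range_eq_map]
      have : (Subgroup.inclusion (inf_le_left : H.C1 ≤ H.Cr)).range = H.C1c := by
        ext a
        exact ⟨fun ⟨c, hc⟩ => hc ▸ Subgroup.mem_subgroupOf.2 c.2,
          fun ha => ⟨⟨a, Subgroup.mem_subgroupOf.1 ha⟩, rfl⟩⟩
      rw [this]
    rw [hm] at hD
    exact hD
  have hTg : T g' = 1 := by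
    have h1 : ⁅(⊤ : Subgroup H.C1), (⊤ : Subgroup H.C1)⁆ ≤ T.ker := by
      rw [Subgroup.commutator_le]
      intro a _ b _
      rw [MonoidHom.mem_ker, map_commutatorElement, commutatorElement_eq_one_iff_mul_comm]
      exact mul_comm _ _
    exact h1 hg'
  have hgV : (g' : G) ∈ H.V := by
    have := Subgroup.mem_subgroupOf.1 hV
    rwa [← hge] at this
  have key : ∀ (k : ℕ) (g₀ : H.C1), g₀⁻¹ * g' ^ k * g₀ ∈ A → g₀⁻¹ * g' ^ k * g₀ = g' ^ k := by
    intro k g₀ _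
    have hc : g₀ * g' = g' * g₀ := Subtype.ext (H.V_central hgV g₀.2)
    rw [mul_assoc, ← ((show Commute g₀ g' from hc).pow_right k).eq, inv_mul_cancel_left]
  have h15 := MonoidHom.transfer_eq_pow (MonoidHom.id A) g' key
  rw [← hT, hTg, MonoidHom.id_apply] at h15
  have hp : g' ^ 15 = 1 := hA15 ▸ (congrArg Subtype.val h15).symm
  obtain ⟨z, hz, hze⟩ := H.mem_V.1 hgV
  have hzz : g' ^ 2 = 1 := Subtype.ext (by
    show (g' : G) ^ 2 = 1
    rw [← hze, pow_two, ← map_mul, (inA_elem z (inV_spec z hz).1).1, map_one])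
  have : g' = 1 := by
    have h3 : g' ^ 15 = (g' ^ 2) ^ 7 * g' := by rw [← pow_mul, ← pow_succ]
    rw [hp, hzz, one_pow, one_mul] at h3
    exact h3.symm
  rw [← hge, this, map_one]

omit h480 in
theorem U_le_Dc {c : CA} (hc : inU c = true) :
    (⟨H.D.hom c, H.hom_mem_Cr (inU_inA c hc).1⟩ : H.Cr) ∈ H.Dc := by
  by_cases hc1 : c = 1
  · subst hc1
    have h : (⟨H.D.hom 1, H.hom_mem_Cr (inU_inA 1 hc).1⟩ : H.Cr) = 1 := Subtype.ext (map_one _)
    rw [h]; exact Subgroup.one_mem _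
  obtain ⟨a, -, b, -, hab, ha1, hb1, ha, hb, hba⟩ := inU_gen c hc hc1
  have hCa : H.D.hom a ∈ H.C1 := H.AG_le_C1 (H.mem_AG.2 ⟨a, (inU_inA a ha).1, rfl⟩)
  have hCb : H.D.hom b ∈ H.C1 := H.AG_le_C1 (H.mem_AG.2 ⟨b, (inU_inA b hb).1, rfl⟩)
  have hne : ∀ u : CA, ∀ hu : inU u = true, u ≠ 1 → ∀ h : H.D.hom u ∈ H.C1,
      orderOf ((QuotientGroup.mk' H.Vi) ⟨H.D.hom u, h⟩) = 2 := by
    intro u hu hu1 h
    refine orderOf_eq_prime ?_ fun e => hu1 ?_
    · rw [pow_two]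
      exact H.B_sq _ (H.mem_B.2 ⟨u, (inU_inA u hu).1, h, rfl⟩)
    · obtain ⟨v, hv, he⟩ := H.mem_V.1 (H.mk_eq_one.1 e)
      exact inV_inU u (H.D.inj he ▸ hv) hu
  obtain ⟨q, hq⟩ := isConj_iff.1 (H.X0_spec.2 _ _ (hne a ha ha1 hCa) (hne b hb hb1 hCb))
  obtain ⟨x, rfl⟩ := QuotientGroup.mk'_surjective H.Vi q
  rw [← map_inv, ← map_mul, ← map_mul, ← mul_inv_eq_one, ← map_inv, ← map_mul, H.mk_eq_one] at hq
  obtain ⟨v, hv, he⟩ := H.mem_V.1 hq
  have he' : H.D.hom v = (x : G) * H.D.hom a * (x : G)⁻¹ * (H.D.hom b)⁻¹ := he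
  have hconj : H.D.hom (v * b) = (x : G) * H.D.hom a * (x : G)⁻¹ := by
    rw [map_mul, he', inv_mul_cancel_right]
  have hR : isR (v * b) = true := (H.isR_iff _).1 (hconj ▸
    ((H.isR_iff a).2 ((inU_inA a ha).2 ha1)).trans (isConj_iff.2 ⟨x, rfl⟩))
  have hv1 : v = 1 := by
    by_contra hne'
    have := (inU_K v hv b hb hb1).2 hne'
    simp [isR, this] at hR
  rw [hv1, one_mul] at hconj
  let xC : H.Cr := ⟨x, x.2.1⟩
  let aC : H.Cr := ⟨H.D.hom a, hCa.1⟩
  have h : (⟨H.D.hom c, H.hom_mem_Cr (inU_inA c hc).1⟩ : H.Cr) = ⁅xC, aC⁆ := Subtype.ext (by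
    show H.D.hom c = (x : G) * H.D.hom a * (x : G)⁻¹ * (H.D.hom a)⁻¹
    rw [← hba, map_mul, ← hconj, ← map_inv, inv_eq_of_mul_eq_one_right (inA_elem a (inU_inA a ha).1).1])
  rw [h]
  exact Subgroup.commutator_mem_commutator (Subgroup.mem_subgroupOf.2 x.2) (Subgroup.mem_subgroupOf.2 hCa)

/-- The classes inside the centraliser of the four-group. -/
theorem class_C1 {x : H.Cr} (hx : x ∈ H.C1c) (h2 : x * x = 1) (h1 : x ≠ 1) :
    IsConj H.s (x : G) ↔ (x ∉ H.Vc ∧ x ∉ H.Dc) := by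
  haveI : Fact (Nat.Prime 2) := ⟨Nat.prime_two⟩
  set A : Subgroup H.C1 := H.AG.subgroupOf H.C1 with hA
  have hAcard : Nat.card A = 16 := by
    rw [Nat.card_congr (Subgroup.subgroupOfEquivOfLe H.AG_le_C1).toEquiv, H.card_AG]
  obtain ⟨P, hP⟩ := (IsPGroup.of_card (p := 2) (n := 4) (G := A) (by rw [hAcard]; norm_num)).exists_le_sylow
  have hPA : (P : Subgroup H.C1) = A := (Subgroup.eq_of_le_of_card_ge hP (by
    obtain ⟨n, hn⟩ := IsPGroup.iff_card.1 P.2
    have hd : Nat.card (P : Subgroup H.C1) ∣ Nat.card H.C1 := Subgroup.card_subgroup_dvd_card _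
    rw [hn] at hd ⊢
    rw [hAcard]
    rw [H.card_X0, H.card_X0_five h480] at hd
    rcases Nat.lt_or_ge n 5 with h | h
    · calc 2 ^ n ≤ 2 ^ 4 := Nat.pow_le_pow_right (by norm_num) (by omega)
        _ = 16 := by norm_num
    · exact absurd ((pow_dvd_pow 2 h).trans hd) (by norm_num))).symm
  let x1 : H.C1 := ⟨(x : G), Subgroup.mem_subgroupOf.1 hx⟩
  obtain ⟨Q, hQ⟩ := (IsPGroup.of_card (G := Subgroup.zpowers x1) (p := 2) (n := 1) (by
    rw [Nat.card_zpowers, pow_one]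
    exact orderOf_two_of (Subtype.ext (congrArg Subtype.val h2 : (x : G) * x = 1))
      fun e => h1 (Subtype.ext (congrArg (fun z : H.C1 => (z : G)) e)))).exists_le_sylow
  obtain ⟨h, hh⟩ := MulAction.exists_smul_eq H.C1 Q P
  have hm : h * x1 * h⁻¹ ∈ A := by
    rw [← hPA, ← hh]
    exact (Subgroup.smul_mem_pointwise_smul_iff (a := MulAut.conj h) (x := x1) (S := (Q : Subgroup H.C1))).2
      (hQ (Subgroup.mem_zpowers _))
  obtain ⟨z, hz, hze⟩ := H.mem_AG.1 (Subgroup.mem_subgroupOf.1 hm)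
  have hze' : H.D.hom z = (h : G) * (x : G) * (h : G)⁻¹ := hze
  obtain ⟨u, hu, hv, huU, hu2⟩ := inA_decomp z hz
  let hC : H.Cr := ⟨h, h.2.1⟩
  let zC : H.Cr := ⟨H.D.hom z, H.hom_mem_Cr hz⟩
  have hzc : hC * x * hC⁻¹ = zC := Subtype.ext hze'.symm
  have hnorm : ∀ N : Subgroup H.Cr, N.Normal → (x ∈ N ↔ zC ∈ N) := fun N hN => by
    refine ⟨fun hxN => hzc ▸ hN.conj_mem x hxN hC, fun hzN => ?_⟩
    have := hN.conj_mem zC hzN hC⁻¹
    rwa [← hzc, show hC⁻¹ * (hC * x * hC⁻¹) * hC⁻¹⁻¹ = x by group] at this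
  have hK : IsConj H.s (x : G) ↔ isK z = true := by
    rw [← H.K_iff, hze']
    exact ⟨fun hc => hc.trans (isConj_iff.2 ⟨h, rfl⟩), fun hc =>
      hc.trans (isConj_iff.2 ⟨h, rfl⟩ : IsConj (x : G) ((h : G) * x * (h : G)⁻¹)).symm⟩
  have hzne : z ≠ 1 := fun e => h1 (Subtype.ext (by
    rw [e, map_one] at hze'
    exact conj_eq_one_iff.1 hze'.symm))
  set v := z * u with hvdef
  have hzvu : z = v * u := by rw [hvdef, mul_assoc, hu2, mul_one]
  let vC : H.Cr := ⟨H.D.hom v, H.hom_mem_Cr (inV_spec v hv).1⟩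
  let uC : H.Cr := ⟨H.D.hom u, H.hom_mem_Cr (inU_inA u huU).1⟩
  have huD : uC ∈ H.Dc := H.U_le_Dc huU
  have hvV : vC ∈ H.Vc := Subgroup.mem_subgroupOf.2 (H.mem_V.2 ⟨v, hv, rfl⟩)
  have hzC : zC = vC * uC := Subtype.ext (by show H.D.hom z = H.D.hom v * H.D.hom u; rw [← map_mul, ← hzvu])
  have hiffV : x ∈ H.Vc ↔ u = 1 := by
    rw [hnorm _ H.normal_Vc, hzC, Subgroup.mul_mem_cancel_left _ hvV]
    refine ⟨fun hm => ?_, fun e => ?_⟩
    · exact H.D.inj ((congrArg Subtype.val (H.Dc_inf_Vc h480 huD hm)).trans (map_one H.D.hom).symm)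
    · rw [show uC = 1 from Subtype.ext (by show H.D.hom u = 1; rw [e, map_one])]; exact Subgroup.one_mem _
  have hiffD : x ∈ H.Dc ↔ v = 1 := by
    rw [hnorm _ inferInstance, hzC, Subgroup.mul_mem_cancel_right _ huD]
    refine ⟨fun hm => ?_, fun e => ?_⟩
    · exact H.D.inj ((congrArg Subtype.val (H.Dc_inf_Vc h480 hm hvV)).trans (map_one H.D.hom).symm)
    · rw [show vC = 1 from Subtype.ext (by show H.D.hom v = 1; rw [e, map_one])]; exact Subgroup.one_mem _
  rw [hK, hiffV, hiffD, hzvu]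
  by_cases hu1 : u = 1
  · have hv1 : v ≠ 1 := fun e => hzne (by rw [hzvu, e, hu1, one_mul])
    have hR := (inV_spec v hv).2 hv1
    rw [hu1, mul_one]
    simp [isR] at hR
    simp [hR.2]
  · rw [inU_K v hv u huU hu1]
    tauto

end Hyp

end CfsgLib.AltEightRecog.Nine
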