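import Cfsg.Agent.Lib.Invol.KleinSylow
import Cfsg.Agent.Lib.InvChar.ElemFour
import Mathlib.GroupTheory.Transfer

/-!
Groups with a self-centralising four-group as a Sylow 2-subgroup.
-/

set_option autoImplicit false
set_option linter.style.haveILetI false

namespace CfsgLib.AltEightRecog.Nine

variable {X : Type*} [Group X] [Finite X]

/-- A fixed-point-free involution inverts. -/
theorem inverts_of_fpf (W : Subgroup X) {k : X} (hk : k * k = 1) (hW : ∀ w ∈ W, k * w * k⁻¹ ∈ W)
    (hfix : ∀ w ∈ W, k * w * k⁻¹ = w → w = 1) : ∀ w ∈ W, k * w * k⁻¹ = w⁻¹ := by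
  intro w hw
  have hki : k⁻¹ = k := inv_eq_of_mul_eq_one_right hk
  let f : W → W := fun v => ⟨(v : X)⁻¹ * (k * v * k⁻¹), W.mul_mem (W.inv_mem v.2) (hW v v.2)⟩
  have hf : Function.Injective f := by
    intro a b h
    have h1 : (a : X)⁻¹ * (k * a * k⁻¹) = (b : X)⁻¹ * (k * b * k⁻¹) := congrArg Subtype.val h
    have h2 : (b : X) * (a : X)⁻¹ = k * ((b : X) * (a : X)⁻¹) * k⁻¹ := by
      calc (b : X) * (a : X)⁻¹ = b * ((a : X)⁻¹ * (k * a * k⁻¹)) * (k * a * k⁻¹)⁻¹ := by group
        _ = b * ((b : X)⁻¹ * (k * b * k⁻¹)) * (k * a * k⁻¹)⁻¹ := by rw [h1]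
        _ = _ := by group
    have h3 := hfix _ (W.mul_mem b.2 (W.inv_mem a.2)) h2.symm
    exact Subtype.ext (mul_inv_eq_one.1 h3).symm
  obtain ⟨v, hv⟩ := Finite.injective_iff_surjective.1 hf ⟨w, hw⟩
  have h : (v : X)⁻¹ * (k * v * k⁻¹) = w := congrArg Subtype.val hv
  rw [← h]
  calc k * ((v : X)⁻¹ * (k * v * k⁻¹)) * k⁻¹ = (k * (v : X)⁻¹ * k) * v * (k * k)⁻¹ := by group
    _ = (k * (v : X)⁻¹ * k) * v := by rw [hk, inv_one, mul_one]
    _ = (k * (v : X)⁻¹ * k⁻¹) * v := by rw [hki]
    _ = _ := by group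

/-- A four-group of fixed-point-free automorphisms forces triviality. -/
theorem eq_bot_of_four (W : Subgroup X) {k l : X} (hk : k * k = 1) (hl : l * l = 1)
    (hWk : ∀ w ∈ W, k * w * k⁻¹ ∈ W) (hWl : ∀ w ∈ W, l * w * l⁻¹ ∈ W)
    (h1 : ∀ w ∈ W, k * w * k⁻¹ = w → w = 1) (h2 : ∀ w ∈ W, l * w * l⁻¹ = w → w = 1)
    (h3 : ∀ w ∈ W, k * l * w * (k * l)⁻¹ = w → w = 1) : W = ⊥ := by
  rw [Subgroup.eq_bot_iff_forall]
  intro w hw
  refine h3 w hw ?_
  calc k * l * w * (k * l)⁻¹ = k * (l * w * l⁻¹) * k⁻¹ := by group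
    _ = k * w⁻¹ * k⁻¹ := by rw [inverts_of_fpf W hl hWl h2 w hw]
    _ = w := by rw [inverts_of_fpf W hk hWk h1 _ (W.inv_mem hw), inv_inv]

omit [Finite X] in
theorem orderOf_two_of {b : X} (h : b * b = 1) (h1 : b ≠ 1) : orderOf b = 2 :=
  orderOf_eq_prime (by rw [pow_two]; exact h) h1

/-- A group with a self-centralising four-group as Sylow subgroup has order 4, 12 or 60, and outside
order 4 its involutions form one class. -/
theorem card_four_sylow (B : Subgroup X) (hB4 : Nat.card B = 4) (hsq : ∀ b ∈ B, b * b = 1)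
    (h8 : ¬ 8 ∣ Nat.card X) (hC : ∀ b ∈ B, b ≠ 1 → Subgroup.centralizer ({b} : Set X) = B) :
    Nat.card X = 4 ∨ ((Nat.card X = 12 ∨ Nat.card X = 60) ∧
      ∀ u v : X, orderOf u = 2 → orderOf v = 2 → IsConj u v) := by
  haveI : Fact (Nat.Prime 2) := ⟨Nat.prime_two⟩
  obtain ⟨P, hBP⟩ := (IsPGroup.of_card (p := 2) (n := 2) (G := B) (by rw [hB4]; norm_num)).exists_le_sylow
  have hPB : (P : Subgroup X) = B := by
    refine (Subgroup.eq_of_le_of_card_ge hBP ?_).symm
    obtain ⟨n, hn⟩ := IsPGroup.iff_card.1 P.2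
    have hd : Nat.card (P : Subgroup X) ∣ Nat.card X := Subgroup.card_subgroup_dvd_card _
    rw [hn] at hd ⊢
    rw [hB4]
    rcases Nat.lt_or_ge n 3 with h | h
    · calc 2 ^ n ≤ 2 ^ 2 := Nat.pow_le_pow_right (by norm_num) (by omega)
        _ = 4 := by norm_num
    · exact absurd ((pow_dvd_pow 2 h).trans hd) h8
  have hK : IsKleinFour (P : Subgroup X) := by
    rw [hPB]
    haveI : Nontrivial B := Finite.one_lt_card_iff_nontrivial.1 (by omega)
    exact ⟨hB4, (Monoid.exponent_eq_prime_iff Nat.prime_two).mpr fun g hg =>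
      orderOf_eq_prime (Subtype.ext (by rw [SubgroupClass.coe_pow, pow_two]; exact hsq g.1 g.2)) hg⟩
  haveI hBne : Nontrivial B := Finite.one_lt_card_iff_nontrivial.1 (by omega)
  obtain ⟨⟨b, hb⟩, hbne⟩ := exists_ne (1 : B)
  have hb1 : b ≠ 1 := fun h => hbne (Subtype.ext h)
  have hbo := orderOf_two_of (hsq b hb) hb1
  -- every centraliser of an involution is a conjugate of `B`
  have hconjB : ∀ u : X, orderOf u = 2 → ∃ g : X, g * u * g⁻¹ ∈ B := by
    intro u hu
    obtain ⟨Q, hQ⟩ := (IsPGroup.of_card (G := Subgroup.zpowers u) (p := 2) (n := 1)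
      (by rw [Nat.card_zpowers, hu, pow_one])).exists_le_sylow
    obtain ⟨g, hg⟩ := MulAction.exists_smul_eq X Q P
    refine ⟨g, ?_⟩
    rw [← hPB, ← hg]
    exact (Subgroup.smul_mem_pointwise_smul_iff (a := MulAut.conj g) (x := u)
      (S := (Q : Subgroup X))).2 (hQ (Subgroup.mem_zpowers _))
  rcases CfsgLib.Invol.klein_sylow_dichotomy P hK with ⟨hN, -⟩ | ⟨-, h1⟩
  · left
    set W := (MonoidHom.transferSylow P hN).ker with hWdef
    have hWn : W.Normal := inferInstance
    have hcompl := MonoidHom.ker_transferSylow_isComplement' P hN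
    have hdisj : ∀ w ∈ W, w ∈ B → w = 1 := fun w hw hwB => by
      have := Subgroup.disjoint_def.1 hcompl.disjoint hw (hPB.symm ▸ hwB)
      exact this
    have hfix : ∀ d ∈ B, d ≠ 1 → ∀ w ∈ W, d * w * d⁻¹ = w → w = 1 := fun d hd hd1 w hw he => by
      refine hdisj w hw ?_
      rw [← hC d hd hd1, Subgroup.mem_centralizer_singleton_iff]
      exact (mul_inv_eq_iff_eq_mul.1 he).symm
    obtain ⟨l, hl, hl1, hlb⟩ : ∃ l ∈ B, l ≠ 1 ∧ l ≠ b := by
      by_contra hcon
      push Not at hcon
      have hle : Nat.card B ≤ Nat.card ({1, b} : Set X) :=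
        Nat.card_le_card_of_injective (fun x : B => (⟨(x : X), by
          by_cases h : (x : X) = 1
          · exact Or.inl h
          · exact Or.inr (hcon x x.2 h)⟩ : ({1, b} : Set X)))
          (fun a c h => Subtype.ext (congrArg (fun z : ({1, b} : Set X) => (z : X)) h))
      rw [Nat.card_coe_set_eq, Set.ncard_pair (Ne.symm hb1), hB4] at hle
      omega
    have hW := eq_bot_of_four W (hsq b hb) (hsq l hl) (fun w hw => hWn.conj_mem w hw b)
      (fun w hw => hWn.conj_mem w hw l) (hfix b hb hb1) (hfix l hl hl1)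
      (hfix _ (B.mul_mem hb hl) (fun e => hlb
        ((mul_eq_one_iff_eq_inv.1 e).trans (inv_eq_of_mul_eq_one_right (hsq l hl))).symm))
    have := hcompl.card_mul_card
    rw [← hWdef, hW, Subgroup.card_bot, one_mul] at this
    rw [← this, hPB, hB4]
  · right
    have hall : ∀ u v : X, orderOf u = 2 → orderOf v = 2 → IsConj u v := by
      intro u v hu hv
      rw [Nat.card_eq_one_iff_unique] at h1
      exact ConjClasses.mk_eq_mk_iff_isConj.1 (congrArg Subtype.val
        (h1.1.elim ⟨_, u, hu, rfl⟩ ⟨_, v, hv, rfl⟩))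
    refine ⟨?_, hall⟩
    by_cases hn : B.Normal
    · left
      have hcls : Nat.card {u : X // IsConj b u} ≤ 3 := by
        have : Nat.card {u : X // IsConj b u} ≤ Nat.card {u : B // u ≠ 1} := by
          refine Nat.card_le_card_of_injective (fun u => (⟨⟨u.1, ?_⟩, ?_⟩ : {u : B // u ≠ 1}))
            (fun a c h => Subtype.ext (congrArg (fun z : {u : B // u ≠ 1} => ((z : B) : X)) h))
          · obtain ⟨g, hg⟩ := isConj_iff.1 u.2
            exact hg ▸ hn.conj_mem b hb g
          · intro h
            have h2 : (u : X) = 1 := congrArg Subtype.val h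
            exact hb1 (isConj_one_left.1 (h2 ▸ u.2))
        cases nonempty_fintype X
        classical
        rw [Nat.card_eq_fintype_card (α := {u : B // u ≠ 1}), Fintype.card_subtype_compl,
          Fintype.card_subtype_eq, ← Nat.card_eq_fintype_card, hB4] at this
        omega
      have hX : 4 * Nat.card {u : X // IsConj b u} = Nat.card X := by
        rw [CfsgLib.Invol.card_isConj_eq_index, ← hB4, hC b hb hb1, Subgroup.card_mul_index]
      have hodd : ¬ 2 ∣ Nat.card {u : X // IsConj b u} := fun h => h8 (by omega)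
      have hpos : 4 < Nat.card X ∨ Nat.card X = 4 := by omega
      rcases hpos with h | h
      · omega
      · exfalso
        -- an abelian group has three classes of involutions
        have hBtop : B = ⊤ := Subgroup.eq_top_of_card_eq B (by rw [hB4, h])
        obtain ⟨l, hl⟩ : ∃ l : X, l ≠ 1 ∧ l ≠ b := by
          by_contra hcon
          push Not at hcon
          cases nonempty_fintype X
          classical
          have : (Finset.univ : Finset X) ⊆ {1, b} := fun x _ => by
            by_cases hx : x = 1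
            · simp [hx]
            · simp [hcon x hx]
          have := Finset.card_le_card this
          rw [Finset.card_univ, ← Nat.card_eq_fintype_card, h, Finset.card_pair (Ne.symm hb1)] at this
          omega
        obtain ⟨g, hg⟩ := isConj_iff.1 (hall b l hbo
          (orderOf_two_of (hsq l (hBtop ▸ Subgroup.mem_top l)) hl.1))
        have hgB : g ∈ Subgroup.centralizer ({b} : Set X) := by
          rw [hC b hb hb1, hBtop]; exact Subgroup.mem_top g
        rw [Subgroup.mem_centralizer_singleton_iff] at hgB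
        rw [hgB, mul_inv_cancel_right] at hg
        exact hl.2 hg.symm
    · right
      refine CfsgLib.InvChar.ElemFour.card_eq_sixty b hbo (fun u hu => hall b u hbo hu) ?_ (by
        rw [hC b hb hb1]; exact hn)
      intro u hu
      obtain ⟨g, hg⟩ := hconjB u hu
      have hd1 : g * u * g⁻¹ ≠ 1 := fun h => CfsgLib.Invol.ne_one_of_invol hu (conj_eq_one_iff.1 h)
      have hCu : ∀ c, c ∈ Subgroup.centralizer ({u} : Set X) ↔ g * c * g⁻¹ ∈ B := by
        intro c
        rw [← hC _ hg hd1, Subgroup.mem_centralizer_singleton_iff, Subgroup.mem_centralizer_singleton_iff,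
          show g * c * g⁻¹ * (g * u * g⁻¹) = g * (c * u) * g⁻¹ by group,
          show g * u * g⁻¹ * (g * c * g⁻¹) = g * (u * c) * g⁻¹ by group]
        exact ⟨fun h => by rw [h], fun h => mul_left_cancel (mul_right_cancel h)⟩
      refine ⟨?_, fun c hc => ?_⟩
      · rw [← hB4]
        refine Nat.card_congr
          { toFun := fun c => ⟨g * c * g⁻¹, (hCu c).1 c.2⟩
            invFun := fun d => ⟨g⁻¹ * d * g, (hCu _).2 (by
              rw [show g * (g⁻¹ * (d : X) * g) * g⁻¹ = d by group]; exact d.2)⟩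
            left_inv := fun c => Subtype.ext (by group)
            right_inv := fun d => Subtype.ext (by group) }
      · have h := hsq _ ((hCu c).1 hc)
        rw [show g * c * g⁻¹ * (g * c * g⁻¹) = g * (c * c) * g⁻¹ by group, ← pow_two] at h
        exact conj_eq_one_iff.1 h

end CfsgLib.AltEightRecog.Nine
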