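import Cfsg.Agent.Lib.AltEightRecog.NineModel
import Cfsg.Agent.Lib.AltEightRecog.NineAlt

/-!
The degree nine case: classes of involutions, Sylow subgroups and the centraliser of the second class.
-/

set_option autoImplicit false
set_option linter.style.haveILetI false

namespace CfsgLib.AltEightRecog.Nine

/-- The data: the embedded model, its fusion, and a subgroup of the shape of the alternating group of degree 8. -/
structure Hyp (G : Type*) [Group G] where
  /-- the embedded model -/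
  D : AltCent G
  K_iff : ∀ x : CA, IsConj (D.hom az) (D.hom x) ↔ isK x = true
  /-- the alternating subgroup -/
  G0 : Subgroup G
  /-- its identification -/
  e : G0 ≃* alternatingGroup (Fin 8)
  range_le : D.hom.range ≤ G0

variable {G : Type*} [Group G]

namespace Hyp

variable (H : Hyp G)

/-- The central involution. -/
abbrev s : G := H.D.hom az

/-- An involution of the other class. -/
abbrev r : G := H.D.hom ar

/-- Its partner. -/
abbrev r' : G := H.D.hom ar'

theorem mem_range {g : G} (h : g * H.s = H.s * g) : ∃ y, H.D.hom y = g := by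
  have : g ∈ H.D.hom.range := by
    rw [H.D.range_eq, Subgroup.mem_centralizer_singleton_iff]; exact h
  exact this

theorem hom_comm (x : CA) : H.D.hom x * H.s = H.s * H.D.hom x := by
  have : H.D.hom x ∈ Subgroup.centralizer ({H.D.hom az} : Set G) := H.D.range_eq ▸ ⟨x, rfl⟩
  exact Subgroup.mem_centralizer_singleton_iff.1 this

theorem hom_comm_iff {x y : CA} : H.D.hom x * H.D.hom y = H.D.hom y * H.D.hom x ↔ x * y = y * x := by
  rw [← map_mul, ← map_mul, H.D.inj.eq_iff]

theorem orderOf_hom {x : CA} (h : x * x = 1) (h1 : x ≠ 1) : orderOf (H.D.hom x) = 2 := by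
  rw [orderOf_injective _ H.D.inj]
  exact orderOf_eq_prime (by rw [pow_two]; exact h) h1

theorem orderOf_s : orderOf H.s = 2 := H.orderOf_hom basic.2.2.2.2.2.2.2.2.2.2.1 basic.2.2.2.2.2.2.2.2.2.2.2.1

theorem orderOf_r : orderOf H.r = 2 := H.orderOf_hom basic.1 basic.2.1

theorem not_conj_s_r : ¬ IsConj H.s H.r := fun h => by
  have := (H.K_iff ar).1 h
  rw [basic.2.2.2.2.2.2.2.1] at this
  exact absurd this (by decide)

/-- The model Sylow subgroup inside `G`. -/
def sylG : Subgroup G :=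
  (({ carrier := {x | inSyl x = true}
      one_mem' := by decide +kernel
      mul_mem' := fun {a b} ha hb => inSyl_mul a b ha hb
      inv_mem' := fun {a} ha => inSyl_inv a ha } : Subgroup CA)).map H.D.hom

theorem mem_sylG {g : G} : g ∈ H.sylG ↔ ∃ x, inSyl x = true ∧ H.D.hom x = g := Iff.rfl

theorem card_sylG : Nat.card H.sylG = 64 := by
  rw [← inSyl_card, ← Nat.card_eq_fintype_card]
  refine (Nat.card_eq_of_bijective (fun x : {x : CA // inSyl x = true} =>
    (⟨H.D.hom x, x, x.2, rfl⟩ : H.sylG)) ⟨fun a b h => Subtype.ext (H.D.inj (congrArg Subtype.val h)), ?_⟩).symm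
  rintro ⟨_, x, hx, rfl⟩
  exact ⟨⟨x, hx⟩, rfl⟩

theorem sylG_center {x : CA} (hx : inSyl x = true)
    (h : ∀ q ∈ H.sylG, H.D.hom x * q = q * H.D.hom x) : x = 1 ∨ x = az :=
  inSyl_center x hx fun y hy => H.hom_comm_iff.1 (h _ ⟨y, hy, rfl⟩)

theorem s_mem_sylG : H.s ∈ H.sylG := ⟨az, (by decide +kernel : inSyl az = true), rfl⟩

variable [Finite G]

/-- The model Sylow subgroup is a Sylow subgroup of `G`. -/
theorem exists_sylow : ∃ P : Sylow 2 G, (P : Subgroup G) = H.sylG := by
  haveI : Fact (Nat.Prime 2) := ⟨Nat.prime_two⟩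
  obtain ⟨P, hP⟩ := (IsPGroup.of_card (p := 2) (n := 6) (G := H.sylG)
    (by rw [H.card_sylG]; norm_num)).exists_le_sylow
  refine ⟨P, (le_antisymm hP ?_).symm⟩
  by_contra hcon
  obtain ⟨n, hnP, hn, hnorm⟩ := exists_normalizing (P : Subgroup G) H.sylG P.2 hP
    fun e => hcon (e ▸ le_rfl)
  obtain ⟨x, hx, hxe⟩ := H.mem_sylG.1 (hnorm _ H.s_mem_sylG)
  have hc : ∀ q ∈ H.sylG, H.D.hom x * q = q * H.D.hom x := by
    intro q hq
    have hq' : n⁻¹ * q * n ∈ H.sylG := by
      let f : H.sylG → H.sylG := fun y => ⟨n * y * n⁻¹, hnorm y y.2⟩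
      have hf : Function.Injective f := fun a b e =>
        Subtype.ext (mul_left_cancel (mul_right_cancel (congrArg Subtype.val e)))
      obtain ⟨⟨y, hy⟩, he⟩ := Finite.injective_iff_surjective.1 hf ⟨q, hq⟩
      have he' : n * y * n⁻¹ = q := congrArg Subtype.val he
      rw [← he', show n⁻¹ * (n * y * n⁻¹) * n = y by group]
      exact hy
    obtain ⟨y, -, hye⟩ := H.mem_sylG.1 hq'
    have hs := H.hom_comm y
    rw [hye] at hs
    rw [hxe]
    calc n * H.s * n⁻¹ * q = n * (H.s * (n⁻¹ * q * n)) * n⁻¹ := by group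
      _ = n * (n⁻¹ * q * n * H.s) * n⁻¹ := by rw [hs]
      _ = _ := by group
  rcases H.sylG_center hx hc with rfl | rfl
  · rw [map_one] at hxe
    exact CfsgLib.Invol.ne_one_of_invol H.orderOf_s (conj_eq_one_iff.1 hxe.symm)
  · obtain ⟨y, hy⟩ := H.mem_range (g := n) (mul_inv_eq_iff_eq_mul.1 hxe.symm)
    refine hn (H.mem_sylG.2 ⟨y, inSyl_self y fun z hz => ?_, hy⟩)
    obtain ⟨w, hw, hwe⟩ := H.mem_sylG.1 (hnorm _ ⟨z, hz, rfl⟩)
    rw [← hy, ← map_inv, ← map_mul, ← map_mul, H.D.inj.eq_iff] at hwe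
    exact hwe ▸ hw

include H in
theorem exists_card : ∃ m : ℕ, Nat.card G = 64 * m ∧ Odd m := by
  haveI : Fact (Nat.Prime 2) := ⟨Nat.prime_two⟩
  obtain ⟨P, hP⟩ := H.exists_sylow
  refine ⟨(P : Subgroup G).index, ?_, ?_⟩
  · rw [← Subgroup.card_mul_index (P : Subgroup G), hP, H.card_sylG]
  · exact Nat.odd_iff.2 (by have := P.not_dvd_index; omega)

/-- Every involution is conjugate into the model Sylow subgroup. -/
theorem conj_into_sylG {g : G} (hg : orderOf g = 2) :
    ∃ h : G, ∃ x : CA, inSyl x = true ∧ H.D.hom x = h * g * h⁻¹ := by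
  haveI : Fact (Nat.Prime 2) := ⟨Nat.prime_two⟩
  obtain ⟨P, hP⟩ := H.exists_sylow
  obtain ⟨Q, hQ⟩ := (IsPGroup.of_card (G := Subgroup.zpowers g) (p := 2) (n := 1)
    (by rw [Nat.card_zpowers, hg, pow_one])).exists_le_sylow
  obtain ⟨h, hh⟩ := MulAction.exists_smul_eq G Q P
  refine ⟨h, H.mem_sylG.1 ?_⟩
  rw [← hP, ← hh]
  exact (Subgroup.smul_mem_pointwise_smul_iff (a := MulAut.conj h) (x := g)
    (S := (Q : Subgroup G))).2 (hQ (Subgroup.mem_zpowers _))

omit [Finite G] in
theorem hom_mem (x : CA) : H.D.hom x ∈ H.G0 := H.range_le ⟨x, rfl⟩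

omit [Finite G] in
theorem card_G0 : Nat.card H.G0 = 20160 := by
  rw [Nat.card_congr H.e.toEquiv, nat_card_alternatingGroup, Nat.card_fin]; rfl

omit [Finite G] in
/-- Centralisers in the alternating subgroup through the identification. -/
theorem card_cent_G0 (g : G) (hg : g ∈ H.G0) :
    Nat.card (Subgroup.centralizer ({g} : Set G) ⊓ H.G0 : Subgroup G) =
      Nat.card (Subgroup.centralizer ({H.e ⟨g, hg⟩} : Set (alternatingGroup (Fin 8)))) := by
  refine Nat.card_congr
    { toFun := fun c => ⟨H.e ⟨c, c.2.2⟩, Subgroup.mem_centralizer_singleton_iff.2 (by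
        rw [← map_mul, ← map_mul]
        exact congrArg _ (Subtype.ext (Subgroup.mem_centralizer_singleton_iff.1 c.2.1)))⟩
      invFun := fun d => ⟨H.e.symm d, Subgroup.mem_centralizer_singleton_iff.2 ?_, (H.e.symm d).2⟩
      left_inv := fun c => Subtype.ext (by simp)
      right_inv := fun d => Subtype.ext (by simp) }
  have h := congrArg H.e.symm (Subgroup.mem_centralizer_singleton_iff.1 d.2)
  rw [map_mul, map_mul, H.e.symm_apply_apply] at h
  exact congrArg Subtype.val h

omit [Finite G] in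
theorem card_range : Nat.card (Subgroup.centralizer ({H.s} : Set G) ⊓ H.G0 : Subgroup G) = 192 := by
  rw [inf_eq_left.2 (H.D.range_eq ▸ H.range_le), ← H.D.range_eq, ← CA.card]
  exact (Nat.card_congr (MonoidHom.ofInjective H.D.inj).toEquiv).symm

omit [Finite G] in
/-- The cycle types of the two involutions. -/
theorem types : ((H.e ⟨H.s, H.hom_mem az⟩ : alternatingGroup (Fin 8)) : Equiv.Perm (Fin 8)).cycleType =
      Multiset.replicate 4 2 ∧
    ((H.e ⟨H.r, H.hom_mem ar⟩ : alternatingGroup (Fin 8)) : Equiv.Perm (Fin 8)).cycleType =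
      Multiset.replicate 2 2 := by
  have ho : ∀ (g : G) (hg : g ∈ H.G0), orderOf g = 2 → orderOf (H.e ⟨g, hg⟩) = 2 := fun g hg h => by
    rw [MulEquiv.orderOf_eq, Subgroup.orderOf_mk, h]
  have hs := ho _ (H.hom_mem az) H.orderOf_s
  have hr := ho _ (H.hom_mem ar) H.orderOf_r
  have hs4 := (alt_cycleType _ hs).resolve_left fun h => by
    have := (alt_centralizer _ hs).1 h
    rw [← H.card_cent_G0, H.card_range] at this
    omega
  refine ⟨hs4, (alt_cycleType _ hr).resolve_right fun h => H.not_conj_s_r ?_⟩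
  have h1 := (H.G0.subtype.comp H.e.symm.toMonoidHom).map_isConj (alt_isConj hs (hs4.trans h.symm))
  simpa using h1

omit [Finite G] in
/-- An involution of the alternating subgroup is conjugate in it to one of the two representatives. -/
theorem G0_classes {g : G} (hg : g ∈ H.G0) (h2 : orderOf g = 2) :
    ∃ h ∈ H.G0, h * g * h⁻¹ = H.s ∨ h * g * h⁻¹ = H.r := by
  have ho : orderOf (H.e ⟨g, hg⟩) = 2 := by rw [MulEquiv.orderOf_eq, Subgroup.orderOf_mk, h2]
  have key : ∀ t : G, ∀ ht : t ∈ H.G0,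
      ((H.e ⟨g, hg⟩ : alternatingGroup (Fin 8)) : Equiv.Perm (Fin 8)).cycleType =
        ((H.e ⟨t, ht⟩ : alternatingGroup (Fin 8)) : Equiv.Perm (Fin 8)).cycleType →
      ∃ h ∈ H.G0, h * g * h⁻¹ = t := by
    intro t ht h
    obtain ⟨a, ha⟩ := isConj_iff.1 (alt_isConj ho h)
    refine ⟨H.e.symm a, (H.e.symm a).2, ?_⟩
    have h1 := congrArg (fun z => ((H.e.symm z : H.G0) : G)) ha
    simpa using h1
  rcases alt_cycleType _ ho with h | h
  · obtain ⟨a, ha, he⟩ := key H.r (H.hom_mem ar) (h.trans H.types.2.symm)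
    exact ⟨a, ha, Or.inr he⟩
  · obtain ⟨a, ha, he⟩ := key H.s (H.hom_mem az) (h.trans H.types.1.symm)
    exact ⟨a, ha, Or.inl he⟩

omit [Finite G] in
theorem card_cent_r_G0 : Nat.card (Subgroup.centralizer ({H.r} : Set G) ⊓ H.G0 : Subgroup G) = 96 := by
  rw [H.card_cent_G0 _ (H.hom_mem ar)]
  exact (alt_centralizer _ (by rw [MulEquiv.orderOf_eq, Subgroup.orderOf_mk, H.orderOf_r])).1 H.types.2

theorem dichotomy {g : G} (hg : orderOf g = 2) : IsConj H.s g ∨ IsConj H.r g := by
  obtain ⟨h, x, -, hx⟩ := H.conj_into_sylG hg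
  obtain ⟨k, -, hk⟩ := H.G0_classes (g := h * g * h⁻¹) (hx ▸ H.hom_mem x)
    (by rw [CfsgLib.Invol.orderOf_conj, hg])
  have hgc : IsConj (h * g * h⁻¹) g := (isConj_iff.2 ⟨h, rfl⟩ : IsConj g (h * g * h⁻¹)).symm
  rcases hk with hk | hk
  · exact Or.inl ((isConj_iff.2 ⟨k, hk⟩ : IsConj (h * g * h⁻¹) H.s).symm.trans hgc)
  · exact Or.inr ((isConj_iff.2 ⟨k, hk⟩ : IsConj (h * g * h⁻¹) H.r).symm.trans hgc)

theorem isR_iff (x : CA) : IsConj H.r (H.D.hom x) ↔ isR x = true := by
  constructor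
  · intro h
    have hx := CfsgLib.Invol.orderOf_eq_two_of_isConj H.orderOf_r h
    rw [orderOf_injective _ H.D.inj] at hx
    have h1 : x * x = 1 := CfsgLib.Invol.mul_self_eq_one hx
    have h2 : x ≠ 1 := CfsgLib.Invol.ne_one_of_invol hx
    have h3 : isK x ≠ true := fun hk => H.not_conj_s_r (((H.K_iff x).2 hk).trans h.symm)
    simp [isR, h1, h2, h3]
  · intro h
    simp only [isR, Bool.and_eq_true, beq_iff_eq, bne_iff_ne, Bool.not_eq_true'] at h
    rcases H.dichotomy (H.orderOf_hom h.1.1 h.1.2) with hc | hc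
    · rw [(H.K_iff x).1 hc] at h
      exact absurd h.2 (by decide)
    · exact hc

omit [Finite G] in
/-- A centraliser of model elements, as a cardinality. -/
theorem card_model (P : CA → Bool) (X : Subgroup G) (h1 : ∀ x, P x = true → H.D.hom x ∈ X)
    (h2 : ∀ g ∈ X, ∃ x, P x = true ∧ H.D.hom x = g) :
    Nat.card X = Fintype.card {x : CA // P x = true} := by
  rw [← Nat.card_eq_fintype_card]
  refine (Nat.card_eq_of_bijective (fun x : {x : CA // P x = true} => (⟨H.D.hom x, h1 x x.2⟩ : X))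
    ⟨fun a b h => Subtype.ext (H.D.inj (congrArg Subtype.val h)), fun g => ?_⟩).symm
  obtain ⟨x, hx, he⟩ := h2 g g.2
  exact ⟨⟨x, hx⟩, Subtype.ext he⟩

/-- The Sylow order of the centraliser of `r`. -/
theorem not_sixtyfour_dvd : ¬ 64 ∣ Nat.card (Subgroup.centralizer ({H.r} : Set G)) := by
  haveI : Fact (Nat.Prime 2) := ⟨Nat.prime_two⟩
  intro hd
  obtain ⟨Q, hQ⟩ := Sylow.exists_subgroup_card_pow_prime (G := Subgroup.centralizer ({H.r} : Set G))
    2 (n := 6) (by norm_num; exact hd)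
  set Q' := Q.map (Subgroup.centralizer ({H.r} : Set G)).subtype with hQ'
  have hQc : Nat.card Q' = 64 := by
    rw [hQ', Nat.card_congr (Q.equivMapOfInjective _ (Subgroup.subtype_injective _)).symm.toEquiv, hQ]
    norm_num
  have hQle : Q' ≤ Subgroup.centralizer ({H.r} : Set G) := Subgroup.map_subtype_le _
  obtain ⟨P, hP⟩ := H.exists_sylow
  obtain ⟨P', hP'⟩ := (IsPGroup.of_card (p := 2) (n := 6) (G := Q') (by rw [hQc]; norm_num)).exists_le_sylow
  have hPQ : (P' : Subgroup G) = Q' := (Subgroup.eq_of_le_of_card_ge hP' (by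
    rw [hQc, P'.card_eq_multiplicity, ← P.card_eq_multiplicity, hP, H.card_sylG])).symm
  have hrm : H.r ∈ (P' : Subgroup G) := by
    have h1 : IsPGroup 2 ↥((P' : Subgroup G) ⊔ Subgroup.zpowers H.r) := by
      refine IsPGroup.to_sup_of_normal_right' P'.2 (IsPGroup.of_card (n := 1)
        (by rw [Nat.card_zpowers, H.orderOf_r, pow_one])) ?_
      rw [hPQ]
      intro g hg
      rw [Subgroup.mem_normalizer_iff]
      have hc := Subgroup.mem_centralizer_singleton_iff.1 (hQle hg)
      intro y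
      constructor
      · intro hy
        obtain ⟨k, rfl⟩ := Subgroup.mem_zpowers_iff.1 hy
        refine ⟨k, ?_⟩
        show H.r ^ k = g * H.r ^ k * g⁻¹
        rw [← conj_zpow, hc, mul_inv_cancel_right]
      · intro hy
        obtain ⟨k, hk⟩ := Subgroup.mem_zpowers_iff.1 hy
        refine ⟨k, ?_⟩
        show H.r ^ k = y
        have h3 : g⁻¹ * H.r * g = H.r := by rw [mul_assoc, ← hc, inv_mul_cancel_left]
        calc H.r ^ k = (g⁻¹ * H.r * g⁻¹⁻¹) ^ k := by rw [inv_inv, h3]
          _ = g⁻¹ * H.r ^ k * g⁻¹⁻¹ := conj_zpow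
          _ = y := by rw [hk]; group
    rw [← P'.3 h1 le_sup_left]
    exact Subgroup.mem_sup_right (Subgroup.mem_zpowers _)
  obtain ⟨h, hh⟩ := MulAction.exists_smul_eq G P' P
  have hmem : ∀ y, y ∈ (P' : Subgroup G) ↔ h * y * h⁻¹ ∈ H.sylG := fun y => by
    rw [← hP, ← hh]
    exact (Subgroup.smul_mem_pointwise_smul_iff (a := MulAut.conj h) (x := y) (S := (P' : Subgroup G))).symm
  obtain ⟨x, hx, hxe⟩ := H.mem_sylG.1 ((hmem _).1 hrm)
  rcases H.sylG_center hx (fun q hq => by
      have hq' : h⁻¹ * q * h ∈ Q' := hPQ ▸ (hmem _).2 (by rwa [show h * (h⁻¹ * q * h) * h⁻¹ = q by group])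
      have hc := Subgroup.mem_centralizer_singleton_iff.1 (hQle hq')
      rw [hxe]
      calc h * H.r * h⁻¹ * q = h * (H.r * (h⁻¹ * q * h)) * h⁻¹ := by group
        _ = h * (h⁻¹ * q * h * H.r) * h⁻¹ := by rw [hc]
        _ = _ := by group) with rfl | rfl
  · rw [map_one] at hxe
    exact CfsgLib.Invol.ne_one_of_invol H.orderOf_r (conj_eq_one_iff.1 hxe.symm)
  · exact H.not_conj_s_r ((isConj_iff.2 ⟨h, hxe.symm⟩ : IsConj H.r H.s).symm)

end Hyp

end CfsgLib.AltEightRecog.Nine
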