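import Cfsg.Agent.Lib.AltEightRecog.Model

/-!
Facts about the model needed for the degree nine case, checked by computation.
-/

set_option autoImplicit false
set_option maxRecDepth 100000
set_option maxHeartbeats 0
set_option Elab.async false

namespace CfsgLib.AltEightRecog.Nine

/-- The involutions of the model fused with the central one, as a bit mask. -/
def kMask : ℕ := 0xa140e7a000000100200000c0000082014000800004810080

/-- The involutions fused with the central one. -/
def isK (x : CA) : Bool := (kMask >>> (24 * (x.b : ℕ) + (x.p : ℕ))).testBit 0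

/-- The other involutions. -/
def isR (x : CA) : Bool := x * x == 1 && x != 1 && !isK x

/-- The second involution of the four-group through `ar`. -/
def ar' : CA := ⟨0, 21⟩

/-- An element exchanging `ar'` and `ar * ar'`. -/
def aw : CA := ⟨2, 0⟩

/-- The 2-Sylow subgroup of the model. -/
def inSyl (x : CA) : Bool :=
  x.p == 0 || x.p == 2 || x.p == 7 || x.p == 10 || x.p == 13 || x.p == 16 || x.p == 21 || x.p == 23

/-- The centraliser of `ar` in the model. -/
def inCr (x : CA) : Bool := x * ar == ar * x

/-- The common centraliser of `ar` and `ar'`. -/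
def inA (x : CA) : Bool := inCr x && x * ar' == ar' * x

/-- The four-group `⟨ar, ar'⟩`. -/
def inV (x : CA) : Bool := x == 1 || x == ar || x == ar' || x == ar * ar'

/-- The complementary four-group. -/
def inU (x : CA) : Bool := x == 1 || x == ⟨0, 2⟩ || x == ⟨6, 0⟩ || x == ⟨6, 2⟩

theorem isK_iff : ∀ x : CA, isK x = true ↔ ∃ g : CA, g * x * g⁻¹ = az ∨ g * x * g⁻¹ = ac ∨
    g * x * g⁻¹ = ad ∨ g * x * g⁻¹ = ak := by decide +kernel

theorem isK_invol : ∀ x : CA, isK x = true → x * x = 1 ∧ x ≠ 1 := by decide +kernel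

theorem basic : ar * ar = 1 ∧ ar ≠ 1 ∧ ar' * ar' = 1 ∧ ar' ≠ 1 ∧ ar * ar' = ar' * ar ∧ ar ≠ ar' ∧
    isK az = true ∧ isK ar = false ∧ isK ar' = false ∧ isK (ar * ar') = false ∧ az * az = 1 ∧ az ≠ 1 ∧
    aw * ar = ar * aw ∧ aw * ar' * aw⁻¹ = ar * ar' := by decide +kernel

theorem pow_twentyfour : ∀ x : CA, x ^ 24 = 1 := by decide +kernel

theorem inSyl_mul : ∀ x y : CA, inSyl x = true → inSyl y = true → inSyl (x * y) = true := by decide +kernel

theorem inSyl_inv : ∀ x : CA, inSyl x = true → inSyl x⁻¹ = true := by decide +kernel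

theorem inSyl_card : Fintype.card {x : CA // inSyl x = true} = 64 := by decide +kernel

theorem inSyl_center : ∀ x : CA, inSyl x = true → (∀ y : CA, inSyl y = true → x * y = y * x) → x = 1 ∨ x = az := by
  decide +kernel

theorem inSyl_self : ∀ y : CA, (∀ x : CA, inSyl x = true → inSyl (y * x * y⁻¹) = true) → inSyl y = true := by
  decide +kernel

theorem inCr_card : Fintype.card {x : CA // inCr x = true} = 32 := by decide +kernel

theorem inA_card : Fintype.card {x : CA // inA x = true} = 16 := by decide +kernel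

theorem inA_elem : ∀ x : CA, inA x = true → x * x = 1 ∧ ∀ y : CA, inA y = true → x * y = y * x := by
  decide +kernel

theorem inA_decomp : ∀ x : CA, inA x = true →
    ∃ d ∈ [(1 : CA), ⟨0, 2⟩, ⟨6, 0⟩, ⟨6, 2⟩], inV (x * d) = true ∧ inU d = true ∧ d * d = 1 := by decide +kernel

theorem inU_mul : ∀ x : CA, inU x = true → ∀ y : CA, inU y = true → inU (x * y) = true := by decide +kernel

theorem inU_K : ∀ v : CA, inV v = true → ∀ d : CA, inU d = true → d ≠ 1 → (isK (v * d) = true ↔ v ≠ 1) := by
  decide +kernel

theorem inV_inU : ∀ x : CA, inV x = true → inU x = true → x = 1 := by decide +kernel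

theorem inU_inA : ∀ x : CA, inU x = true → inA x = true ∧ (x ≠ 1 → isR x = true) := by decide +kernel

theorem inV_spec : ∀ x : CA, inV x = true → inA x = true ∧ (x ≠ 1 → isR x = true) := by decide +kernel

theorem inV_central : ∀ x : CA, inA x = true → ∀ v : CA, inV v = true → x * v = v * x := by decide +kernel

/-- The partners of `ar`: either in the four-group, or the common centraliser is small. -/
theorem partner : ∀ x : CA, x * ar = ar * x → isR x = true → isR (ar * x) = true →
    x = ar' ∨ x = ar * ar' ∨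
    ((Fintype.card {y : CA // (y * ar == ar * y && y * x == x * y) = true} = 8) ∧
      ∀ y : CA, y * ar = ar * y → y * x = x * y → isK y = true → y = az) := by decide +kernel

theorem cent_R : ∀ y : CA, isR y = true →
    Fintype.card {x : CA // (x * y == y * x) = true} = 16 ∨ Fintype.card {x : CA // (x * y == y * x) = true} = 32 := by
  decide +kernel

theorem cent_R_pow : ∀ y : CA, isR y = true → ∀ x : CA, x * y = y * x → x ^ 8 = 1 := by decide +kernel

theorem cent_RR : ∀ y z : CA, isR y = true → isR z = true → y ≠ z → y * z = z * y → isR (y * z) = true →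
    Fintype.card {x : CA // (x * y == y * x && x * z == z * x) = true} ≤ 16 := by decide +kernel

theorem outer_facts : ∀ x : CA, inCr x = true → inA x = false →
    ((x * x = 1 → isR x = true) ∧ x * ar' * x⁻¹ = ar * ar' ∧
      ∃ y : CA, inCr y = true ∧ inV (x * y * x⁻¹ * y⁻¹) = false) := by decide +kernel

theorem four_K : ∃ k l : CA, inA k = true ∧ inA l = true ∧ isK k = true ∧ isK l = true ∧ isK (k * l) = true :=
  ⟨az, ⟨0, 23⟩, by decide +kernel⟩

theorem zpowers_az : ∀ x : CA, (∃ n : Fin 24, x ^ (n : ℕ) = az) ↔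
    (x ^ 1 = az ∨ x ^ 2 = az ∨ x ^ 3 = az ∨ x ^ 4 = az ∨ x ^ 6 = az ∨ x ^ 12 = az) := by decide +kernel

theorem count_az : Fintype.card {p : CA × CA // (isK p.1 && isR p.2 &&
    ((p.1 * p.2) ^ 1 == az || (p.1 * p.2) ^ 2 == az || (p.1 * p.2) ^ 3 == az || (p.1 * p.2) ^ 4 == az ||
      (p.1 * p.2) ^ 6 == az || (p.1 * p.2) ^ 12 == az)) = true} = 156 := by decide +kernel

end CfsgLib.AltEightRecog.Nine
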