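import Cfsg.Agent.Lib.AltEightRecog.NineHyp
import Cfsg.Agent.Lib.AltEightRecog.NineFour
import Cfsg.Agent.Lib.Invol.GlaubermanZStar

/-!
The degree nine case: the normal four-group of the centraliser and the quotient by it.
-/

set_option autoImplicit false
set_option linter.style.haveILetI false

namespace CfsgLib.AltEightRecog.Nine

variable {G : Type*} [Group G]

theorem eq_or_eq_of_mem_zpowers {a x : G} (ha : a * a = 1) (h : x ∈ Subgroup.zpowers a) : x = 1 ∨ x = a := by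
  obtain ⟨k, rfl⟩ := Subgroup.mem_zpowers_iff.1 h
  rcases Int.even_or_odd k with ⟨j, rfl⟩ | ⟨j, rfl⟩
  · left; rw [← two_mul, zpow_mul, zpow_two, ha, one_zpow]
  · right; rw [zpow_add, zpow_mul, zpow_two, ha, one_zpow, one_mul, zpow_one]

theorem mem_cent_iff {a g : G} : g ∈ Subgroup.centralizer ({a} : Set G) ↔ g * a = a * g :=
  Subgroup.mem_centralizer_singleton_iff

theorem comm_conj {a b : G} (h : a * b = b * a) (g : G) :
    g * a * g⁻¹ * (g * b * g⁻¹) = g * b * g⁻¹ * (g * a * g⁻¹) := by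
  calc g * a * g⁻¹ * (g * b * g⁻¹) = g * (a * b) * g⁻¹ := by group
    _ = g * (b * a) * g⁻¹ := by rw [h]
    _ = _ := by group

namespace Hyp

variable (H : Hyp G) [Finite G]

omit [Finite G] in
theorem r_sq : H.r * H.r = 1 := by rw [← map_mul, basic.1, map_one]

omit [Finite G] in
theorem r'_sq : H.r' * H.r' = 1 := by rw [← map_mul, basic.2.2.1, map_one]

omit [Finite G] in
theorem r_comm_r' : H.r * H.r' = H.r' * H.r := H.hom_comm_iff.2 basic.2.2.2.2.1

theorem conj_r_r' : IsConj H.r H.r' := (H.isR_iff ar').2 (by decide +kernel)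

theorem conj_r_rr' : IsConj H.r (H.r * H.r') := by
  rw [← map_mul]; exact (H.isR_iff _).2 (by decide +kernel)

/-- The common centraliser of `r` and an element fused with `s` is a 2-group. -/
theorem pow_eight {k g : G} (hk : IsConj H.s k) (hkr : k * H.r = H.r * k) (hgr : g * H.r = H.r * g)
    (hgk : g * k = k * g) : g ^ 8 = 1 := by
  obtain ⟨h, hh⟩ := isConj_iff.1 hk.symm
  obtain ⟨y, hy⟩ := H.mem_range (g := h * H.r * h⁻¹) (hh ▸ comm_conj hkr.symm h)
  obtain ⟨x, hx⟩ := H.mem_range (g := h * g * h⁻¹) (hh ▸ comm_conj hgk h)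
  have hR : isR y = true := (H.isR_iff y).1 (isConj_iff.2 ⟨h, hy.symm⟩)
  have hxy : x * y = y * x := H.hom_comm_iff.1 (by rw [hx, hy]; exact comm_conj hgr h)
  have h8 := congrArg H.D.hom (cent_R_pow y hR x hxy)
  rw [map_pow, hx, map_one, conj_pow] at h8
  exact conj_eq_one_iff.1 h8

/-- The common centraliser of a commuting triple. -/
theorem triple_le {y z k : G} (hy : IsConj H.r y) (hz : IsConj H.r z) (hyz : y ≠ z) (hc : y * z = z * y)
    (hyz' : IsConj H.r (y * z)) (hk : IsConj H.s k) (hky : k * y = y * k) (hkz : k * z = z * k) :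
    Nat.card (Subgroup.centralizer ({y} : Set G) ⊓ Subgroup.centralizer ({z} : Set G) ⊓
      Subgroup.centralizer ({k} : Set G) : Subgroup G) ≤ 16 := by
  obtain ⟨h, hh⟩ := isConj_iff.1 hk.symm
  obtain ⟨y', hy'⟩ := H.mem_range (g := h * y * h⁻¹) (hh ▸ comm_conj hky.symm h)
  obtain ⟨z', hz'⟩ := H.mem_range (g := h * z * h⁻¹) (hh ▸ comm_conj hkz.symm h)
  have hRy : isR y' = true := (H.isR_iff y').1 (hy'.symm ▸ hy.trans (isConj_iff.2 ⟨h, rfl⟩))
  have hRz : isR z' = true := (H.isR_iff z').1 (hz'.symm ▸ hz.trans (isConj_iff.2 ⟨h, rfl⟩))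
  have hne : y' ≠ z' := fun e => hyz (mul_left_cancel (mul_right_cancel (hy'.symm.trans (e ▸ hz'))))
  have hcomm : y' * z' = z' * y' := H.hom_comm_iff.1 (by rw [hy', hz']; exact comm_conj hc h)
  have hRyz : isR (y' * z') = true := (H.isR_iff _).1 (by
    rw [map_mul, hy', hz', show h * y * h⁻¹ * (h * z * h⁻¹) = h * (y * z) * h⁻¹ by group]
    exact hyz'.trans (isConj_iff.2 ⟨h, rfl⟩))
  refine le_trans ?_ (cent_RR y' z' hRy hRz hne hcomm hRyz)
  rw [← Nat.card_eq_fintype_card]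
  have key : ∀ g ∈ (Subgroup.centralizer ({y} : Set G) ⊓ Subgroup.centralizer ({z} : Set G) ⊓
      Subgroup.centralizer ({k} : Set G)), ∃ x : CA, (x * y' == y' * x && x * z' == z' * x) = true ∧
      H.D.hom x = h * g * h⁻¹ := by
    intro g hg
    simp only [Subgroup.mem_inf, mem_cent_iff] at hg
    obtain ⟨x, hx⟩ := H.mem_range (g := h * g * h⁻¹) (hh ▸ comm_conj hg.2 h)
    refine ⟨x, ?_, hx⟩
    simp only [Bool.and_eq_true, beq_iff_eq]
    exact ⟨H.hom_comm_iff.1 (by rw [hx, hy']; exact comm_conj hg.1.1 h),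
      H.hom_comm_iff.1 (by rw [hx, hz']; exact comm_conj hg.1.2 h)⟩
  choose f hf1 hf2 using key
  refine Nat.card_le_card_of_injective (fun g => ⟨f g g.2, hf1 g g.2⟩) fun a b e => Subtype.ext ?_
  have e' : f a a.2 = f b b.2 := congrArg Subtype.val e
  have := (hf2 a a.2).symm.trans ((congrArg H.D.hom e').trans (hf2 b b.2))
  exact mul_left_cancel (mul_right_cancel this)

/-- The other four-groups through `r` have small centralisers. -/
theorem not_sixteen_dvd {x : CA}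
    (h8 : Fintype.card {y : CA // (y * ar == ar * y && y * x == x * y) = true} = 8)
    (hK : ∀ y : CA, y * ar = ar * y → y * x = x * y → isK y = true → y = az) :
    ¬ 16 ∣ Nat.card (Subgroup.centralizer ({H.r} : Set G) ⊓ Subgroup.centralizer ({H.D.hom x} : Set G) :
      Subgroup G) := by
  haveI : Fact (Nat.Prime 2) := ⟨Nat.prime_two⟩
  intro h16
  set Y := (Subgroup.centralizer ({H.r} : Set G) ⊓ Subgroup.centralizer ({H.D.hom x} : Set G)) with hY
  set E := Y ⊓ H.D.hom.range with hE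
  have hmem : ∀ y : CA, H.D.hom y ∈ Y ↔ (y * ar = ar * y ∧ y * x = x * y) := fun y => by
    simp only [hY, Subgroup.mem_inf, mem_cent_iff, H.hom_comm_iff]
  have hEc : Nat.card E = 8 := by
    rw [H.card_model (fun y => y * ar == ar * y && y * x == x * y) E (fun y hy => ?_) (fun g hg => ?_), h8]
    · simp only [Bool.and_eq_true, beq_iff_eq] at hy
      exact ⟨(hmem y).2 hy, y, rfl⟩
    · obtain ⟨hgY, y, rfl⟩ := hg
      refine ⟨y, ?_, rfl⟩
      simp only [Bool.and_eq_true, beq_iff_eq]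
      exact (hmem y).1 hgY
  have hle : E.subgroupOf Y ≤ ⊤ := le_top
  obtain ⟨Q, hQ⟩ := (IsPGroup.of_card (p := 2) (n := 3) (G := E.subgroupOf Y) (by
    rw [Nat.card_congr (Subgroup.subgroupOfEquivOfLe (inf_le_left : E ≤ Y)).toEquiv, hEc]
    norm_num)).exists_le_sylow
  have hQ16 : 16 ∣ Nat.card (Q : Subgroup Y) := by
    have h := Q.pow_dvd_card_of_pow_dvd_card (n := 4) (by norm_num; exact h16)
    norm_num at h
    exact h
  set Q' := (Q : Subgroup Y).map Y.subtype with hQ'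
  have hQ'p : IsPGroup 2 Q' := Q.2.map _
  have hEQ : E ≤ Q' := fun g hg => ⟨⟨g, hg.1⟩, hQ (Subgroup.mem_subgroupOf.2 hg), rfl⟩
  have hne : E ≠ Q' := fun e => by
    have hc : Nat.card Q' = Nat.card (Q : Subgroup Y) :=
      (Nat.card_congr ((Q : Subgroup Y).equivMapOfInjective _ (Subgroup.subtype_injective _)).toEquiv).symm
    rw [← e, hEc] at hc
    rw [← hc] at hQ16
    omega
  obtain ⟨n, hnQ, hn, hnorm⟩ := exists_normalizing Q' E hQ'p hEQ hne
  have hsE : H.s ∈ E := ⟨(hmem az).2 ⟨H.hom_comm_iff.1 (H.hom_comm ar).symm, H.hom_comm_iff.1 (H.hom_comm x).symm⟩,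
    az, rfl⟩
  obtain ⟨hyY, y, hy⟩ := hnorm _ hsE
  rw [← hy] at hyY
  have hyK : y = az := hK y ((hmem y).1 hyY).1 ((hmem y).1 hyY).2
    ((H.K_iff y).1 (hy ▸ (isConj_iff.2 ⟨n, rfl⟩ : IsConj H.s (n * H.s * n⁻¹))))
  rw [hyK] at hy
  obtain ⟨z, hz⟩ := H.mem_range (g := n) (mul_inv_eq_iff_eq_mul.1 hy.symm)
  exact hn ⟨Subgroup.map_subtype_le _ hnQ, z, hz⟩

/-- The elementary group of order 16. -/
def AG : Subgroup G := (Subgroup.centralizer ({H.r} : Set G) ⊓ Subgroup.centralizer ({H.r'} : Set G)) ⊓ H.D.hom.range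

omit [Finite G] in
theorem mem_AG {g : G} : g ∈ H.AG ↔ ∃ x, inA x = true ∧ H.D.hom x = g := by
  constructor
  · rintro ⟨⟨h1, h2⟩, x, rfl⟩
    refine ⟨x, ?_, rfl⟩
    simp only [inA, inCr, Bool.and_eq_true, beq_iff_eq]
    exact ⟨H.hom_comm_iff.1 (mem_cent_iff.1 h1), H.hom_comm_iff.1 (mem_cent_iff.1 h2)⟩
  · rintro ⟨x, hx, rfl⟩
    simp only [inA, inCr, Bool.and_eq_true, beq_iff_eq] at hx
    exact ⟨⟨mem_cent_iff.2 (H.hom_comm_iff.2 hx.1), mem_cent_iff.2 (H.hom_comm_iff.2 hx.2)⟩, x, rfl⟩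

omit [Finite G] in
theorem card_AG : Nat.card H.AG = 16 := by
  rw [H.card_model inA H.AG (fun x hx => H.mem_AG.2 ⟨x, hx, rfl⟩) (fun g hg => H.mem_AG.1 hg), inA_card]

omit [Finite G] in
theorem sixteen_dvd {g : G} (hg : g * H.r = H.r * g) :
    16 ∣ Nat.card (Subgroup.centralizer ({H.r} : Set G) ⊓
      Subgroup.centralizer ({g * H.r' * g⁻¹} : Set G) : Subgroup G) := by
  rw [← H.card_AG,
    Nat.card_congr (H.AG.equivMapOfInjective (MulAut.conj g).toMonoidHom (MulAut.conj g).injective).toEquiv]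
  refine Subgroup.card_dvd_of_le ?_
  rintro _ ⟨a, ⟨⟨h1, h2⟩, -⟩, rfl⟩
  have hgr : g * H.r * g⁻¹ = H.r := mul_inv_eq_iff_eq_mul.2 hg
  refine ⟨mem_cent_iff.2 ?_, mem_cent_iff.2 ?_⟩
  · show g * a * g⁻¹ * H.r = H.r * (g * a * g⁻¹)
    have := comm_conj (mem_cent_iff.1 h1) g
    rwa [hgr] at this
  · exact comm_conj (mem_cent_iff.1 h2) g

/-- The four-group `⟨r, r'⟩` is normal in the centraliser of `r`. -/
theorem orbit {g : G} (hg : g * H.r = H.r * g) :
    g * H.r' * g⁻¹ = H.r' ∨ g * H.r' * g⁻¹ = H.r * H.r' := by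
  haveI : Fact (Nat.Prime 2) := ⟨Nat.prime_two⟩
  set C := Subgroup.centralizer ({H.r} : Set G) with hC
  let rC : C := ⟨H.r, mem_cent_iff.2 rfl⟩
  set N := Subgroup.zpowers rC with hN
  have hrC : rC * rC = 1 := Subtype.ext H.r_sq
  haveI hNn : N.Normal := ⟨fun n hn h => by
    rcases eq_or_eq_of_mem_zpowers hrC hn with rfl | rfl
    · rw [mul_one, mul_inv_cancel]; exact N.one_mem
    · have : h * rC * h⁻¹ = rC := Subtype.ext (mul_inv_eq_iff_eq_mul.2 (mem_cent_iff.1 h.2))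
      rw [this]; exact Subgroup.mem_zpowers _⟩
  set S : Subgroup C := (C ⊓ H.D.hom.range).subgroupOf C with hS
  have hScard : Nat.card S = 32 := by
    rw [Nat.card_congr (Subgroup.subgroupOfEquivOfLe (inf_le_left : C ⊓ H.D.hom.range ≤ C)).toEquiv,
      H.card_model inCr _ (fun x hx => ?_) (fun g hg => ?_), inCr_card]
    · simp only [inCr, beq_iff_eq] at hx
      exact ⟨mem_cent_iff.2 (H.hom_comm_iff.2 hx), x, rfl⟩
    · obtain ⟨h1, x, rfl⟩ := hg
      refine ⟨x, ?_, rfl⟩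
      simp only [inCr, beq_iff_eq]
      exact H.hom_comm_iff.1 (mem_cent_iff.1 h1)
  obtain ⟨P, hP⟩ := (IsPGroup.of_card (p := 2) (n := 5) (G := S) (by rw [hScard]; norm_num)).exists_le_sylow
  have hPS : (P : Subgroup C) = S := (Subgroup.eq_of_le_of_card_ge hP (by
    obtain ⟨n, hn⟩ := IsPGroup.iff_card.1 P.2
    have hd : Nat.card (P : Subgroup C) ∣ Nat.card C := Subgroup.card_subgroup_dvd_card _
    rw [hn] at hd ⊢
    rw [hScard]
    rcases Nat.lt_or_ge n 6 with h | h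
    · calc 2 ^ n ≤ 2 ^ 5 := Nat.pow_le_pow_right (by norm_num) (by omega)
        _ = 32 := by norm_num
    · exact absurd (((pow_dvd_pow 2 h).trans hd)) (by norm_num; exact H.not_sixtyfour_dvd))).symm
  set π := QuotientGroup.mk' N with hπ
  set P' := P.mapSurjective (f := π) (QuotientGroup.mk'_surjective N) with hP'
  let uC : C := ⟨H.r', mem_cent_iff.2 H.r_comm_r'.symm⟩
  have hker : ∀ {a : C}, π a = 1 → (a : G) = 1 ∨ (a : G) = H.r := fun {a} ha => by
    rcases eq_or_eq_of_mem_zpowers hrC ((QuotientGroup.eq_one_iff a).1 ha) with h | h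
    · exact Or.inl (congrArg Subtype.val h)
    · exact Or.inr (congrArg Subtype.val h)
  have hu : orderOf (π uC) = 2 := by
    refine orderOf_eq_prime ?_ fun h => ?_
    · rw [pow_two, ← map_mul, show uC * uC = 1 from Subtype.ext H.r'_sq, map_one]
    · rcases hker h with e | e
      · exact basic.2.2.2.1 (H.D.inj (e.trans (map_one _).symm))
      · exact basic.2.2.2.2.2.1 (H.D.inj e).symm
  have huP : π uC ∈ (P' : Subgroup (C ⧸ N)) := by
    show π uC ∈ (P : Subgroup C).map π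
    exact ⟨uC, hPS ▸ Subgroup.mem_subgroupOf.2 ⟨uC.2, ar', rfl⟩, rfl⟩
  have hiso : ∀ q : C ⧸ N, q * π uC * q⁻¹ ∈ (P' : Subgroup (C ⧸ N)) → q * π uC * q⁻¹ = π uC := by
    intro q hq
    obtain ⟨a, rfl⟩ := QuotientGroup.mk'_surjective N q
    rw [← map_inv, ← map_mul, ← map_mul] at hq ⊢
    obtain ⟨p, hp, hpe⟩ := hq
    rw [hPS] at hp
    have hm : a * uC * a⁻¹ ∈ S := by
      rcases hker (a := p⁻¹ * (a * uC * a⁻¹)) (by rw [map_mul, map_inv, hpe, inv_mul_cancel]) with e | e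
      · have h1 : p = a * uC * a⁻¹ := inv_mul_eq_one.1 (Subtype.ext e)
        exact h1 ▸ hp
      · have h1 : a * uC * a⁻¹ = p * rC := by
          rw [← inv_mul_eq_iff_eq_mul]; exact Subtype.ext e
        rw [h1]
        exact S.mul_mem hp (Subgroup.mem_subgroupOf.2 ⟨rC.2, ar, rfl⟩)
    obtain ⟨hmC, x, hx⟩ := Subgroup.mem_subgroupOf.1 hm
    have hx' : H.D.hom x = (a : G) * H.r' * (a : G)⁻¹ := hx
    have har := mem_cent_iff.1 a.2
    have hxr : x * ar = ar * x := H.hom_comm_iff.1 (by rw [hx']; exact mem_cent_iff.1 hmC)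
    have hR1 : isR x = true := (H.isR_iff x).1 (hx' ▸ H.conj_r_r'.trans (isConj_iff.2 ⟨a, rfl⟩))
    have hR2 : isR (ar * x) = true := (H.isR_iff _).1 (by
      rw [map_mul, hx', show H.r * ((a : G) * H.r' * (a : G)⁻¹) = (a : G) * (H.r * H.r') * (a : G)⁻¹ by
        rw [← mul_assoc (a : G) H.r, har]; group]
      exact H.conj_r_rr'.trans (isConj_iff.2 ⟨a, rfl⟩))
    have h16 := H.sixteen_dvd har
    rw [← hx'] at h16
    rcases partner x hxr hR1 hR2 with rfl | rfl | ⟨h8, hK⟩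
    · exact congrArg π (Subtype.ext hx'.symm)
    · have : a * uC * a⁻¹ = rC * uC := Subtype.ext (by
        show (a : G) * H.r' * (a : G)⁻¹ = H.r * H.r'
        rw [← hx', map_mul])
      rw [this, map_mul, show π rC = 1 from (QuotientGroup.eq_one_iff _).2 (Subgroup.mem_zpowers _), one_mul]
    · exact absurd h16 (H.not_sixteen_dvd h8 hK)
  obtain ⟨M, hMn, hModd, hMc⟩ := CfsgLib.Invol.zStar_sylow P' (π uC) hu hiso
  obtain ⟨k, l, hk, hl, hkK, hlK, hklK⟩ := four_K
  have hkl : inA (k * l) = true := by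
    obtain ⟨y, hy, he⟩ := H.mem_AG.1 (H.AG.mul_mem (H.mem_AG.2 ⟨k, hk, rfl⟩) (H.mem_AG.2 ⟨l, hl, rfl⟩))
    rw [← map_mul] at he
    exact H.D.inj he ▸ hy
  have hlift : ∀ x : CA, inA x = true → x * ar = ar * x := fun x hx => by
    simp only [inA, inCr, Bool.and_eq_true, beq_iff_eq] at hx
    exact hx.1
  have fpf : ∀ x : CA, inA x = true → isK x = true → ∀ hx : H.D.hom x ∈ C, ∀ n ∈ M,
      π ⟨H.D.hom x, hx⟩ * n * (π ⟨H.D.hom x, hx⟩)⁻¹ = n → n = 1 := by
    intro x hxA hxK hxC n hn he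
    obtain ⟨b, rfl⟩ := QuotientGroup.mk'_surjective N n
    have hkk : H.D.hom x * H.D.hom x = 1 := by rw [← map_mul, (isK_invol x hxK).1, map_one]
    have hbr := mem_cent_iff.1 b.2
    have h1 : π (⟨H.D.hom x, hxC⟩ * b * ⟨H.D.hom x, hxC⟩⁻¹ * b⁻¹) = 1 := by
      simp only [map_mul, map_inv]
      rw [he, mul_inv_cancel]
    have hb2 : (b : G) ^ 2 * H.D.hom x = H.D.hom x * (b : G) ^ 2 := by
      have key : H.D.hom x * (b : G) ^ 2 * (H.D.hom x)⁻¹ = (b : G) ^ 2 := by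
        rcases hker h1 with e | e
        · have e' : H.D.hom x * (b : G) * (H.D.hom x)⁻¹ = b := mul_inv_eq_one.1 e
          rw [← conj_pow, e']
        · have e' : H.D.hom x * (b : G) * (H.D.hom x)⁻¹ = H.r * b := mul_inv_eq_iff_eq_mul.1 e
          rw [← conj_pow, e', pow_two, pow_two]
          calc H.r * (b : G) * (H.r * b) = (H.r * H.r) * ((b : G) * b) := by
                rw [mul_assoc H.r H.r, ← mul_assoc H.r (b : G) b, ← mul_assoc (H.r * (b : G)), mul_assoc H.r (b : G) H.r,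
                  hbr, ← mul_assoc, mul_assoc (H.r * H.r)]
                group
            _ = _ := by rw [H.r_sq, one_mul]
      exact (mul_inv_eq_iff_eq_mul.1 key).symm
    have h8 := H.pow_eight (k := H.D.hom x) ((H.K_iff x).2 hxK) (mem_cent_iff.1 hxC)
      (g := (b : G) ^ 2) ((Commute.pow_left hbr 2).eq) hb2
    rw [← pow_mul] at h8
    have h16 : (π b) ^ (2 * 8) = 1 := by
      rw [← map_pow, show b ^ (2 * 8) = 1 from Subtype.ext (by simpa using h8), map_one]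
    have hd1 := orderOf_dvd_of_pow_eq_one h16
    have hd2 : orderOf (π b) ∣ Nat.card M := by
      rw [← Subgroup.orderOf_mk (π b) hn]; exact orderOf_dvd_natCard _
    have hco : Nat.Coprime (2 * 8) (Nat.card M) :=
      (Nat.coprime_pow_left_iff (n := 4) (by norm_num) 2 (Nat.card M)).2 (Nat.coprime_two_left.2 hModd)
    rw [← orderOf_eq_one_iff]
    exact Nat.eq_one_of_dvd_coprimes hco hd1 hd2
  have hC' : ∀ x : CA, inA x = true → H.D.hom x ∈ C := fun x hx => mem_cent_iff.2 (H.hom_comm_iff.2 (hlift x hx))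
  have hsqπ : ∀ x : CA, inA x = true → ∀ hx : H.D.hom x ∈ C, π ⟨H.D.hom x, hx⟩ * π ⟨H.D.hom x, hx⟩ = 1 := by
    intro x hxA hx
    rw [← map_mul, show (⟨H.D.hom x, hx⟩ : C) * ⟨H.D.hom x, hx⟩ = 1 from Subtype.ext (by
      show H.D.hom x * H.D.hom x = 1
      rw [← map_mul, (inA_elem x hxA).1, map_one]), map_one]
  have hM : M = ⊥ := by
    refine eq_bot_of_four M (hsqπ k hk (hC' k hk)) (hsqπ l hl (hC' l hl)) (fun w hw => hMn.conj_mem w hw _)
      (fun w hw => hMn.conj_mem w hw _) (fpf k hk hkK _) (fpf l hl hlK _) ?_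
    intro w hw he
    refine fpf (k * l) hkl hklK (hC' _ hkl) w hw ?_
    rwa [← map_mul, show (⟨H.D.hom k, hC' k hk⟩ : C) * ⟨H.D.hom l, hC' l hl⟩ = ⟨H.D.hom (k * l), hC' _ hkl⟩ from
      Subtype.ext (map_mul H.D.hom k l).symm] at he
  have h := hMc (π ⟨g, mem_cent_iff.2 hg⟩)
  rw [hM, Subgroup.mem_bot, ← map_inv, ← map_inv, ← map_mul, ← map_mul, ← map_mul] at h
  have hui : H.r'⁻¹ = H.r' := inv_eq_of_mul_eq_one_right H.r'_sq
  rcases hker h with e | e
  · left
    have e' : H.r' * g * H.r'⁻¹ * g⁻¹ = 1 := e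
    have : H.r' * g * H.r'⁻¹ = g := mul_inv_eq_one.1 e'
    rw [mul_inv_eq_iff_eq_mul, ← mul_inv_eq_iff_eq_mul.1 this]
  · right
    have e' : H.r' * g * H.r'⁻¹ * g⁻¹ = H.r := e
    calc g * H.r' * g⁻¹ = g * H.r'⁻¹ * g⁻¹ := by rw [hui]
      _ = H.r'⁻¹ * (H.r' * g * H.r'⁻¹ * g⁻¹) := by group
      _ = H.r'⁻¹ * H.r := by rw [e']
      _ = H.r * H.r' := by rw [hui, H.r_comm_r']

end Hyp

end CfsgLib.AltEightRecog.Nine
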