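import Cfsg.Agent.Lib.AltEightRecog.NineFive

/-!
The degree nine case: pairs of involutions generating a dihedral group around `r`.
-/

set_option autoImplicit false
set_option linter.style.haveILetI false
set_option maxHeartbeats 1000000

open Equiv
open scoped commutatorElement

namespace CfsgLib.AltEightRecog.Nine

/-- The condition on images of a pair inside the centraliser of the four-group. -/
def condD (p : Perm (Fin 5) × Perm (Fin 5)) : Bool :=
  decide (p.1 ≠ 1) && decide (p.1 * p.1 = 1) && decide (Perm.sign p.1 = 1) &&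
    decide (p.2 ≠ 1) && decide (p.2 * p.2 = 1) && decide (Perm.sign p.2 = 1) && decide ((p.1 * p.2) ^ 15 = 1)

/-- The condition on images of a pair with an outer second member. -/
def condU (p : Perm (Fin 5) × Perm (Fin 5)) : Bool :=
  decide (p.1 ≠ 1) && decide (p.1 * p.1 = 1) && decide (Perm.sign p.1 = 1) &&
    decide (p.2 * p.2 = 1) && decide (Perm.sign p.2 = -1) && decide ((p.1 * (p.2 * p.1 * p.2)) ^ 15 = 1)

/-- The even involutions of degree 5. -/
def evenInv : Finset (Perm (Fin 5)) :=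
  Finset.univ.filter fun σ => σ ≠ 1 ∧ σ * σ = 1 ∧ Perm.sign σ = 1

/-- The odd involutions of degree 5. -/
def oddInv : Finset (Perm (Fin 5)) := Finset.univ.filter fun σ => σ * σ = 1 ∧ Perm.sign σ = -1

theorem count_D_aux : ((evenInv ×ˢ evenInv).filter fun p => (p.1 * p.2) ^ 15 = 1).card = 195 := by
  decide +kernel

theorem count_U_aux : ((evenInv ×ˢ oddInv).filter fun p => (p.1 * (p.2 * p.1 * p.2)) ^ 15 = 1).card = 90 := by
  decide +kernel

theorem count_D : Fintype.card {p : Perm (Fin 5) × Perm (Fin 5) // condD p = true} = 195 := by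
  rw [← count_D_aux, Fintype.card_subtype]
  refine congrArg Finset.card (Finset.ext fun p => ?_)
  simp only [condD, evenInv, Finset.mem_filter, Finset.mem_product, Finset.mem_univ, true_and,
    Bool.and_eq_true, decide_eq_true_eq, and_assoc]

theorem count_U : Fintype.card {p : Perm (Fin 5) × Perm (Fin 5) // condU p = true} = 90 := by
  rw [← count_U_aux, Fintype.card_subtype]
  refine congrArg Finset.card (Finset.ext fun p => ?_)
  simp only [condU, evenInv, oddInv, Finset.mem_filter, Finset.mem_product, Finset.mem_univ, true_and,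
    Bool.and_eq_true, decide_eq_true_eq, and_assoc]

theorem odd_dvd_fifteen {o : ℕ} (h60 : o ∣ 60) (hodd : Odd o) : o ∣ 15 := by
  have h2 : Nat.Coprime o 2 := Nat.coprime_two_right.2 hodd
  have h4 : Nat.Coprime o 4 := h2.pow_right 2
  exact h4.dvd_of_dvd_mul_left (show o ∣ 4 * 15 from h60)

namespace Hyp

variable {G : Type*} [Group G] (H : Hyp G) [Finite G]

/-- The number of pairs around `r`. -/
theorem card_pairs_r (h480 : Nat.card (Subgroup.centralizer ({H.r} : Set G)) = 480) :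
    Nat.card {p : G × G // IsConj H.s p.1 ∧ IsConj H.r p.2 ∧ H.r ∈ Subgroup.zpowers (p.1 * p.2)} = 555 := by
  classical
  obtain ⟨φ, hker, hsurj, hsgn⟩ := H.exists_phi h480
  let rC : H.Cr := ⟨H.r, mem_cent_iff.2 rfl⟩
  let qC : H.Cr := ⟨H.r', mem_cent_iff.2 H.r_comm_r'.symm⟩
  have hrr : rC * rC = 1 := Subtype.ext H.r_sq
  have hqq : qC * qC = 1 := Subtype.ext H.r'_sq
  have hrq : rC * qC = qC * rC := Subtype.ext H.r_comm_r'
  have hr1 : rC ≠ 1 := fun e => H.r_ne_one (congrArg Subtype.val e)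
  have hq1 : qC ≠ 1 := fun e => basic.2.2.2.1 (H.D.inj ((congrArg Subtype.val e).trans (map_one H.D.hom).symm))
  have hrneq : rC ≠ qC := fun e => basic.2.2.2.2.2.1 (H.D.inj (congrArg Subtype.val e))
  have hrCentral : ∀ g : H.Cr, g * rC = rC * g := fun g => Subtype.ext (mem_cent_iff.1 g.2)
  have hrV : rC ∈ H.Vc := Subgroup.mem_subgroupOf.2 (H.mem_V.2 ⟨ar, by decide +kernel, rfl⟩)
  have hqV : qC ∈ H.Vc := Subgroup.mem_subgroupOf.2 (H.mem_V.2 ⟨ar', by decide +kernel, rfl⟩)
  have hVmem : ∀ v : H.Cr, v ∈ H.Vc → v = 1 ∨ v = rC ∨ v = qC ∨ v = rC * qC := by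
    intro v hv
    obtain ⟨x, hx, he⟩ := H.mem_V.1 (Subgroup.mem_subgroupOf.1 hv)
    have he' : H.D.hom x = (v : G) := he
    simp only [inV, Bool.or_eq_true, beq_iff_eq] at hx
    rcases hx with ((rfl | rfl) | rfl) | rfl
    · exact Or.inl (Subtype.ext (he'.symm.trans (map_one H.D.hom)))
    · exact Or.inr (Or.inl (Subtype.ext he'.symm))
    · exact Or.inr (Or.inr (Or.inl (Subtype.ext he'.symm)))
    · exact Or.inr (Or.inr (Or.inr (Subtype.ext (he'.symm.trans (map_mul H.D.hom ar ar')))))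
  have hVC1 : ∀ v : H.Cr, v ∈ H.Vc → v ∈ H.C1c := fun v hv =>
    Subgroup.mem_subgroupOf.2 ((H.V_le_AG.trans H.AG_le_C1) (Subgroup.mem_subgroupOf.1 hv))
  have hDC1 : H.Dc ≤ H.C1c := Subgroup.commutator_le_right _ _
  have hVsq : ∀ v : H.Cr, v ∈ H.Vc → v * v = 1 := fun v hv => by
    obtain ⟨x, hx, he⟩ := H.mem_V.1 (Subgroup.mem_subgroupOf.1 hv)
    have he' : H.D.hom x = (v : G) := he
    apply Subtype.ext
    show (v : G) * v = 1
    rw [← he', ← map_mul, (inA_elem x (inV_spec x hx).1).1, map_one]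
  have hVcomm : ∀ v g : H.Cr, v ∈ H.Vc → g ∈ H.C1c → g * v = v * g := fun v g hv hg =>
    Subtype.ext (H.V_central (Subgroup.mem_subgroupOf.1 hv) (Subgroup.mem_subgroupOf.1 hg))
  have hφV : ∀ v : H.Cr, v ∈ H.Vc → φ v = 1 := fun v hv => by rwa [← hker, MonoidHom.mem_ker] at hv
  have hinj : ∀ d : H.Cr, d ∈ H.Dc → φ d = 1 → d = 1 := fun d hd he => H.Dc_inf_Vc h480 hd (hker ▸ he)
  have hDeq : ∀ d e : H.Cr, d ∈ H.Dc → e ∈ H.Dc → φ d = φ e → d = e := fun d e hd he h => by
    refine mul_inv_eq_one.1 (hinj _ (H.Dc.mul_mem hd (H.Dc.inv_mem he)) ?_)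
    rw [map_mul, map_inv, h, mul_inv_cancel]
  have himg : ∀ σ : Perm (Fin 5), ∃ d : H.Cr, Perm.sign σ = 1 → d ∈ H.Dc ∧ φ d = σ := by
    intro σ
    by_cases hσ : Perm.sign σ = 1
    swap
    · exact ⟨1, fun h => absurd h hσ⟩
    have hC1img : H.C1c.map φ = alternatingGroup (Fin 5) := by
      ext τ
      rw [Perm.mem_alternatingGroup]
      constructor
      · rintro ⟨g, hg, rfl⟩; exact (hsgn g).1 hg
      · intro h
        obtain ⟨g, rfl⟩ := hsurj τ
        exact ⟨g, (hsgn g).2 h, rfl⟩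
    have hA : (⁅alternatingGroup (Fin 5), alternatingGroup (Fin 5)⁆ : Subgroup (Perm (Fin 5))) =
        alternatingGroup (Fin 5) := by
      rw [← Subgroup.map_subtype_commutator,
        commutator_alternatingGroup_eq_top (by rw [Nat.card_fin]), ← MonoidHom.range_eq_map, Subgroup.range_subtype]
    have hm : σ ∈ H.Dc.map φ := by
      rw [Subgroup.map_commutator, hC1img, hA]
      exact Perm.mem_alternatingGroup.2 hσ
    obtain ⟨d, hd, he⟩ := hm
    exact ⟨d, fun _ => ⟨hd, he⟩⟩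
  choose dl hdl using himg
  have hsgnD : ∀ d : H.Cr, d ∈ H.Dc → Perm.sign (φ d) = 1 := fun d hd => (hsgn d).1 (hDC1 hd)
  have hdl' : ∀ d : H.Cr, d ∈ H.Dc → dl (φ d) = d := fun d hd =>
    hDeq _ _ (hdl _ (hsgnD d hd)).1 hd (hdl _ (hsgnD d hd)).2
  have hpow15 : ∀ d : H.Cr, d ∈ H.Dc → (φ d) ^ 15 = 1 → d ^ 15 = 1 := fun d hd he =>
    hinj _ (H.Dc.pow_mem hd 15) (by rw [map_pow, he])
  have hcard60 : ∀ d : H.Cr, d ∈ H.Dc → orderOf d ∣ 60 := by
    intro d hd
    have h1 : orderOf d = orderOf (φ d) := by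
      refine Nat.dvd_antisymm (orderOf_dvd_of_pow_eq_one (hinj _ (H.Dc.pow_mem hd _) ?_)) (orderOf_map_dvd φ d)
      rw [map_pow, pow_orderOf_eq_one]
    rw [h1, ← Subgroup.orderOf_mk (φ d) (Perm.mem_alternatingGroup.2 (hsgnD d hd))]
    refine dvd_trans (orderOf_dvd_natCard _) ?_
    rw [nat_card_alternatingGroup, Nat.card_fin]
    decide
  -- outer involutions
  let awC : H.Cr := ⟨H.D.hom aw, H.aw_mem⟩
  have hawC1 : awC ∉ H.C1c := fun h => by
    have h1 := (Subgroup.mem_subgroupOf.1 h).2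
    have h2 : aw * ar' = ar' * aw := H.hom_comm_iff.1 (mem_cent_iff.1 h1)
    revert h2; decide +kernel
  have hawsq : awC * awC = 1 := Subtype.ext (by
    show H.D.hom aw * H.D.hom aw = 1
    rw [← map_mul, show aw * aw = 1 by decide +kernel, map_one])
  have houtsgn : ∀ g : H.Cr, g ∉ H.C1c → Perm.sign (φ g) = -1 := fun g hg =>
    (Int.units_eq_one_or _).resolve_left fun h => hg ((hsgn g).2 h)
  have houtex : ∀ τ : Perm (Fin 5), ∃ u : H.Cr, τ * τ = 1 → Perm.sign τ = -1 → u * u = 1 ∧ φ u = τ := by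
    intro τ
    by_cases h1 : τ * τ = 1 ∧ Perm.sign τ = -1
    swap
    · exact ⟨1, fun a b => absurd ⟨a, b⟩ h1⟩
    have h2 : φ awC * φ awC = 1 := by rw [← map_mul, hawsq, map_one]
    obtain ⟨g, hg⟩ := isConj_iff.1 (Perm.isConj_iff_cycleType_eq.2
      ((perm_conj _ h2 (houtsgn _ hawC1)).trans (perm_conj τ h1.1 h1.2).symm))
    obtain ⟨c, rfl⟩ := hsurj g
    refine ⟨c * awC * c⁻¹, fun _ _ => ⟨?_, by rw [map_mul, map_mul, map_inv, hg]⟩⟩
    rw [show c * awC * c⁻¹ * (c * awC * c⁻¹) = c * (awC * awC) * c⁻¹ by group, hawsq, mul_one, mul_inv_cancel]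
  choose ul hul using houtex
  have hswap : ∀ u : H.Cr, u ∉ H.C1c → u * qC * u⁻¹ = rC * qC := by
    intro u hu
    rcases H.orbit (mem_cent_iff.1 u.2) with h | h
    · exact absurd (show u ∈ H.C1c from Subgroup.mem_subgroupOf.2 ⟨u.2, mem_cent_iff.2 (mul_inv_eq_iff_eq_mul.1 h)⟩) hu
    · exact Subtype.ext h
  have hswap2 : ∀ u : H.Cr, u ∉ H.C1c → u * (rC * qC) * u⁻¹ = qC := by
    intro u hu
    rw [show u * (rC * qC) * u⁻¹ = u * rC * u⁻¹ * (u * qC * u⁻¹) by group, hswap u hu, hrCentral,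
      mul_inv_cancel_right, ← mul_assoc, hrr, one_mul]
  have hsquare : ∀ v d u : H.Cr, v ∈ H.Vc → d ∈ H.Dc → u * u = 1 → u ∉ H.C1c →
      (v * d * u) ^ 2 = v * (u * v * u⁻¹) * (d * (u * d * u⁻¹)) := by
    intro v d u hv hd hu2 hu
    have hui : u⁻¹ = u := inv_eq_of_mul_eq_one_right hu2
    have hc := hVcomm _ d (H.normal_Vc.conj_mem v hv u) (hDC1 hd)
    calc (v * d * u) ^ 2 = v * (d * (u * v * u⁻¹)) * (u * d * u) := by rw [pow_two]; group
      _ = v * ((u * v * u⁻¹) * d) * (u * d * u) := by rw [hc]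
      _ = v * (u * v * u⁻¹) * (d * (u * d * u)) := by group
      _ = _ := by rw [hui]
  -- the model of the set of pairs
  let v2 : Bool → H.Cr := fun b => bif b then qC else rC * qC
  let e2 : Bool → H.Cr := fun c => bif c then rC else 1
  have hv2 : ∀ b, v2 b ∈ H.Vc := fun b => by cases b <;> [exact H.Vc.mul_mem hrV hqV; exact hqV]
  have he2 : ∀ c, e2 c ∈ H.Vc := fun c => by cases c <;> [exact H.Vc.one_mem; exact hrV]
  let TD := {p : Perm (Fin 5) × Perm (Fin 5) // condD p = true}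
  let TU := {p : Perm (Fin 5) × Perm (Fin 5) // condU p = true}
  let F : TD ⊕ TU × Bool × Bool → H.Cr × H.Cr
    | Sum.inl q => (rC * dl q.1.1, dl q.1.2)
    | Sum.inr (q, b, c) => (v2 b * dl q.1.1, ul q.1.2 * e2 c)
  have hTD : ∀ q : TD, q.1.1 ≠ 1 ∧ q.1.1 * q.1.1 = 1 ∧ Perm.sign q.1.1 = 1 ∧
      q.1.2 ≠ 1 ∧ q.1.2 * q.1.2 = 1 ∧ Perm.sign q.1.2 = 1 ∧ (q.1.1 * q.1.2) ^ 15 = 1 := fun q => by
    have h := q.2
    simp only [condD, Bool.and_eq_true, decide_eq_true_eq, and_assoc] at h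
    exact h
  have hTU : ∀ q : TU, q.1.1 ≠ 1 ∧ q.1.1 * q.1.1 = 1 ∧ Perm.sign q.1.1 = 1 ∧
      q.1.2 * q.1.2 = 1 ∧ Perm.sign q.1.2 = -1 ∧ (q.1.1 * (q.1.2 * q.1.1 * q.1.2)) ^ 15 = 1 := fun q => by
    have h := q.2
    simp only [condU, Bool.and_eq_true, decide_eq_true_eq, and_assoc] at h
    exact h
  -- membership
  have hKpart : ∀ v : H.Cr, v ∈ H.Vc → v ≠ 1 → ∀ σ : Perm (Fin 5), σ ≠ 1 → σ * σ = 1 → Perm.sign σ = 1 →
      IsConj H.s ((v * dl σ : H.Cr) : G) := by
    intro v hv hv1 σ hσ1 hσ2 hσ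
    obtain ⟨hd, hdφ⟩ := hdl σ hσ
    have hdd : dl σ * dl σ = 1 := hinj _ (H.Dc.mul_mem hd hd) (by rw [map_mul, hdφ, hσ2])
    have h2 : v * dl σ * (v * dl σ) = 1 := by
      calc v * dl σ * (v * dl σ) = v * (dl σ * v) * dl σ := by group
        _ = v * (v * dl σ) * dl σ := by rw [hVcomm v _ hv (hDC1 hd)]
        _ = v * v * (dl σ * dl σ) := by group
        _ = 1 := by rw [hVsq v hv, hdd, mul_one]
    have hnV : v * dl σ ∉ H.Vc := fun h => hσ1 (by
      have := hφV _ ((H.Vc.mul_mem_cancel_left hv).1 h)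
      rwa [hdφ] at this)
    exact (H.class_C1 h480 (H.C1c.mul_mem (hVC1 v hv) (hDC1 hd)) h2
      (fun e => hnV (e ▸ H.Vc.one_mem))).2 ⟨hnV,
        fun h => hv1 (H.Dc_inf_Vc h480 ((H.Dc.mul_mem_cancel_right hd).1 h) hv)⟩
  have hulC1 : ∀ τ : Perm (Fin 5), τ * τ = 1 → Perm.sign τ = -1 → ∀ c, ul τ * e2 c ∉ H.C1c ∧
      ul τ * e2 c * (ul τ * e2 c) = 1 ∧ φ (ul τ * e2 c) = τ := by
    intro τ h1 h2 c
    obtain ⟨hu2, huφ⟩ := hul τ h1 h2
    have hφ : φ (ul τ * e2 c) = τ := by rw [map_mul, huφ, hφV _ (he2 c), mul_one]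
    refine ⟨fun h => ?_, ?_, hφ⟩
    · have := (hsgn _).1 h
      rw [hφ, h2] at this
      exact absurd this (by decide)
    · cases c
      · show ul τ * 1 * (ul τ * 1) = 1
        rw [mul_one, hu2]
      · show ul τ * rC * (ul τ * rC) = 1
        calc ul τ * rC * (ul τ * rC) = ul τ * (rC * ul τ) * rC := by group
          _ = ul τ * (ul τ * rC) * rC := by rw [← hrCentral]
          _ = ul τ * ul τ * (rC * rC) := by group
          _ = 1 := by rw [hu2, hrr, mul_one]
  have hFmem : ∀ t, IsConj H.s ((F t).1 : G) ∧ IsConj H.r ((F t).2 : G) ∧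
      H.r ∈ Subgroup.zpowers (((F t).1 : G) * ((F t).2 : G)) := by
    rintro (q | ⟨q, b, c⟩)
    · obtain ⟨a1, a2, a3, b1, b2, b3, h15⟩ := hTD q
      obtain ⟨hd, hdφ⟩ := hdl _ a3
      obtain ⟨he, heφ⟩ := hdl _ b3
      refine ⟨hKpart rC hrV hr1 _ a1 a2 a3, ?_, ?_⟩
      · have hee : dl q.1.2 * dl q.1.2 = 1 := hinj _ (H.Dc.mul_mem he he) (by rw [map_mul, heφ, b2])
        have hne : dl q.1.2 ≠ 1 := fun e => b1 (by rw [← heφ, e, map_one])
        refine (H.dichotomy ?_).resolve_left fun hc => ((H.class_C1 h480 (hDC1 he) hee hne).1 hc).2 he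
        rw [Subgroup.orderOf_coe]
        exact orderOf_two_of hee hne
      · have hp : (rC * dl q.1.1 * dl q.1.2) ^ 15 = rC := by
          rw [mul_assoc, (show Commute rC (dl q.1.1 * dl q.1.2) from (hrCentral _).symm).mul_pow,
            hpow15 _ (H.Dc.mul_mem hd he) (by rw [map_mul, hdφ, heφ, h15]), mul_one,
            show 15 = 2 * 7 + 1 from rfl, pow_succ, pow_mul, pow_two, hrr, one_pow, one_mul]
        exact Subgroup.mem_zpowers_iff.2 ⟨(15 : ℕ), by rw [zpow_natCast]; exact congrArg Subtype.val hp⟩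
    · obtain ⟨a1, a2, a3, b2, b3, h15⟩ := hTU q
      obtain ⟨hd, hdφ⟩ := hdl _ a3
      obtain ⟨hout, hu2, huφ⟩ := hulC1 _ b2 b3 c
      set u := ul q.1.2 * e2 c with hu
      have hv1 : v2 b ≠ 1 := by
        cases b
        · show rC * qC ≠ 1
          exact fun e => hrneq ((mul_eq_one_iff_eq_inv.1 e).trans (inv_eq_of_mul_eq_one_right hqq))
        · exact hq1
      refine ⟨hKpart _ (hv2 b) hv1 _ a1 a2 a3, ?_, ?_⟩
      · refine H.outer_class u.2 (fun h => hout (Subgroup.mem_subgroupOf.2 h)) ?_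
        exact congrArg Subtype.val hu2
      · have hvv : v2 b * (u * v2 b * u⁻¹) = rC := by
          cases b
          · show rC * qC * (u * (rC * qC) * u⁻¹) = rC
            rw [hswap2 u hout, mul_assoc, hqq, mul_one]
          · show qC * (u * qC * u⁻¹) = rC
            rw [hswap u hout, hrq, ← mul_assoc, hqq, one_mul]
        have hy : dl q.1.1 * (u * dl q.1.1 * u⁻¹) ∈ H.Dc :=
          H.Dc.mul_mem hd ((inferInstance : H.Dc.Normal).conj_mem _ hd u)
        have hp : (v2 b * dl q.1.1 * u) ^ 30 = rC := by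
          rw [show 30 = 2 * 15 from rfl, pow_mul, hsquare _ _ _ (hv2 b) hd hu2 hout, hvv,
            (show Commute rC (dl q.1.1 * (u * dl q.1.1 * u⁻¹)) from (hrCentral _).symm).mul_pow,
            hpow15 _ hy (by
              rw [map_mul, map_mul, map_mul, map_inv, hdφ, huφ, inv_eq_of_mul_eq_one_right b2]
              exact h15), mul_one,
            show 15 = 2 * 7 + 1 from rfl, pow_succ, pow_mul, pow_two, hrr, one_pow, one_mul]
        exact Subgroup.mem_zpowers_iff.2 ⟨(30 : ℕ), by rw [zpow_natCast]; exact congrArg Subtype.val hp⟩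
  let F' : TD ⊕ TU × Bool × Bool →
      {p : G × G // IsConj H.s p.1 ∧ IsConj H.r p.2 ∧ H.r ∈ Subgroup.zpowers (p.1 * p.2)} :=
    fun t => ⟨(((F t).1 : G), ((F t).2 : G)), hFmem t⟩
  have hφv : ∀ v σ, v ∈ H.Vc → Perm.sign σ = 1 → φ (v * dl σ) = σ := fun v σ hv hσ => by
    rw [map_mul, hφV v hv, one_mul, (hdl σ hσ).2]
  have hFinj : Function.Injective F' := by
    intro t t' h
    have h1 : (F t).1 = (F t').1 := Subtype.ext (congrArg (fun z => z.1.1) h)
    have h2 : (F t).2 = (F t').2 := Subtype.ext (congrArg (fun z => z.1.2) h)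
    rcases t with q | ⟨q, b, c⟩ <;> rcases t' with q' | ⟨q', b', c'⟩
    · obtain ⟨-, -, a3, -, -, b3, -⟩ := hTD q
      obtain ⟨-, -, a3', -, -, b3', -⟩ := hTD q'
      have e1 := congrArg φ h1
      have e2' := congrArg φ h2
      simp only [F, hφv _ _ hrV a3, hφv _ _ hrV a3'] at e1
      simp only [F, (hdl _ b3).2, (hdl _ b3').2] at e2'
      exact congrArg Sum.inl (Subtype.ext (Prod.ext e1 e2'))
    · obtain ⟨-, -, -, -, -, b3, -⟩ := hTD q
      obtain ⟨-, -, -, b2', b3', -⟩ := hTU q'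
      have e2' := congrArg φ h2
      simp only [F, (hdl _ b3).2, (hulC1 _ b2' b3' c').2.2] at e2'
      rw [e2', b3'] at b3
      exact absurd b3 (by decide)
    · obtain ⟨-, -, -, b2, b3, -⟩ := hTU q
      obtain ⟨-, -, -, -, -, b3', -⟩ := hTD q'
      have e2' := congrArg φ h2
      simp only [F, (hdl _ b3').2, (hulC1 _ b2 b3 c).2.2] at e2'
      rw [← e2', b3] at b3'
      exact absurd b3' (by decide)
    · obtain ⟨-, -, a3, b2, b3, -⟩ := hTU q
      obtain ⟨-, -, a3', b2', b3', -⟩ := hTU q'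
      have e1 := congrArg φ h1
      have e2' := congrArg φ h2
      simp only [F, hφv _ _ (hv2 b) a3, hφv _ _ (hv2 b') a3'] at e1
      simp only [F, (hulC1 _ b2 b3 c).2.2, (hulC1 _ b2' b3' c').2.2] at e2'
      obtain rfl : q = q' := Subtype.ext (Prod.ext e1 e2')
      have hvv : v2 b = v2 b' := mul_right_cancel h1
      have hee : e2 c = e2 c' := mul_left_cancel h2
      have hb : b = b' := by
        cases b <;> cases b'
        · rfl
        · exact absurd (mul_eq_right.1 (hvv : rC * qC = qC)) hr1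
        · exact absurd (mul_eq_right.1 ((hvv : qC = rC * qC).symm)) hr1
        · rfl
      have hc : c = c' := by
        cases c <;> cases c'
        · rfl
        · exact absurd (hee : (1 : H.Cr) = rC).symm hr1
        · exact absurd (hee : rC = 1) hr1
        · rfl
      rw [hb, hc]
  have hFsurj : Function.Surjective F' := by
    rintro ⟨⟨k, u⟩, hk, hu, hr⟩
    have hk2 : k * k = 1 := CfsgLib.Invol.mul_self_eq_one (CfsgLib.Invol.orderOf_eq_two_of_isConj H.orderOf_s hk)
    have hu2 : u * u = 1 := CfsgLib.Invol.mul_self_eq_one (CfsgLib.Invol.orderOf_eq_two_of_isConj H.orderOf_r hu)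
    obtain ⟨n, hn⟩ : ∃ n : ℕ, (k * u) ^ n = H.r :=
      (Submonoid.mem_powers_iff _ _).1 (mem_powers_iff_mem_zpowers.2 hr)
    have hri : H.r⁻¹ = H.r := inv_eq_of_mul_eq_one_right H.r_sq
    have hfix : ∀ a : G, a * (k * u) * a⁻¹ = (k * u)⁻¹ → a * H.r = H.r * a := fun a ha => by
      rw [← mul_inv_eq_iff_eq_mul, ← hn, ← conj_pow, ha, inv_pow, hn, hri]
    have hki : k⁻¹ = k := inv_eq_of_mul_eq_one_right hk2
    have hui : u⁻¹ = u := inv_eq_of_mul_eq_one_right hu2
    have hkr := hfix k (by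
      rw [mul_inv_rev, hki, hui]
      calc k * (k * u) * k = (k * k) * (u * k) := by group
        _ = u * k := by rw [hk2, one_mul])
    have hur := hfix u (by
      rw [mul_inv_rev, hki, hui]
      calc u * (k * u) * u = u * k * (u * u) := by group
        _ = u * k := by rw [hu2, mul_one])
    set kC : H.Cr := ⟨k, mem_cent_iff.2 hkr⟩ with hkC
    set uC : H.Cr := ⟨u, mem_cent_iff.2 hur⟩ with huC
    have hn' : (kC * uC) ^ n = rC := Subtype.ext hn
    have hkC2 : kC * kC = 1 := Subtype.ext hk2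
    have huC2 : uC * uC = 1 := Subtype.ext hu2
    have hk1 : k ≠ 1 := CfsgLib.Invol.ne_one_of_invol (CfsgLib.Invol.orderOf_eq_two_of_isConj H.orderOf_s hk)
    have hu1 : u ≠ 1 := CfsgLib.Invol.ne_one_of_invol (CfsgLib.Invol.orderOf_eq_two_of_isConj H.orderOf_r hu)
    have hkC1 : kC ∈ H.C1c := by
      by_contra hc
      exact H.not_conj_s_r (hk.trans (H.outer_class kC.2 (fun h => hc (Subgroup.mem_subgroupOf.2 h)) hk2).symm)
    obtain ⟨hknV, hknD⟩ := (H.class_C1 h480 hkC1 hkC2 (fun e => hk1 (congrArg Subtype.val e))).1 hk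
    have hkV : kC * (dl (φ kC))⁻¹ ∈ H.Vc := by
      rw [← hker, MonoidHom.mem_ker, map_mul, map_inv, (hdl _ ((hsgn kC).1 hkC1)).2, mul_inv_cancel]
    obtain ⟨hdD, hdφ⟩ := hdl _ ((hsgn kC).1 hkC1)
    set d := dl (φ kC) with hd
    set v := kC * d⁻¹ with hv
    have hkvd : kC = v * d := by rw [hv, inv_mul_cancel_right]
    have hvd : d * v = v * d := hVcomm v d hkV (hDC1 hdD)
    have hv1 : v ≠ 1 := fun e => hknD (by rw [hkvd, e, one_mul]; exact hdD)
    have hd1 : d ≠ 1 := fun e => hknV (by rw [hkvd, e, mul_one]; exact hkV)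
    have hσ1 : φ kC ≠ 1 := fun e => hd1 (hinj d hdD (hdφ.trans e))
    have hσ2 : φ kC * φ kC = 1 := by rw [← map_mul, hkC2, map_one]
    have hdd : d * d = 1 := hinj _ (H.Dc.mul_mem hdD hdD) (by rw [map_mul, hdφ, hσ2])
    have hcancel : ∀ (m : ℕ) (w y : H.Cr), w ∈ H.Vc → y ∈ H.Dc → w * y ^ m = rC → y ^ m = 1 ∧ w = rC := by
      intro m w y hw hy he
      have h1 : y ^ m = 1 := hinj _ (H.Dc.pow_mem hy m) (by
        have := congrArg φ he
        rw [map_mul, hφV w hw, hφV rC hrV, one_mul] at this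
        exact this)
      rw [h1, mul_one] at he
      exact ⟨h1, he⟩
    by_cases huC1 : uC ∈ H.C1c
    · have huVD : uC ∈ H.Vc ∨ uC ∈ H.Dc := by
        by_contra hc
        push Not at hc
        exact H.not_conj_s_r (((H.class_C1 h480 huC1 huC2 (fun e => hu1 (congrArg Subtype.val e))).2 hc).trans hu.symm)
      rcases huVD with huV | huD
      · exfalso
        have hmul : kC * uC = (v * uC) * d := by
          rw [hkvd, mul_assoc, hVcomm uC d huV (hDC1 hdD), ← mul_assoc]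
        have hvu : (v * uC) ∈ H.Vc := H.Vc.mul_mem hkV huV
        rw [hmul, (show Commute (v * uC) d from (hVcomm _ d hvu (hDC1 hdD)).symm).mul_pow] at hn'
        obtain ⟨hdn, hvn⟩ := hcancel n _ d (H.Vc.pow_mem hvu n) hdD hn'
        obtain ⟨j, hj⟩ : 2 ∣ n := orderOf_two_of hdd hd1 ▸ orderOf_dvd_of_pow_eq_one hdn
        rw [hj, pow_mul, pow_two, hVsq _ hvu, one_pow] at hvn
        exact hr1 hvn.symm
      · have hmul : kC * uC = v * (d * uC) := by rw [hkvd, mul_assoc]
        have hx : d * uC ∈ H.Dc := H.Dc.mul_mem hdD huD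
        rw [hmul, (show Commute v (d * uC) from (hVcomm v _ hkV (hDC1 hx)).symm).mul_pow] at hn'
        obtain ⟨hxn, hvn⟩ := hcancel n _ _ (H.Vc.pow_mem hkV n) hx hn'
        obtain ⟨hodd, hvr⟩ : Odd n ∧ v = rC := by
          rcases Nat.even_or_odd n with ⟨j, hj⟩ | hodd
          · rw [hj, ← two_mul, pow_mul, pow_two, hVsq v hkV, one_pow] at hvn
            exact absurd hvn.symm hr1
          · obtain ⟨j, hj⟩ := hodd
            refine ⟨⟨j, hj⟩, ?_⟩
            rwa [hj, pow_succ, pow_mul, pow_two, hVsq v hkV, one_pow, one_mul] at hvn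
        have h15 : (d * uC) ^ 15 = 1 := orderOf_dvd_iff_pow_eq_one.1
          (odd_dvd_fifteen (hcard60 _ hx) (hodd.of_dvd_nat (orderOf_dvd_of_pow_eq_one hxn)))
        have hcond : condD (φ kC, φ uC) = true := by
          simp only [condD, Bool.and_eq_true, decide_eq_true_eq]
          refine ⟨⟨⟨⟨⟨⟨hσ1, hσ2⟩, (hsgn kC).1 hkC1⟩, ?_⟩, ?_⟩, hsgnD uC huD⟩, ?_⟩
          · exact fun e => hu1 (congrArg Subtype.val (hinj uC huD e))
          · rw [← map_mul, huC2, map_one]
          · rw [← hdφ, ← map_mul, ← map_pow, h15, map_one]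
        refine ⟨Sum.inl ⟨(φ kC, φ uC), hcond⟩, Subtype.ext (Prod.ext ?_ ?_)⟩
        · show ((rC * dl (φ kC) : H.Cr) : G) = k
          rw [← hd, ← hvr, ← hkvd]
        · show ((dl (φ uC) : H.Cr) : G) = u
          rw [hdl' uC huD]
    · have hτ := houtsgn uC huC1
      have hτ2 : φ uC * φ uC = 1 := by rw [← map_mul, huC2, map_one]
      set y := d * (uC * d * uC⁻¹) with hy
      have hyD : y ∈ H.Dc := H.Dc.mul_mem hdD ((inferInstance : H.Dc.Normal).conj_mem _ hdD uC)
      obtain ⟨j, hj⟩ : Even n := by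
        rcases Nat.even_or_odd n with h | ⟨j, hj⟩
        · exact h
        exfalso
        have h1 : kC * uC ∉ H.C1c := fun h => huC1 ((H.C1c.mul_mem_cancel_left hkC1).1 h)
        have h2 : (kC * uC) ^ (2 * j) ∈ H.C1c := by
          rw [pow_mul]
          exact H.C1c.pow_mem (by rw [pow_two]; exact Subgroup.mul_self_mem_of_index_two H.index_C1 _) j
        rw [hj, pow_succ] at hn'
        exact h1 ((H.C1c.mul_mem_cancel_left h2).1 (hn' ▸ hVC1 rC hrV))
      rw [hj, ← two_mul, pow_mul, hkvd, hsquare v d uC hkV hdD huC2 huC1, ← hy] at hn'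
      have hvr : v ≠ rC := by
        intro e
        rw [e, hrCentral uC, mul_inv_cancel_right, hrr] at hn'
        exact hr1 (H.Dc_inf_Vc h480 (hn' ▸ H.Dc.pow_mem (by rw [one_mul]; exact hyD) j) hrV)
      obtain ⟨b, hb⟩ : ∃ b, v = v2 b := by
        rcases hVmem v hkV with h | h | h | h
        · exact absurd h hv1
        · exact absurd h hvr
        · exact ⟨true, h⟩
        · exact ⟨false, h⟩
      have hvv : v * (uC * v * uC⁻¹) = rC := by
        rw [hb]
        cases b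
        · show rC * qC * (uC * (rC * qC) * uC⁻¹) = rC
          rw [hswap2 uC huC1, mul_assoc, hqq, mul_one]
        · show qC * (uC * qC * uC⁻¹) = rC
          rw [hswap uC huC1, hrq, ← mul_assoc, hqq, one_mul]
      rw [hvv, (show Commute rC y from (hrCentral y).symm).mul_pow] at hn'
      obtain ⟨hyn, hrn⟩ := hcancel j _ y (H.Vc.pow_mem hrV j) hyD hn'
      have hodd : Odd j := by
        rcases Nat.even_or_odd j with ⟨i, hi⟩ | h
        · rw [hi, ← two_mul, pow_mul, pow_two, hrr, one_pow] at hrn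
          exact absurd hrn.symm hr1
        · exact h
      have h15 : y ^ 15 = 1 := orderOf_dvd_iff_pow_eq_one.1
        (odd_dvd_fifteen (hcard60 _ hyD) (hodd.of_dvd_nat (orderOf_dvd_of_pow_eq_one hyn)))
      have hcond : condU (φ kC, φ uC) = true := by
        simp only [condU, Bool.and_eq_true, decide_eq_true_eq]
        refine ⟨⟨⟨⟨⟨hσ1, hσ2⟩, (hsgn kC).1 hkC1⟩, hτ2⟩, hτ⟩, ?_⟩
        have h := congrArg φ h15
        rw [map_pow, hy, map_mul, map_mul, map_mul, map_inv, hdφ, map_one, inv_eq_of_mul_eq_one_right hτ2] at h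
        exact h
      obtain ⟨hul2, hulφ⟩ := hul _ hτ2 hτ
      set w := (ul (φ uC))⁻¹ * uC with hw
      have hwV : w ∈ H.Vc := by rw [← hker, MonoidHom.mem_ker, map_mul, map_inv, hulφ, inv_mul_cancel]
      have hulout : ul (φ uC) ∉ H.C1c := fun h => by
        have := (hsgn _).1 h
        rw [hulφ, hτ] at this
        exact absurd this (by decide)
      have huw : uC = ul (φ uC) * w := by rw [hw, mul_inv_cancel_left]
      obtain ⟨c, hc⟩ : ∃ c, w = e2 c := by
        have hwfix : ul (φ uC) * w * (ul (φ uC))⁻¹ = w := by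
          have h := huC2
          rw [huw] at h
          have hu' : (ul (φ uC))⁻¹ = ul (φ uC) := inv_eq_of_mul_eq_one_right hul2
          calc ul (φ uC) * w * (ul (φ uC))⁻¹ = (ul (φ uC) * w * (ul (φ uC) * w)) * w⁻¹ := by rw [hu']; group
            _ = w := by rw [h, one_mul, inv_eq_of_mul_eq_one_right (hVsq w hwV)]
        rcases hVmem w hwV with h | h | h | h
        · exact ⟨false, h⟩
        · exact ⟨true, h⟩
        · rw [h, hswap _ hulout] at hwfix
          exact absurd (mul_eq_right.1 hwfix) hr1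
        · rw [h, hswap2 _ hulout] at hwfix
          exact absurd (mul_eq_right.1 hwfix.symm) hr1
      refine ⟨Sum.inr (⟨(φ kC, φ uC), hcond⟩, b, c), Subtype.ext (Prod.ext ?_ ?_)⟩
      · show ((v2 b * dl (φ kC) : H.Cr) : G) = k
        rw [← hd, ← hb, ← hkvd]
      · show ((ul (φ uC) * e2 c : H.Cr) : G) = u
        rw [← hc, ← huw]
  rw [← Nat.card_eq_of_bijective F' ⟨hFinj, hFsurj⟩, Nat.card_sum, Nat.card_prod, Nat.card_prod,
    Nat.card_eq_fintype_card (α := TD), Nat.card_eq_fintype_card (α := TU), count_D, count_U,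
    Nat.card_eq_fintype_card (α := Bool), Fintype.card_bool]

end Hyp

end CfsgLib.AltEightRecog.Nine
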