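import Cfsg.Agent.Lib.AltEightRecog.NineNormal

/-!
The degree nine case: the centraliser of `r` has order 96 or 480.
-/

set_option autoImplicit false
set_option linter.style.haveILetI false

namespace CfsgLib.AltEightRecog.Nine

namespace Hyp

variable {G : Type*} [Group G] (H : Hyp G)

/-- The centraliser of the four-group. -/
abbrev C1 : Subgroup G := Subgroup.centralizer ({H.r} : Set G) ⊓ Subgroup.centralizer ({H.r'} : Set G)

/-- The four-group. -/
def V : Subgroup G :=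
  ({ carrier := {x | inV x = true}
     one_mem' := (by decide +kernel : inV 1 = true)
     mul_mem' := fun {a b} ha hb => (by decide +kernel : ∀ a b : CA, inV a = true → inV b = true → inV (a * b) = true)
       a b ha hb
     inv_mem' := fun {a} ha => (by decide +kernel : ∀ a : CA, inV a = true → inV a⁻¹ = true) a ha } :
    Subgroup CA).map H.D.hom

theorem mem_V {g : G} : g ∈ H.V ↔ ∃ x, inV x = true ∧ H.D.hom x = g := Iff.rfl

theorem card_V : Nat.card H.V = 4 := by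
  rw [H.card_model inV H.V (fun x hx => H.mem_V.2 ⟨x, hx, rfl⟩) (fun g hg => H.mem_V.1 hg)]
  decide +kernel

theorem V_le_AG : H.V ≤ H.AG := fun g hg => by
  obtain ⟨x, hx, rfl⟩ := H.mem_V.1 hg
  exact H.mem_AG.2 ⟨x, (inV_spec x hx).1, rfl⟩

theorem AG_le_C1 : H.AG ≤ H.C1 := fun _ hg => hg.1

theorem V_central {v g : G} (hv : v ∈ H.V) (hg : g ∈ H.C1) : g * v = v * g := by
  obtain ⟨x, hx, rfl⟩ := H.mem_V.1 hv
  obtain ⟨h1, h2⟩ := hg
  have h1' := mem_cent_iff.1 h1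
  have h2' := mem_cent_iff.1 h2
  simp only [inV, Bool.or_eq_true, beq_iff_eq] at hx
  rcases hx with ((rfl | rfl) | rfl) | rfl
  · rw [map_one, mul_one, one_mul]
  · exact h1'
  · exact h2'
  · rw [map_mul]
    exact ((show Commute g H.r from h1').mul_right h2').eq

/-- The four-group as a subgroup of its centraliser. -/
abbrev Vi : Subgroup H.C1 := H.V.subgroupOf H.C1

instance normal_Vi : H.Vi.Normal := ⟨fun v hv g => Subgroup.mem_subgroupOf.2 (by
  show (g : G) * v * (g : G)⁻¹ ∈ H.V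
  rw [H.V_central (Subgroup.mem_subgroupOf.1 hv) g.2, mul_inv_cancel_right]
  exact Subgroup.mem_subgroupOf.1 hv)⟩

/-- The quotient by the four-group. -/
abbrev X0 : Type _ := H.C1 ⧸ H.Vi

variable [Finite G]

omit [Finite G] in
theorem exists_swap : ∃ a : G, a * H.r = H.r * a ∧ a * H.r' * a⁻¹ = H.r * H.r' :=
  ⟨H.D.hom aw, H.hom_comm_iff.2 basic.2.2.2.2.2.2.2.2.2.2.2.2.1, by
    rw [← map_inv, ← map_mul, ← map_mul, ← map_mul, basic.2.2.2.2.2.2.2.2.2.2.2.2.2]⟩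

omit [Finite G] in
theorem r_ne_one : H.r ≠ 1 := CfsgLib.Invol.ne_one_of_invol H.orderOf_r

theorem index_C1 : (H.C1.subgroupOf (Subgroup.centralizer ({H.r} : Set G))).index = 2 := by
  obtain ⟨a, ha, ha'⟩ := H.exists_swap
  rw [Subgroup.index_eq_two_iff]
  refine ⟨⟨a, mem_cent_iff.2 ha⟩, fun b => ?_⟩
  have hb := mem_cent_iff.1 b.2
  have hab : ((b : G) * a) * H.r = H.r * ((b : G) * a) :=
    (Commute.mul_left (show Commute (b : G) H.r from hb) ha).eq
  simp only [Subgroup.mem_subgroupOf, Subgroup.mem_inf, Subgroup.coe_mul, mem_cent_iff, hb, hab, true_and]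
  have hne : H.r * H.r' ≠ H.r' := fun e => H.r_ne_one (mul_right_cancel (e.trans (one_mul _).symm))
  have h1 : (b : G) * a * H.r' * ((b : G) * a)⁻¹ = H.r * ((b : G) * H.r' * (b : G)⁻¹) := by
    calc (b : G) * a * H.r' * ((b : G) * a)⁻¹ = (b : G) * (a * H.r' * a⁻¹) * (b : G)⁻¹ := by group
      _ = (b : G) * H.r * H.r' * (b : G)⁻¹ := by rw [ha']; group
      _ = _ := by rw [hb]; group
  rcases H.orbit hb with h | h
  · rw [h] at h1
    refine Or.inr ⟨mul_inv_eq_iff_eq_mul.1 h, fun e => hne ?_⟩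
    rw [← h1, e, mul_inv_cancel_right]
  · rw [h, ← mul_assoc, H.r_sq, one_mul] at h1
    refine Or.inl ⟨mul_inv_eq_iff_eq_mul.1 h1, fun e => hne ?_⟩
    rw [← h, e, mul_inv_cancel_right]

theorem card_C : Nat.card (Subgroup.centralizer ({H.r} : Set G)) = 2 * Nat.card H.C1 := by
  rw [← Subgroup.card_mul_index (H.C1.subgroupOf (Subgroup.centralizer ({H.r} : Set G))), H.index_C1,
    Nat.card_congr (Subgroup.subgroupOfEquivOfLe (inf_le_left : H.C1 ≤ _)).toEquiv]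
  ring

omit [Finite G] in
theorem card_X0 : Nat.card H.C1 = 4 * Nat.card H.X0 := by
  rw [← Subgroup.card_mul_index H.Vi,
    Nat.card_congr (Subgroup.subgroupOfEquivOfLe (H.V_le_AG.trans H.AG_le_C1)).toEquiv, H.card_V]
  rfl

/-- The image of the elementary group of order 16. -/
abbrev B : Subgroup H.X0 := (H.AG.subgroupOf H.C1).map (QuotientGroup.mk' H.Vi)

omit [Finite G] in
theorem mem_B {q : H.X0} : q ∈ H.B ↔ ∃ x, inA x = true ∧ ∃ h : H.D.hom x ∈ H.C1,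
    (QuotientGroup.mk' H.Vi) ⟨H.D.hom x, h⟩ = q := by
  constructor
  · rintro ⟨a, ha, rfl⟩
    obtain ⟨x, hx, he⟩ := H.mem_AG.1 (Subgroup.mem_subgroupOf.1 ha)
    exact ⟨x, hx, he ▸ a.2, congrArg _ (Subtype.ext he)⟩
  · rintro ⟨x, hx, h, rfl⟩
    exact ⟨_, Subgroup.mem_subgroupOf.2 (H.mem_AG.2 ⟨x, hx, rfl⟩), rfl⟩

omit [Finite G] in
theorem card_B : Nat.card H.B = 4 := by
  have hle : H.Vi ≤ H.AG.subgroupOf H.C1 := fun a ha => Subgroup.mem_subgroupOf.2 (H.V_le_AG ha)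
  set A' := H.AG.subgroupOf H.C1 with hA'
  have hker : ((QuotientGroup.mk' H.Vi).comp A'.subtype).ker = H.Vi.subgroupOf A' := by
    rw [← MonoidHom.comap_ker, QuotientGroup.ker_mk']
    rfl
  have h1 := Subgroup.card_mul_index ((QuotientGroup.mk' H.Vi).comp A'.subtype).ker
  rw [Subgroup.index_ker, MonoidHom.range_comp, Subgroup.range_subtype, hker,
    Nat.card_congr (Subgroup.subgroupOfEquivOfLe hle).toEquiv,
    Nat.card_congr (Subgroup.subgroupOfEquivOfLe (H.V_le_AG.trans H.AG_le_C1)).toEquiv, H.card_V,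
    Nat.card_congr (Subgroup.subgroupOfEquivOfLe H.AG_le_C1).toEquiv, H.card_AG] at h1
  change 4 * Nat.card H.B = 16 at h1
  omega

omit [Finite G] in
theorem B_sq : ∀ b ∈ H.B, b * b = 1 := by
  intro b hb
  obtain ⟨x, hx, h, rfl⟩ := H.mem_B.1 hb
  rw [← map_mul, show (⟨H.D.hom x, h⟩ : H.C1) * ⟨H.D.hom x, h⟩ = 1 from Subtype.ext (by
    show H.D.hom x * H.D.hom x = 1
    rw [← map_mul, (inA_elem x hx).1, map_one]), map_one]

omit [Finite G] in
theorem mk_eq_one {a : H.C1} : (QuotientGroup.mk' H.Vi) a = 1 ↔ (a : G) ∈ H.V := by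
  rw [QuotientGroup.mk'_apply, QuotientGroup.eq_one_iff]; rfl

theorem cent_B : ∀ b ∈ H.B, b ≠ 1 → Subgroup.centralizer ({b} : Set H.X0) = H.B := by
  intro b hb hb1
  refine le_antisymm (fun q hq => ?_) (fun q hq => ?_)
  swap
  · rw [mem_cent_iff]
    obtain ⟨x, hx, h, rfl⟩ := H.mem_B.1 hb
    obtain ⟨y, hy, h', rfl⟩ := H.mem_B.1 hq
    rw [← map_mul, ← map_mul]
    exact congrArg _ (Subtype.ext (H.hom_comm_iff.2 ((inA_elem y hy).2 x hx)))
  obtain ⟨y, hy, hyC, rfl⟩ := H.mem_B.1 hb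
  obtain ⟨u, hu, hv, huU, hu2⟩ := inA_decomp y hy
  obtain ⟨x, rfl⟩ := QuotientGroup.mk'_surjective H.Vi q
  have hu1 : u ≠ 1 := fun e => hb1 (H.mk_eq_one.2 (H.mem_V.2 ⟨y, by simpa [e] using hv, rfl⟩))
  have huA := (inU_inA u huU).1
  have huC : H.D.hom u ∈ H.C1 := H.AG_le_C1 (H.mem_AG.2 ⟨u, huA, rfl⟩)
  have hyu : (QuotientGroup.mk' H.Vi) ⟨H.D.hom y, hyC⟩ = (QuotientGroup.mk' H.Vi) ⟨H.D.hom u, huC⟩ := by
    rw [← mul_inv_eq_one, ← map_inv, ← map_mul, H.mk_eq_one]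
    refine H.mem_V.2 ⟨y * u, hv, ?_⟩
    show H.D.hom (y * u) = H.D.hom y * (H.D.hom u)⁻¹
    rw [map_mul, ← map_inv, inv_eq_of_mul_eq_one_right hu2]
  rw [mem_cent_iff, hyu] at hq
  have hV : (QuotientGroup.mk' H.Vi) (x * ⟨H.D.hom u, huC⟩ * x⁻¹ * ⟨H.D.hom u, huC⟩⁻¹) = 1 := by
    simp only [map_mul, map_inv]
    rw [hq, mul_inv_cancel_right, mul_inv_cancel]
  obtain ⟨v, hvV, hve⟩ := H.mem_V.1 (H.mk_eq_one.1 hV)
  have hve' : H.D.hom v = (x : G) * H.D.hom u * (x : G)⁻¹ * (H.D.hom u)⁻¹ := hve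
  have hconj : H.D.hom (v * u) = (x : G) * H.D.hom u * (x : G)⁻¹ := by
    rw [map_mul, hve', inv_mul_cancel_right]
  have hvu : isR (v * u) = true := (H.isR_iff _).1 (hconj ▸
    ((H.isR_iff u).2 ((inU_inA u huU).2 hu1)).trans (isConj_iff.2 ⟨x, rfl⟩))
  have hv1 : v = 1 := by
    by_contra hne
    have := (inU_K v hvV u huU hu1).2 hne
    simp [isR, this] at hvu
  rw [hv1, one_mul] at hconj
  have hxu : (x : G) * H.D.hom u = H.D.hom u * x := mul_inv_eq_iff_eq_mul.1 hconj.symm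
  have hkK : IsConj H.s (H.D.hom (ar * u)) :=
    (H.K_iff _).2 ((inU_K ar (by decide +kernel) u huU hu1).2 basic.2.1)
  obtain ⟨hxr, hxr'⟩ := x.2
  have hxr0 := mem_cent_iff.1 hxr
  have hxr0' := mem_cent_iff.1 hxr'
  have hk : ∀ z : CA, inV z = true → H.D.hom (ar * u) * H.D.hom z = H.D.hom z * H.D.hom (ar * u) := fun z hz =>
    H.hom_comm_iff.2 (by
      have h1 := inV_central u huA z hz
      have h2 := inV_central ar ((inV_spec ar (by decide +kernel)).1) z hz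
      rw [mul_assoc, h1, ← mul_assoc, h2, mul_assoc])
  have hkr : H.D.hom (ar * u) * H.r = H.r * H.D.hom (ar * u) := hk ar (by decide +kernel)
  have hkr' : H.D.hom (ar * u) * H.r' = H.r' * H.D.hom (ar * u) := hk ar' (by decide +kernel)
  set T := Subgroup.centralizer ({H.r} : Set G) ⊓ Subgroup.centralizer ({H.r'} : Set G) ⊓
    Subgroup.centralizer ({H.D.hom (ar * u)} : Set G) with hT
  have hAT : H.AG ≤ T := fun g hg => by
    refine ⟨hg.1, mem_cent_iff.2 ?_⟩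
    obtain ⟨z, hz, rfl⟩ := H.mem_AG.1 hg
    refine H.hom_comm_iff.2 ((inA_elem z hz).2 _ ?_)
    obtain ⟨w, hw, he⟩ := H.mem_AG.1 (H.AG.mul_mem
      (H.mem_AG.2 ⟨ar, (inV_spec ar (by decide +kernel)).1, rfl⟩) (H.mem_AG.2 ⟨u, huA, rfl⟩))
    rw [← map_mul] at he
    exact H.D.inj he ▸ hw
  have hle16 : Nat.card T ≤ 16 := H.triple_le (IsConj.refl _) H.conj_r_r'
    (fun e => basic.2.2.2.2.2.1 (H.D.inj e)) H.r_comm_r' H.conj_r_rr' hkK hkr hkr'
  have hTA : T = H.AG := (Subgroup.eq_of_le_of_card_ge hAT (by rw [H.card_AG]; exact hle16)).symm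
  have hxT : (x : G) ∈ T := ⟨x.2, mem_cent_iff.2 (by
    rw [map_mul]
    exact ((show Commute (x : G) H.r from hxr0).mul_right hxu).eq)⟩
  exact ⟨x, Subgroup.mem_subgroupOf.2 (hTA ▸ hxT), rfl⟩

theorem not_eight_dvd_X0 : ¬ 8 ∣ Nat.card H.X0 := fun h => H.not_sixtyfour_dvd (by
  rw [H.card_C, H.card_X0]; omega)

theorem X0_spec : (Nat.card H.X0 = 12 ∨ Nat.card H.X0 = 60) ∧
    ∀ u v : H.X0, orderOf u = 2 → orderOf v = 2 → IsConj u v := by
  rcases card_four_sylow H.B H.card_B H.B_sq H.not_eight_dvd_X0 H.cent_B with h | h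
  · exfalso
    have h1 := Subgroup.card_le_of_le (inf_le_left :
      Subgroup.centralizer ({H.r} : Set G) ⊓ H.G0 ≤ Subgroup.centralizer ({H.r} : Set G))
    rw [H.card_cent_r_G0, H.card_C, H.card_X0, h] at h1
    omega
  · exact h

end Hyp

end CfsgLib.AltEightRecog.Nine
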