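import Cfsg.Agent.Lib.AltEightRecog.ShapeCore
import Cfsg.Agent.Lib.M12Recog.Setup
import Cfsg.Agent.Lib.Extraspecial.Card
import Cfsg.Prelude.Def_Solvable
import Mathlib.GroupTheory.Sylow
import Mathlib.GroupTheory.SpecificGroups.Cyclic

/-!
The centraliser in the hypotheses of the characterisation of Alt(8), Alt(9) and M12 is one of the two models.
-/

set_option autoImplicit false
set_option maxHeartbeats 1000000

namespace CfsgLib.AltEightRecog

variable {G : Type*} [Group G] [Finite G] {s : G} {Q : Subgroup G} {r t : G} (C : Core s Q r t)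
include C

section Span

variable {a b : G} (ha : a ∈ Q) (hb : b ∈ Q) {P : Par}
  (hR : (⟨s, a, MulAut.conj r a, b, MulAut.conj r b, r, t⟩ : Sys G).Rel P)

/-- The word map of a system of letters. -/
local notation "wd" => Sys.word (Sys.mk s a (MulAut.conj r a) b (MulAut.conj r b) r t)

include ha hb

theorem Core.word_qForm_mem (i x y u v : Bool) : wd (qForm i x y u v) ∈ Q := by
  have hp : ∀ (g : G) (c : Bool), g ∈ Q → pw g c ∈ Q := fun g c hg => by cases c; exacts [Q.one_mem, hg]
  simp only [Sys.word, qForm, Fin.val_zero, pow_zero, pw_false, mul_one]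
  exact Q.mul_mem (C.pw_mem i) (Q.mul_mem (hp _ _ ha) (Q.mul_mem (hp _ _ (C.mem_r ha))
    (Q.mul_mem (hp _ _ hb) (hp _ _ (C.mem_r hb)))))

include hR

theorem Core.word_qForm_mul (i x y u v i' x' y' u' v' : Bool) :
    ∃ i'' x'' y'' u'' v'', wd (qForm i x y u v) * wd (qForm i' x' y' u' v') = wd (qForm i'' x'' y'' u'' v'') ∧
      nMul P (qForm i x y u v) (qForm i' x' y' u' v') = qForm i'' x'' y'' u'' v'' := by
  obtain ⟨p, q, m, e⟩ := P
  have h := qForm_mul p q m e i x y u v i' x' y' u' v'
  rcases hn : nMul ⟨p, q, m, e⟩ (qForm i x y u v) (qForm i' x' y' u' v') with ⟨i'', x'', y'', u'', v'', k, l⟩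
  rw [hn] at h
  simp only [NF.inQ, Bool.and_eq_true, beq_iff_eq, Bool.not_eq_true'] at h
  obtain ⟨rfl, rfl⟩ := h
  exact ⟨i'', x'', y'', u'', v'', by rw [← hR.word_mul, hn]; rfl, rfl⟩

theorem Core.word_qForm_injective
    (hker : ∀ i x y u v, wd (qForm i x y u v) = 1 → qForm i x y u v = NF.one)
    {i x y u v i' x' y' u' v' : Bool} (he : wd (qForm i x y u v) = wd (qForm i' x' y' u' v')) :
    qForm i x y u v = qForm i' x' y' u' v' := by
  obtain ⟨p, q, m, e⟩ := P
  obtain ⟨a1, a2, a3, a4, a5, e1, f1⟩ := C.word_qForm_mul ha hb hR i x y u v i x y u v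
  obtain ⟨b1, b2, b3, b4, b5, e2, f2⟩ := C.word_qForm_mul ha hb hR i x y u v a1 a2 a3 a4 a5
  obtain ⟨c1, c2, c3, c4, c5, e3, f3⟩ := C.word_qForm_mul ha hb hR b1 b2 b3 b4 b5 i' x' y' u' v'
  refine qForm_cancel p q m e i x y u v i' x' y' u' v' ?_
  rw [f1, f2, f3]
  refine hker _ _ _ _ _ ?_
  rw [← e3, ← e2, ← e1, ← he]
  set w := wd (qForm i x y u v)
  have hw : w ∈ Q := C.word_qForm_mem ha hb _ _ _ _ _
  obtain ⟨d, hd⟩ := C.sq_pw hw
  rw [hd, mul_assoc, C.pw_comm' d (C.central w hw) w, hd, C.pw_pw, Bool.xor_self, pw_false]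

/-- An injective word map on extraspecial forms fills `Q`. -/
theorem Core.exists_qForm
    (hker : ∀ i x y u v, wd (qForm i x y u v) = 1 → qForm i x y u v = NF.one) {g : G} (hg : g ∈ Q) :
    ∃ i x y u v, g = wd (qForm i x y u v) := by
  classical
  let f : Bool × Bool × Bool × Bool × Bool → Q := fun w =>
    ⟨wd (qForm w.1 w.2.1 w.2.2.1 w.2.2.2.1 w.2.2.2.2), C.word_qForm_mem ha hb _ _ _ _ _⟩
  have hf : Function.Injective f := by
    rintro ⟨i, x, y, u, v⟩ ⟨i', x', y', u', v'⟩ he
    have := C.word_qForm_injective ha hb hR hker (congrArg Subtype.val he)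
    simp only [qForm, NF.mk.injEq] at this
    obtain ⟨rfl, rfl, rfl, rfl, rfl, -⟩ := this
    rfl
  have := Fintype.ofFinite Q
  obtain ⟨⟨i, x, y, u, v⟩, hw⟩ := ((Fintype.bijective_iff_injective_and_card f).2 ⟨hf, by
    rw [← Nat.card_eq_fintype_card (α := Q), C.cardQ]; rfl⟩).2 ⟨g, hg⟩
  exact ⟨i, x, y, u, v, (congrArg Subtype.val hw).symm⟩

/-- The forms fill `Q` as soon as the letters generate it. -/
theorem Core.exists_qForm_of_gen
    (hgen : Q ≤ Subgroup.closure {s, a, MulAut.conj r a, b, MulAut.conj r b}) {g : G} (hg : g ∈ Q) :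
    ∃ i x y u v, g = wd (qForm i x y u v) := by
  have hg' := hgen hg
  clear hg
  induction hg' using Subgroup.closure_induction with
  | mem u hu =>
    simp only [Set.mem_insert_iff, Set.mem_singleton_iff] at hu
    rcases hu with rfl | rfl | rfl | rfl | rfl
    · exact ⟨true, false, false, false, false, by simp [Sys.word, qForm, pw]⟩
    · exact ⟨false, true, false, false, false, by simp [Sys.word, qForm, pw]⟩
    · exact ⟨false, false, true, false, false, by simp [Sys.word, qForm, pw]⟩
    · exact ⟨false, false, false, true, false, by simp [Sys.word, qForm, pw]⟩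
    · exact ⟨false, false, false, false, true, by simp [Sys.word, qForm, pw]⟩
  | one => exact ⟨false, false, false, false, false, by simp [Sys.word, qForm, pw]⟩
  | mul u w _ _ h1 h2 =>
    obtain ⟨i, x, y, u, v, rfl⟩ := h1
    obtain ⟨i', x', y', u', v', rfl⟩ := h2
    obtain ⟨a1, a2, a3, a4, a5, e1, -⟩ := C.word_qForm_mul ha hb hR i x y u v i' x' y' u' v'
    exact ⟨a1, a2, a3, a4, a5, e1⟩
  | inv w _ h1 =>
    obtain ⟨i, x, y, u, v, rfl⟩ := h1
    obtain ⟨a1, a2, a3, a4, a5, e1, -⟩ := C.word_qForm_mul ha hb hR i x y u v i x y u v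
    obtain ⟨b1, b2, b3, b4, b5, e2, -⟩ := C.word_qForm_mul ha hb hR i x y u v a1 a2 a3 a4 a5
    refine ⟨b1, b2, b3, b4, b5, inv_eq_of_mul_eq_one_right ?_⟩
    rw [← e2, ← e1]
    have hm := C.word_qForm_mem ha hb (r := r) i x y u v
    obtain ⟨d, hd⟩ := C.sq_pw hm
    rw [← mul_assoc, hd, C.pw_pw, Bool.xor_self, pw_false]

/-- When the letters generate `Q`, the word map is a bijection onto the centraliser. -/
theorem Core.word_bijective
    (hgen : Q ≤ Subgroup.closure {s, a, MulAut.conj r a, b, MulAut.conj r b}) :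
    Function.Injective wd ∧ (∀ n, wd n * s = s * wd n) ∧ ∀ x : G, x * s = s * x → ∃ n, wd n = x := by
  classical
  have hcomm : ∀ n, wd n * s = s * wd n := fun n => by
    have hp : ∀ (g : G) (c : Bool), g * s = s * g → Commute (pw g c) s := fun g c hg => by
      cases c; exacts [Commute.one_left s, hg]
    exact ((hp _ _ rfl).mul_left ((hp _ _ (C.central a ha)).mul_left ((hp _ _ (C.central _ (C.mem_r ha))).mul_left
      ((hp _ _ (C.central b hb)).mul_left ((hp _ _ (C.central _ (C.mem_r hb))).mul_left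
        (((show Commute r s from C.rs).pow_left _).mul_left (hp _ _ C.ts))))))).eq
  have hsurj : ∀ x : G, x * s = s * x → ∃ n, wd n = x := by
    intro x hx
    obtain ⟨q, hq, k, l, rfl⟩ := C.surj x hx
    obtain ⟨i, x, y, u, v, rfl⟩ := C.exists_qForm_of_gen ha hb hR hgen hq
    refine ⟨nMul P (qForm i x y u v) ⟨false, false, false, false, false, k, l⟩, ?_⟩
    rw [hR.word_mul, pw_tail, pw_false, one_mul]
  refine ⟨?_, hcomm, hsurj⟩
  let f : NF → Subgroup.centralizer ({s} : Set G) := fun n =>
    ⟨wd n, Subgroup.mem_centralizer_singleton_iff.2 (hcomm n)⟩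
  have hfs : Function.Surjective f := fun x => by
    obtain ⟨n, hn⟩ := hsurj x (Subgroup.mem_centralizer_singleton_iff.1 x.2)
    exact ⟨n, Subtype.ext hn⟩
  have := Fintype.ofFinite (Subgroup.centralizer ({s} : Set G))
  have hb := (Fintype.bijective_iff_surjective_and_card f).2 ⟨hfs, by
    rw [← Nat.card_eq_fintype_card, ← Nat.card_eq_fintype_card, NF.card, C.cardL]⟩
  exact fun n m he => hb.1 (Subtype.ext he)

end Span

theorem Core.inv_eq {x : G} (hx : x ∈ Q) : ∃ d, x⁻¹ = pw s d * x := by
  obtain ⟨d, hd⟩ := C.sq_pw hx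
  exact ⟨d, inv_eq_of_mul_eq_one_right (by
    rw [C.pw_comm' d (C.central x hx), hd, C.pw_pw, Bool.xor_self, pw_false])⟩

/-- A generating pair of lifted elements fixed by `t` up to the centre. -/
theorem Core.exists_pair : ∃ a b, a ∈ Q ∧ b ∈ Q ∧
    MulAut.conj r (MulAut.conj r a) = a * MulAut.conj r a ∧
    MulAut.conj r (MulAut.conj r b) = b * MulAut.conj r b ∧
    (∃ c, MulAut.conj t a = pw s c * a) ∧ (∃ c, MulAut.conj t b = pw s c * b) ∧
    Q ≤ Subgroup.closure {s, a, MulAut.conj r a, b, MulAut.conj r b} := by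
  classical
  obtain ⟨a0, ha0, ⟨α, hα⟩, ha1, has⟩ := C.exists_first
  obtain ⟨ca, hca⟩ := C.exists_lift ha0
  set a := pw s ca * a0 with hadef
  have ha : a ∈ Q := Q.mul_mem (C.pw_mem ca) ha0
  have hta : ∃ c, MulAut.conj t a = pw s c * a :=
    ⟨α, by rw [hadef, map_mul, C.conj_pw ca C.ts, hα, C.pw_pw', C.pw_pw', Bool.xor_comm]⟩
  have hane : ∀ d, a ≠ pw s d := fun d he => by
    have h1 : a0 = pw s (Bool.xor ca d) := by
      rw [← C.pw_pw, ← he, hadef, C.pw_pw', Bool.xor_self, pw_false, one_mul]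
    revert h1
    cases Bool.xor ca d
    · exact fun h => ha1 h
    · exact fun h => has h
  have hca1 : ∀ d, MulAut.conj r a ≠ pw s d := fun d he =>
    hane d ((MulAut.conj r).injective (he.trans (C.conj_pw d C.rs).symm))
  set V := Subgroup.closure {s, a, MulAut.conj r a}
  have hsV : s ∈ V := Subgroup.subset_closure (by simp)
  have haV : a ∈ V := Subgroup.subset_closure (by simp)
  have hcaV : MulAut.conj r a ∈ V := Subgroup.subset_closure (by simp)
  obtain ⟨y, hy, hyV⟩ : ∃ y ∈ Q, y ∉ V := by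
    by_contra h
    push Not at h
    obtain ⟨P, hR⟩ := C.derive ha ha hca hca hta hta
    have hgen : Q ≤ Subgroup.closure {s, a, MulAut.conj r a, a, MulAut.conj r a} := fun g hg =>
      (Subgroup.closure_mono (by intro w; simp only [Set.mem_insert_iff, Set.mem_singleton_iff]; tauto)) (h g hg)
    have := (C.word_bijective ha ha hR hgen).1
      (a₁ := qForm false true false false false) (a₂ := qForm false false false true false)
      (by simp [Sys.word, qForm, pw])
    exact absurd this (by decide)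
  obtain ⟨b0, hb0, ⟨β, hβ⟩, hb0V⟩ := C.exists_second ha hca hy hyV
  obtain ⟨cb, hcb⟩ := C.exists_lift hb0
  set b := pw s cb * b0 with hbdef
  have hb : b ∈ Q := Q.mul_mem (C.pw_mem cb) hb0
  have htb : ∃ c, MulAut.conj t b = pw s c * b :=
    ⟨β, by rw [hbdef, map_mul, C.conj_pw cb C.ts, hβ, C.pw_pw', C.pw_pw', Bool.xor_comm]⟩
  have hpV : ∀ i, pw s i ∈ V := fun i => by cases i; exacts [V.one_mem, hsV]
  have hbV : b ∉ V := fun h => hb0V ((V.mul_mem_cancel_left (hpV cb)).1 h)
  have hcV : ∀ v ∈ V, MulAut.conj r v ∈ V := by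
    intro v hv
    induction hv using Subgroup.closure_induction with
    | mem u hu =>
      simp only [Set.mem_insert_iff, Set.mem_singleton_iff] at hu
      rcases hu with rfl | rfl | rfl
      · rw [show MulAut.conj r u = u from C.conj_pw true C.rs]; exact hsV
      · exact hcaV
      · rw [hca]; exact V.mul_mem haV hcaV
    | one => rw [map_one]; exact V.one_mem
    | mul u w _ _ h1 h2 => rw [map_mul]; exact V.mul_mem h1 h2
    | inv u _ h1 => rw [map_inv]; exact V.inv_mem h1
  refine ⟨a, b, ha, hb, hca, hcb, hta, htb, ?_⟩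
  obtain ⟨P, hR⟩ := C.derive ha hb hca hcb hta htb
  have hker : ∀ i x y u v,
      Sys.word (Sys.mk s a (MulAut.conj r a) b (MulAut.conj r b) r t) (qForm i x y u v) = 1 →
        qForm i x y u v = NF.one := by
    intro i x y u v h1
    simp only [Sys.word, qForm, Fin.val_zero, pow_zero, pw_false, mul_one] at h1
    have hrest : pw b u * pw (MulAut.conj r b) v ∈ V := by
      have h2 : pw s i * (pw a x * pw (MulAut.conj r a) y) ∈ V := V.mul_mem (hpV i)
        (V.mul_mem (by cases x; exacts [V.one_mem, haV]) (by cases y; exacts [V.one_mem, hcaV]))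
      refine (V.mul_mem_cancel_left h2).1 ?_
      rw [show pw s i * (pw a x * pw (MulAut.conj r a) y) * (pw b u * pw (MulAut.conj r b) v) = 1 by
        rw [← h1]; simp only [mul_assoc]]
      exact V.one_mem
    have hbc : MulAut.conj r b ∉ V := fun h => hbV (by
      have := hcV _ (hcV _ h)
      rwa [C.rrr_apply] at this)
    have hbbc : b * MulAut.conj r b ∉ V := fun h => hbV (by
      rw [← hcb] at h
      have := hcV _ h
      rwa [C.rrr_apply] at this)
    have huv : u = false ∧ v = false := by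
      cases u <;> cases v
      · exact ⟨rfl, rfl⟩
      · exact absurd (by simpa [pw] using hrest) hbc
      · exact absurd (by simpa [pw] using hrest) hbV
      · exact absurd (by simpa [pw] using hrest) hbbc
    obtain ⟨rfl, rfl⟩ := huv
    have hac : ∀ d, a * MulAut.conj r a ≠ pw s d := fun d he => by
      refine hca1 d ((MulAut.conj r).injective ?_)
      rw [hca, he, C.conj_pw d C.rs]
    have hii : pw s i * pw s i = 1 := by rw [C.pw_pw, Bool.xor_self, pw_false]
    simp only [pw_false, mul_one] at h1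
    cases x <;> cases y
    · simp only [pw_false, mul_one] at h1
      rw [show i = false from C.pw_inj (h1.trans (pw_false s).symm)]
      rfl
    · refine absurd ?_ (hca1 i)
      have := eq_inv_of_mul_eq_one_right h1
      rw [inv_eq_of_mul_eq_one_right hii] at this
      simpa [pw_true, pw_false] using this
    · refine absurd ?_ (hane i)
      have := eq_inv_of_mul_eq_one_right h1
      rw [inv_eq_of_mul_eq_one_right hii] at this
      simpa [pw_true, pw_false] using this
    · refine absurd ?_ (hac i)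
      have := eq_inv_of_mul_eq_one_right h1
      rw [inv_eq_of_mul_eq_one_right hii] at this
      simpa [pw_true, pw_false] using this
  intro g hg
  obtain ⟨i, x, y, u, v, rfl⟩ := C.exists_qForm ha hb hR hker hg
  · set U := Subgroup.closure {s, a, MulAut.conj r a, b, MulAut.conj r b}
    have hp : ∀ (g : G) (c : Bool), g ∈ U → pw g c ∈ U := fun g c hg => by cases c; exacts [U.one_mem, hg]
    simp only [Sys.word, qForm, Fin.val_zero, pow_zero, pw_false, mul_one]
    refine U.mul_mem (hp _ _ ?_) (U.mul_mem (hp _ _ ?_) (U.mul_mem (hp _ _ ?_) (U.mul_mem (hp _ _ ?_) (hp _ _ ?_))))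
    all_goals exact Subgroup.subset_closure (by simp)

/-- Letters with admissible parameters. -/
theorem Core.exists_good : ∃ a b, a ∈ Q ∧ b ∈ Q ∧ ∃ p m e, p ≠ m ∧
    (⟨s, a, MulAut.conj r a, b, MulAut.conj r b, r, t⟩ : Sys G).Rel ⟨p, p, m, e⟩ ∧
    Q ≤ Subgroup.closure {s, a, MulAut.conj r a, b, MulAut.conj r b} := by
  classical
  obtain ⟨a, b, ha, hb, hna, hnb, hta, htb, hgen⟩ := C.exists_pair
  have good : ∀ {a b : G}, a ∈ Q → b ∈ Q → ∀ {p q m e : Bool},
      (⟨s, a, MulAut.conj r a, b, MulAut.conj r b, r, t⟩ : Sys G).Rel ⟨p, q, m, e⟩ →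
      Q ≤ Subgroup.closure {s, a, MulAut.conj r a, b, MulAut.conj r b} →
      (p = q ∧ p ≠ m) ∨ (p ≠ q ∧ m = true) := by
    intro a b ha hb p q m e hR hgen
    by_contra hbad
    have hb' : (p = false ∧ q = false ∧ m = false) ∨ (p = true ∧ q = true ∧ m = true) ∨ (p ≠ q ∧ m = false) := by
      revert hbad; cases p <;> cases q <;> cases m <;> decide
    obtain ⟨i, x, y, u, v, h1, h2, hall⟩ := central_of_bad p q m e hb'
    obtain ⟨hinj, -, -⟩ := C.word_bijective ha hb hR hgen
    rcases C.cent _ (C.word_qForm_mem ha hb i x y u v) (fun g hg => by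
      obtain ⟨i', x', y', u', v', rfl⟩ := C.exists_qForm_of_gen ha hb hR hgen hg
      rw [← hR.word_mul, ← hR.word_mul, hall]) with h | h
    · exact h1 (hinj (h.trans Sys.word_one.symm))
    · exact h2 (hinj (h.trans (by rw [Sys.word_zed])))
  obtain ⟨⟨p, q, m, e⟩, hR⟩ := C.derive ha hb hna hnb hta htb
  rcases good ha hb hR hgen with ⟨rfl, hpm⟩ | ⟨hpq, rfl⟩
  · exact ⟨a, b, ha, hb, p, m, e, hpm, hR, hgen⟩
  -- the product of the pair, lifted
  obtain ⟨α, hα⟩ := hta
  obtain ⟨β, hβ⟩ := htb
  obtain ⟨d, hd⟩ := C.exists_lift (Q.mul_mem ha hb)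
  set ab := pw s d * (a * b) with habdef
  have hab : ab ∈ Q := Q.mul_mem (C.pw_mem d) (Q.mul_mem ha hb)
  have htab : ∃ c, MulAut.conj t ab = pw s c * ab := by
    refine ⟨Bool.xor α β, ?_⟩
    rw [habdef, map_mul, map_mul, C.conj_pw d C.ts, hα, hβ, mul_assoc (pw s α), C.pw_comm' β (C.central a ha),
      C.pw_pw', C.pw_pw', C.pw_pw']
    cases α <;> cases β <;> cases d <;> rfl
  have hsq : ab * ab = pw s true := by
    have hb_a : b * a = a * b := hR.ba
    have haa : a * a = pw s p := hR.aa
    have hbb : b * b = pw s q := hR.bb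
    calc ab * ab = pw s d * (pw s d * ((a * b) * (a * b))) := by
          rw [habdef, mul_assoc, C.pw_comm' d (C.central _ (Q.mul_mem ha hb))]
      _ = (a * b) * (a * b) := by rw [C.pw_pw', Bool.xor_self, pw_false, one_mul]
      _ = a * (b * a) * b := by simp only [mul_assoc]
      _ = (a * a) * (b * b) := by rw [hb_a]; simp only [mul_assoc]
      _ = pw s (Bool.xor p q) := by rw [haa, hbb, C.pw_pw]
      _ = _ := by revert hpq; cases p <;> cases q <;> simp
  have conv : ∀ {u v : G}, u ∈ Q → v ∈ Q →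
      a ∈ Subgroup.closure {s, u, MulAut.conj r u, v, MulAut.conj r v} →
      b ∈ Subgroup.closure {s, u, MulAut.conj r u, v, MulAut.conj r v} →
      MulAut.conj r a ∈ Subgroup.closure {s, u, MulAut.conj r u, v, MulAut.conj r v} →
      MulAut.conj r b ∈ Subgroup.closure {s, u, MulAut.conj r u, v, MulAut.conj r v} →
      Q ≤ Subgroup.closure {s, u, MulAut.conj r u, v, MulAut.conj r v} := by
    intro u v _ _ h1 h2 h3 h4
    refine hgen.trans ((Subgroup.closure_le _).2 ?_)
    intro w hw
    simp only [Set.mem_insert_iff, Set.mem_singleton_iff] at hw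
    rcases hw with rfl | rfl | rfl | rfl | rfl
    exacts [Subgroup.subset_closure (by simp), h1, h3, h2, h4]
  have hrab : MulAut.conj r ab = pw s d * (MulAut.conj r a * MulAut.conj r b) := by
    rw [habdef, map_mul, map_mul, C.conj_pw d C.rs]
  cases hp : p
  · -- `b` and the product
    subst hp
    have hq : q = true := by revert hpq; cases q <;> simp
    subst hq
    have hgen' : Q ≤ Subgroup.closure {s, ab, MulAut.conj r ab, b, MulAut.conj r b} := by
      set U := Subgroup.closure {s, ab, MulAut.conj r ab, b, MulAut.conj r b}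
      have hs' : s ∈ U := Subgroup.subset_closure (by simp)
      have hp' : pw s d ∈ U := by cases d; exacts [U.one_mem, hs']
      have hb' : b ∈ U := Subgroup.subset_closure (by simp)
      have hrb' : MulAut.conj r b ∈ U := Subgroup.subset_closure (by simp)
      refine conv hab hb ?_ hb' ?_ hrb'
      · refine (U.mul_mem_cancel_right hb').1 ((U.mul_mem_cancel_left hp').1 ?_)
        exact Subgroup.subset_closure (by simp [habdef])
      · refine (U.mul_mem_cancel_right hrb').1 ((U.mul_mem_cancel_left hp').1 ?_)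
        rw [← hrab]
        exact Subgroup.subset_closure (by simp)
    obtain ⟨⟨p', q', m', e'⟩, hR'⟩ := C.derive hab hb hd hnb htab ⟨β, hβ⟩
    have e1 : p' = true := C.pw_inj (hR'.aa.symm.trans hsq)
    have e2 : q' = true := C.pw_inj (hR'.bb.symm.trans hR.bb)
    subst e1 e2
    rcases good hab hb hR' hgen' with ⟨-, hpm⟩ | ⟨h, -⟩
    · exact ⟨ab, b, hab, hb, true, m', e', hpm, hR', hgen'⟩
    · exact absurd rfl h
  · -- `a` and the product
    subst hp
    have hgen' : Q ≤ Subgroup.closure {s, a, MulAut.conj r a, ab, MulAut.conj r ab} := by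
      set U := Subgroup.closure {s, a, MulAut.conj r a, ab, MulAut.conj r ab}
      have hs' : s ∈ U := Subgroup.subset_closure (by simp)
      have hp' : pw s d ∈ U := by cases d; exacts [U.one_mem, hs']
      have ha' : a ∈ U := Subgroup.subset_closure (by simp)
      have hra' : MulAut.conj r a ∈ U := Subgroup.subset_closure (by simp)
      refine conv ha hab ha' ?_ hra' ?_
      · refine (U.mul_mem_cancel_left ha').1 ((U.mul_mem_cancel_left hp').1 ?_)
        exact Subgroup.subset_closure (by simp [habdef])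
      · refine (U.mul_mem_cancel_left hra').1 ((U.mul_mem_cancel_left hp').1 ?_)
        rw [← hrab]
        exact Subgroup.subset_closure (by simp)
    obtain ⟨⟨p', q', m', e'⟩, hR'⟩ := C.derive ha hab hna hd ⟨α, hα⟩ htab
    have e1 : p' = true := C.pw_inj (hR'.aa.symm.trans hR.aa)
    have e2 : q' = true := C.pw_inj (hR'.bb.symm.trans hsq)
    subst e1 e2
    rcases good ha hab hR' hgen' with ⟨-, hpm⟩ | ⟨h, -⟩
    · exact ⟨a, ab, ha, hab, true, m', e', hpm, hR', hgen'⟩
    · exact absurd rfl h

/-- The centraliser is one of the two models. -/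
theorem Core.model_cases (hnwc : ∃ g : G, g * s * g⁻¹ ∈ Q ∧ g * s * g⁻¹ ≠ s) :
    (∃ D : AltCent G, D.hom az = s) ∨
      (∃ D : CfsgLib.M12Recog.CentData G, D.hom CfsgLib.M12Recog.mz = s) := by
  obtain ⟨a, b, ha, hb, p, m, e, hpm, hR, hgen⟩ := C.exists_good
  obtain ⟨hinj, hcomm, hsurj⟩ := C.word_bijective ha hb hR hgen
  set S : Sys G := ⟨s, a, MulAut.conj r a, b, MulAut.conj r b, r, t⟩
  cases e
  · have key : ∀ {M : Type} [Group M] (T : Sys M), T.Rel ⟨p, p, m, false⟩ → Function.Bijective T.word →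
        ∃ f : M →* G, Function.Injective f ∧ f T.z = s ∧ f.range = Subgroup.centralizer ({s} : Set G) := by
      intro M _ T hT hTb
      obtain ⟨f, hf⟩ := hR.exists_hom hT hTb
      refine ⟨f, fun x y he => ?_, ?_, ?_⟩
      · obtain ⟨n, rfl⟩ := hTb.2 x
        obtain ⟨k, rfl⟩ := hTb.2 y
        rw [hf, hf] at he
        rw [hinj he]
      · have := hf NF.zed
        rw [Sys.word_zed, Sys.word_zed] at this
        exact this
      · ext g
        rw [MonoidHom.mem_range, Subgroup.mem_centralizer_singleton_iff]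
        constructor
        · rintro ⟨x, rfl⟩
          obtain ⟨n, rfl⟩ := hTb.2 x
          rw [hf]; exact hcomm n
        · intro hg
          obtain ⟨n, hn⟩ := hsurj g hg
          exact ⟨T.word n, (hf n).trans hn⟩
    cases p
    · have hm : m = true := by revert hpm; cases m <;> simp
      subst hm
      obtain ⟨f, h1, h2, h3⟩ := key caSys caRel caSys_bijective
      rw [caSys_z] at h2
      exact Or.inl ⟨⟨f, h1, by rw [h2]; exact h3⟩, h2⟩
    · have hm : m = false := by revert hpm; cases m <;> simp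
      subst hm
      obtain ⟨f, h1, h2, h3⟩ := key cmSys cmRel cmSys_bijective
      rw [cmSys_z] at h2
      exact Or.inr ⟨⟨f, h1, by rw [h2]; exact h3⟩, h2⟩
  · exfalso
    obtain ⟨g, hgQ, hgne⟩ := hnwc
    have hone : S.word NF.one = 1 := Sys.word_one
    obtain ⟨i, x, y, u, v, hw⟩ := C.exists_qForm_of_gen ha hb hR hgen hgQ
    have hgg : g * s * g⁻¹ * (g * s * g⁻¹) = 1 := by
      calc g * s * g⁻¹ * (g * s * g⁻¹) = g * (s * s) * g⁻¹ := by group
        _ = 1 := by rw [C.ss]; group
    have h1 : nMul ⟨p, p, m, true⟩ (qForm i x y u v) (qForm i x y u v) = NF.one :=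
      hinj (by rw [hR.word_mul, hone, ← hw, hgg])
    obtain ⟨i', x', y', u', v', i'', x'', y'', u'', v'', e1, e2, e3, e4, e5⟩ :=
      invol_pair p m hpm i x y u v h1
        (fun he => by
          rw [he, hone] at hw
          exact C.s_ne (conj_eq_one_iff.1 hw))
        (fun he => by
          rw [he, Sys.word_zed] at hw
          exact hgne hw)
    -- conjugate the two involutions back into `Q`
    have back : ∀ n : NF, nMul ⟨p, p, m, true⟩ n n = NF.one →
        nMul ⟨p, p, m, true⟩ (qForm i x y u v) n = nMul ⟨p, p, m, true⟩ n (qForm i x y u v) →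
        g⁻¹ * S.word n * g ∈ Q := by
      intro n hn hc
      have hcm : S.word n * (g * s * g⁻¹) = g * s * g⁻¹ * S.word n := by
        rw [hw, ← hR.word_mul, ← hR.word_mul, hc]
      have hm : g⁻¹ * S.word n * g * s = s * (g⁻¹ * S.word n * g) := by
        calc g⁻¹ * S.word n * g * s = g⁻¹ * (S.word n * (g * s * g⁻¹)) * g := by group
          _ = g⁻¹ * (g * s * g⁻¹ * S.word n) * g := by rw [hcm]
          _ = _ := by group
      obtain ⟨k, hk⟩ := hsurj _ hm
      have hsq : nMul ⟨p, p, m, true⟩ k k = NF.one := hinj (by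
        rw [hR.word_mul, hk, hone]
        calc g⁻¹ * S.word n * g * (g⁻¹ * S.word n * g) = g⁻¹ * (S.word n * S.word n) * g := by group
          _ = 1 := by rw [← hR.word_mul, hn, hone]; group)
      have hq := invol_mem_core p m hpm k hsq
      obtain ⟨i0, x0, y0, u0, v0, k0, l0⟩ := k
      simp only [NF.inQ, Bool.and_eq_true, beq_iff_eq, Bool.not_eq_true'] at hq
      obtain ⟨rfl, rfl⟩ := hq
      rw [← hk]
      exact C.word_qForm_mem ha hb i0 x0 y0 u0 v0
    set w1 := S.word (qForm i' x' y' u' v') with hw1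
    set w2 := S.word (qForm i'' x'' y'' u'' v'') with hw2
    have hne : w2 * w1 ≠ w1 * w2 := fun he => e5 (hinj (by
      rw [hR.word_mul, hR.word_mul, ← hw1, ← hw2, he]))
    have hm1 := C.word_qForm_mem ha hb (r := r) i' x' y' u' v'
    have hm2 := C.word_qForm_mem ha hb (r := r) i'' x'' y'' u'' v''
    have hc : w2 * w1 = s * (w1 * w2) := (C.comm_mem w1 hm1 w2 hm2).resolve_left hne
    have hj1 := back _ e1 e3
    have hj2 := back _ e2 e4
    rcases C.comm_mem _ hj1 _ hj2 with h | h
    · refine hne ?_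
      calc w2 * w1 = g * (g⁻¹ * w2 * g * (g⁻¹ * w1 * g)) * g⁻¹ := by group
        _ = g * (g⁻¹ * w1 * g * (g⁻¹ * w2 * g)) * g⁻¹ := by rw [h]
        _ = _ := by group
    · refine hgne ?_
      have h2 : w2 * w1 = g * s * g⁻¹ * (w1 * w2) := by
        calc w2 * w1 = g * (g⁻¹ * w2 * g * (g⁻¹ * w1 * g)) * g⁻¹ := by group
          _ = g * (s * (g⁻¹ * w1 * g * (g⁻¹ * w2 * g))) * g⁻¹ := by rw [h]
          _ = _ := by group
      exact mul_right_cancel (h2.symm.trans hc)

end CfsgLib.AltEightRecog
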