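import Cfsg.Agent.Lib.AltEightRecog.ShapeModels
import Mathlib.Algebra.Group.Subgroup.Lattice
import Mathlib.Tactic.Group

/-!
The seven letters in a group `2^{1+4}.S₃` whose element of order 3 has only the centre as fixed points.
-/

set_option autoImplicit false

namespace CfsgLib.AltEightRecog

variable {G : Type*} [Group G]

/-- The data extracted from the hypotheses. -/
structure Core (s : G) (Q : Subgroup G) (r t : G) : Prop where
  ss : s * s = 1
  s_ne : s ≠ 1
  s_mem : s ∈ Q
  cardQ : Nat.card Q = 32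
  central : ∀ x ∈ Q, x * s = s * x
  rs : r * s = s * r
  ts : t * s = s * t
  sq_mem : ∀ x ∈ Q, x * x = 1 ∨ x * x = s
  comm_mem : ∀ x ∈ Q, ∀ y ∈ Q, y * x = x * y ∨ y * x = s * (x * y)
  cent : ∀ x ∈ Q, (∀ y ∈ Q, y * x = x * y) → x = 1 ∨ x = s
  norm_r : ∀ x ∈ Q, r * x * r⁻¹ ∈ Q
  norm_t : ∀ x ∈ Q, t * x * t⁻¹ ∈ Q
  fix : ∀ x ∈ Q, r * x * r⁻¹ = x → x = 1 ∨ x = s
  rrr : r * (r * r) = 1
  tr : t * r = r * (r * t)
  tt : t * t = 1 ∨ t * t = s
  surj : ∀ x : G, x * s = s * x → ∃ q ∈ Q, ∃ k : Fin 3, ∃ l : Bool, x = q * (r ^ (k : ℕ) * pw t l)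
  cardL : Nat.card (Subgroup.centralizer ({s} : Set G)) = 192

variable {s : G} {Q : Subgroup G} {r t : G} (C : Core s Q r t)
include C

theorem Core.pw_exists {x : G} (h : x = 1 ∨ x = s) : ∃ c, x = pw s c := by
  rcases h with rfl | rfl
  · exact ⟨false, rfl⟩
  · exact ⟨true, rfl⟩

theorem Core.pw_inj {c d : Bool} (h : pw s c = pw s d) : c = d := by
  cases c <;> cases d <;> first | rfl | exact absurd h C.s_ne | exact absurd h.symm C.s_ne

theorem Core.pw_pw (c d : Bool) : pw s c * pw s d = pw s (Bool.xor c d) := by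
  cases c <;> cases d <;> simp [pw, C.ss]

theorem Core.pw_pw' (c d : Bool) (w : G) : pw s c * (pw s d * w) = pw s (Bool.xor c d) * w := by
  rw [← mul_assoc, C.pw_pw]

theorem Core.pw_mem (c : Bool) : pw s c ∈ Q := by
  cases c
  · exact Q.one_mem
  · exact C.s_mem

theorem Core.pw_comm (c : Bool) {g : G} (hg : g * s = s * g) : g * pw s c = pw s c * g := by
  cases c
  · simp [pw]
  · exact hg

theorem Core.pw_comm' (c : Bool) {g : G} (hg : g * s = s * g) (w : G) : g * (pw s c * w) = pw s c * (g * w) := by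
  rw [← mul_assoc, C.pw_comm c hg, mul_assoc]

theorem Core.conj_pw (c : Bool) {g : G} (hg : g * s = s * g) : MulAut.conj g (pw s c) = pw s c := by
  rw [MulAut.conj_apply, C.pw_comm c hg, mul_inv_cancel_right]

theorem Core.comm_pw {x y : G} (hx : x ∈ Q) (hy : y ∈ Q) : ∃ c, y * x = pw s c * (x * y) := by
  rcases C.comm_mem x hx y hy with h | h
  · exact ⟨false, by rw [h, pw_false, one_mul]⟩
  · exact ⟨true, h⟩

theorem Core.sq_pw {x : G} (hx : x ∈ Q) : ∃ c, x * x = pw s c := C.pw_exists (C.sq_mem x hx)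

theorem Core.mem_r {x : G} (hx : x ∈ Q) : MulAut.conj r x ∈ Q := C.norm_r x hx

theorem Core.mem_t {x : G} (hx : x ∈ Q) : MulAut.conj t x ∈ Q := C.norm_t x hx

theorem Core.rrr_apply (x : G) : MulAut.conj r (MulAut.conj r (MulAut.conj r x)) = x := by
  simp only [MulAut.conj_apply]
  calc r * (r * (r * x * r⁻¹) * r⁻¹) * r⁻¹ = r * (r * r) * x * (r * (r * r))⁻¹ := by group
    _ = x := by rw [C.rrr]; group

theorem Core.tr_apply (x : G) :
    MulAut.conj t (MulAut.conj r x) = MulAut.conj r (MulAut.conj r (MulAut.conj t x)) := by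
  simp only [MulAut.conj_apply]
  calc t * (r * x * r⁻¹) * t⁻¹ = (t * r) * x * (t * r)⁻¹ := by group
    _ = r * (r * (t * x * t⁻¹) * r⁻¹) * r⁻¹ := by rw [C.tr]; group

theorem Core.tt_apply {x : G} (hx : x ∈ Q) : MulAut.conj t (MulAut.conj t x) = x := by
  obtain ⟨c, hc⟩ := C.pw_exists C.tt
  simp only [MulAut.conj_apply]
  calc t * (t * x * t⁻¹) * t⁻¹ = (t * t) * x * (t * t)⁻¹ := by group
    _ = x := by rw [hc, ← C.pw_comm c (C.central x hx), mul_inv_cancel_right]

/-- The third conjugate is the product of the first two, up to the centre. -/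
theorem Core.third {x : G} (hx : x ∈ Q) :
    ∃ d, MulAut.conj r (MulAut.conj r x) = pw s d * (x * MulAut.conj r x) := by
  set c := MulAut.conj r
  have hy : x * c x * c (c x) ∈ Q := Q.mul_mem (Q.mul_mem hx (C.mem_r hx)) (C.mem_r (C.mem_r hx))
  set y := x * c x * c (c x) with hydef
  have hcy : c y = x⁻¹ * (y * x) := by
    rw [hydef, map_mul, map_mul, C.rrr_apply]; group
  have hfix : c y = y := by
    obtain ⟨d, hd⟩ := C.comm_pw hx hy
    cases d
    · rw [hcy, hd, pw_false, one_mul, inv_mul_cancel_left]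
    · exfalso
      have h1 : c y = s * y := by
        rw [hcy, hd, pw_true, ← mul_assoc, C.central x⁻¹ (Q.inv_mem hx), mul_assoc, inv_mul_cancel_left]
      have hs : c s = s := C.conj_pw true C.rs
      have h3 := C.rrr_apply y
      change c (c (c y)) = y at h3
      rw [h1, map_mul, hs, h1, map_mul, map_mul, hs, h1] at h3
      rw [← mul_assoc s s, C.ss, one_mul] at h3
      exact C.s_ne (mul_eq_right.1 h3)
  obtain ⟨d, hd⟩ := C.pw_exists (C.fix y hy hfix)
  obtain ⟨e, he⟩ := C.sq_pw (Q.mul_mem hx (C.mem_r hx))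
  refine ⟨Bool.xor d e, ?_⟩
  have h1 : c (c x) = (x * c x)⁻¹ * pw s d := by rw [← hd, hydef, inv_mul_cancel_left]
  have h2 : (x * c x)⁻¹ = pw s e * (x * c x) := by
    refine inv_eq_of_mul_eq_one_right ?_
    rw [C.pw_comm' e (C.central _ (Q.mul_mem hx (C.mem_r hx))), he, C.pw_pw, Bool.xor_self, pw_false]
  rw [h1, h2, mul_assoc, C.pw_comm d (C.central _ (Q.mul_mem hx (C.mem_r hx))), C.pw_pw', Bool.xor_comm]

/-- A lift for which the third conjugate is exactly the product. -/
theorem Core.exists_lift {x : G} (hx : x ∈ Q) :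
    ∃ c, MulAut.conj r (MulAut.conj r (pw s c * x)) = pw s c * x * MulAut.conj r (pw s c * x) := by
  obtain ⟨d, hd⟩ := C.third hx
  refine ⟨d, ?_⟩
  simp only [map_mul, C.conj_pw d C.rs]
  rw [hd, C.pw_pw', Bool.xor_self, pw_false, one_mul, mul_assoc (pw s d) x,
    C.pw_comm' d (C.central x hx), C.pw_pw', Bool.xor_self, pw_false, one_mul]

/-- The seven letters from two elements fixed by `t` up to the centre. -/
theorem Core.derive {a b : G} (ha : a ∈ Q) (hb : b ∈ Q)
    (hna : MulAut.conj r (MulAut.conj r a) = a * MulAut.conj r a)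
    (hnb : MulAut.conj r (MulAut.conj r b) = b * MulAut.conj r b)
    (hta : ∃ c, MulAut.conj t a = pw s c * a) (htb : ∃ c, MulAut.conj t b = pw s c * b) :
    ∃ P : Par, (⟨s, a, MulAut.conj r a, b, MulAut.conj r b, r, t⟩ : Sys G).Rel P := by
  set c := MulAut.conj r with hc
  set T := MulAut.conj t with hT
  obtain ⟨α, hα⟩ := hta
  obtain ⟨β, hβ⟩ := htb
  obtain ⟨p, hp⟩ := C.sq_pw ha
  obtain ⟨q, hq⟩ := C.sq_pw hb
  obtain ⟨k, hk⟩ := C.comm_pw ha hb
  obtain ⟨m, hm⟩ := C.comm_pw (C.mem_r ha) hb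
  obtain ⟨d, hd⟩ := C.comm_pw ha (C.mem_r hb)
  obtain ⟨e, he⟩ := C.pw_exists C.tt
  have cpw : ∀ i, c (pw s i) = pw s i := fun i => C.conj_pw i C.rs
  have Tpw : ∀ i, T (pw s i) = pw s i := fun i => C.conj_pw i C.ts
  have hpa : c a * c a = pw s p := by rw [← map_mul, hp, cpw]
  have hqb : c b * c b = pw s q := by rw [← map_mul, hq, cpw]
  have self : ∀ {u : G}, u ∈ Q → c (c u) = u * c u → ∀ {w : Bool}, u * u = pw s w →
      ∀ {o : Bool}, T u = pw s o * u → o = w ∧ c u * u = pw s w * (u * c u) ∧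
        T (c u) = pw s w * (u * c u) := by
    intro u hu hn w hw o ho
    have hu1 := C.mem_r hu
    obtain ⟨i, hi⟩ := C.comm_pw hu hu1
    change c u * u = pw s i * (u * c u) at hi
    have hcu : c u * c u = pw s w := by rw [← map_mul, hw, cpw]
    have h3 : (u * c u) * (u * c u) = pw s w := by rw [← hn, ← map_mul, hcu, cpw]
    have hiw : i = w := by
      have h4 : (u * c u) * (u * c u) = pw s i * ((u * u) * (c u * c u)) := by
        calc (u * c u) * (u * c u) = u * (c u * u) * c u := by group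
          _ = u * (pw s i * (u * c u)) * c u := by rw [hi]
          _ = _ := by rw [C.pw_comm' i (C.central u hu)]; group
      rw [h3, hw, hcu, C.pw_pw, Bool.xor_self, pw_false, mul_one] at h4
      exact (C.pw_inj h4).symm
    subst hiw
    have hT1 : T (c u) = pw s o * (u * c u) := by
      rw [hT, hc, C.tr_apply, ← hT, ← hc, ho, map_mul, map_mul, cpw, cpw, hn]
    refine ⟨?_, hi, ?_⟩
    · have h5 : T (c (c u)) = pw s o * c u := by
        rw [hT, hc, C.tr_apply, C.tr_apply, ← hT, ← hc, C.rrr_apply, ho, map_mul, cpw]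
      rw [hn, map_mul, ho, hT1, mul_assoc, C.pw_comm' o (C.central u hu), C.pw_pw', Bool.xor_self,
        pw_false, one_mul, ← mul_assoc, hw] at h5
      exact C.pw_inj (mul_right_cancel h5).symm
    · have h5 : T (c (c u)) = pw s o * c u := by
        rw [hT, hc, C.tr_apply, C.tr_apply, ← hT, ← hc, C.rrr_apply, ho, map_mul, cpw]
      rw [hn, map_mul, ho, hT1, mul_assoc, C.pw_comm' o (C.central u hu), C.pw_pw', Bool.xor_self,
        pw_false, one_mul, ← mul_assoc, hw] at h5
      rw [C.pw_inj (mul_right_cancel h5)]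
      exact hT1
  obtain ⟨rfl, haa, hTa⟩ := self ha hna hp hα
  obtain ⟨rfl, hbb, hTb⟩ := self hb hnb hq hβ
  have cA : c a * s = s * c a := C.central _ (C.mem_r ha)
  have cB : c b * s = s * c b := C.central _ (C.mem_r hb)
  have hk1 : c b * c a = pw s k * (c a * c b) := by rw [← map_mul, hk, map_mul, cpw, map_mul]
  have hdkm : d = Bool.xor k m := by
    have h1 : c (c b * a) = c (pw s d * (a * c b)) := congrArg c hd
    rw [map_mul, map_mul, map_mul, cpw, hnb, mul_assoc, hk1, C.pw_comm' k (C.central b hb), ← mul_assoc b,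
      hm, mul_assoc, mul_assoc, C.pw_pw', ← mul_assoc (c a) b] at h1
    exact (C.pw_inj (mul_right_cancel h1)).symm
  have hk0 : k = false := by
    have h1 : T (c b * a) = T (pw s d * (a * c b)) := congrArg T hd
    rw [map_mul, map_mul, map_mul, Tpw, hα, hTb] at h1
    have l : pw s β * (b * c b) * (pw s α * a) = pw s (Bool.xor β α) * (b * (c b * a)) := by
      calc pw s β * (b * c b) * (pw s α * a) = pw s β * ((b * c b) * (pw s α * a)) := mul_assoc _ _ _
        _ = pw s β * (pw s α * ((b * c b) * a)) := by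
          rw [C.pw_comm' α (C.central _ (Q.mul_mem hb (C.mem_r hb)))]
        _ = _ := by rw [C.pw_pw', mul_assoc]
    have rr : pw s d * (pw s α * a * (pw s β * (b * c b))) =
        pw s (Bool.xor d (Bool.xor α β)) * (a * (b * c b)) := by
      rw [mul_assoc, C.pw_comm' β (C.central a ha), C.pw_pw', C.pw_pw', Bool.xor_assoc]
    rw [l, rr, hd, C.pw_comm' d (C.central b hb), ← mul_assoc b a, hk, C.pw_pw', mul_assoc, C.pw_pw',
      mul_assoc a b] at h1
    have h2 := C.pw_inj (mul_right_cancel h1)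
    revert h2
    cases k <;> cases d <;> cases α <;> cases β <;> decide
  subst hk0
  rw [Bool.false_xor] at hdkm
  subst hdkm
  rw [pw_false, one_mul] at hk hk1
  refine ⟨⟨α, β, d, e⟩, ⟨C.ss, C.central a ha, cA, C.central b hb, cB, C.rs, C.ts, hp, hpa, hq, hqb, haa, hk,
    hm, hd, hk1, hbb, ?_, ?_, ?_, ?_, C.rrr, ?_, ?_, ?_, ?_, C.tr, he⟩⟩
  · show r * a = c a * r
    rw [hc, MulAut.conj_apply, inv_mul_cancel_right]
  · show r * c a = a * (c a * r)
    rw [← mul_assoc, ← hna, hc]
    simp only [MulAut.conj_apply, inv_mul_cancel_right]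
  · show r * b = c b * r
    rw [hc, MulAut.conj_apply, inv_mul_cancel_right]
  · show r * c b = b * (c b * r)
    rw [← mul_assoc, ← hnb, hc]
    simp only [MulAut.conj_apply, inv_mul_cancel_right]
  · show t * a = pw s α * (a * t)
    rw [← mul_assoc, ← hα, hT, MulAut.conj_apply, inv_mul_cancel_right]
  · show t * c a = pw s α * (a * (c a * t))
    rw [← mul_assoc a, ← mul_assoc, ← hTa, hT]
    simp only [MulAut.conj_apply, inv_mul_cancel_right]
  · show t * b = pw s β * (b * t)
    rw [← mul_assoc, ← hβ, hT, MulAut.conj_apply, inv_mul_cancel_right]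
  · show t * c b = pw s β * (b * (c b * t))
    rw [← mul_assoc b, ← mul_assoc, ← hTb, hT]
    simp only [MulAut.conj_apply, inv_mul_cancel_right]

/-- An element times its image under `t` is fixed by `t` up to the centre. -/
theorem Core.fixed_mul {x : G} (hx : x ∈ Q) :
    ∃ d, MulAut.conj t (x * MulAut.conj t x) = pw s d * (x * MulAut.conj t x) := by
  obtain ⟨d, hd⟩ := C.comm_pw hx (C.mem_t hx)
  exact ⟨d, by rw [map_mul, C.tt_apply hx, hd]⟩

/-- An element outside the centre fixed by `t` up to the centre. -/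
theorem Core.exists_first : ∃ a ∈ Q, (∃ c, MulAut.conj t a = pw s c * a) ∧ a ≠ 1 ∧ a ≠ s := by
  classical
  obtain ⟨x, hx, hx1, hxs⟩ : ∃ x ∈ Q, x ≠ 1 ∧ x ≠ s := by
    by_contra h
    push Not at h
    have hsub : (Q : Set G) ⊆ {1, s} := fun x hx => by
      by_cases h1 : x = 1
      · exact Or.inl h1
      · exact Or.inr (h x hx h1)
    have h2 := Set.ncard_le_ncard hsub (Set.toFinite _)
    have h3 : (Q : Set G).ncard = 32 := by rw [← Nat.card_coe_set_eq]; exact C.cardQ
    have h4 : ({1, s} : Set G).ncard ≤ 2 := (Set.ncard_insert_le _ _).trans (by simp)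
    omega
  by_cases hw : x * MulAut.conj t x = 1 ∨ x * MulAut.conj t x = s
  · refine ⟨x, hx, ?_, hx1, hxs⟩
    obtain ⟨d, hd⟩ := C.pw_exists hw
    obtain ⟨e, he⟩ := C.sq_pw hx
    refine ⟨Bool.xor e d, ?_⟩
    have h5 : MulAut.conj t x = x⁻¹ * pw s d := by rw [← hd, inv_mul_cancel_left]
    have h6 : x⁻¹ = pw s e * x := inv_eq_of_mul_eq_one_right (by
      rw [C.pw_comm' e (C.central x hx), he, C.pw_pw, Bool.xor_self, pw_false])
    rw [h5, h6, mul_assoc, C.pw_comm d (C.central x hx), C.pw_pw']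
  · push Not at hw
    exact ⟨_, Q.mul_mem hx (C.mem_t hx), C.fixed_mul hx, hw.1, hw.2⟩

/-- A second element fixed by `t` up to the centre, outside the span of the first one. -/
theorem Core.exists_second {a : G} (ha : a ∈ Q) (hna : MulAut.conj r (MulAut.conj r a) = a * MulAut.conj r a)
    {y : G} (hy : y ∈ Q) (hyV : y ∉ Subgroup.closure {s, a, MulAut.conj r a}) :
    ∃ b ∈ Q, (∃ c, MulAut.conj t b = pw s c * b) ∧ b ∉ Subgroup.closure {s, a, MulAut.conj r a} := by
  set V := Subgroup.closure {s, a, MulAut.conj r a}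
  have hsV : s ∈ V := Subgroup.subset_closure (by simp)
  have hpV : ∀ i, pw s i ∈ V := fun i => by cases i; exacts [V.one_mem, hsV]
  have hcV : ∀ v ∈ V, MulAut.conj r v ∈ V := by
    intro v hv
    induction hv using Subgroup.closure_induction with
    | mem u hu =>
      simp only [Set.mem_insert_iff, Set.mem_singleton_iff] at hu
      rcases hu with rfl | rfl | rfl
      · rw [show MulAut.conj r u = u from C.conj_pw true C.rs]; exact hsV
      · exact Subgroup.subset_closure (by simp)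
      · rw [hna]; exact V.mul_mem (Subgroup.subset_closure (by simp)) (Subgroup.subset_closure (by simp))
    | one => rw [map_one]; exact V.one_mem
    | mul u w _ _ h1 h2 => rw [map_mul]; exact V.mul_mem h1 h2
    | inv u _ h1 => rw [map_inv]; exact V.inv_mem h1
  by_cases hw : y * MulAut.conj t y ∈ V
  · refine ⟨_, Q.mul_mem (C.mem_r hy) (C.mem_t (C.mem_r hy)), C.fixed_mul (C.mem_r hy), fun hw' => hyV ?_⟩
    obtain ⟨d, hd⟩ := C.third hy
    set c := MulAut.conj r
    have h1 : MulAut.conj t (c y) = (c (c y))⁻¹ * c (c (y * MulAut.conj t y)) := by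
      rw [C.tr_apply, map_mul, map_mul, inv_mul_cancel_left]
    rw [h1, hd, mul_inv_rev, mul_inv_rev, show (pw s d)⁻¹ = pw s d from inv_eq_of_mul_eq_one_right (by
      rw [C.pw_pw, Bool.xor_self, pw_false])] at hw'
    have h2 : c y * ((c y)⁻¹ * y⁻¹ * pw s d * c (c (y * MulAut.conj t y))) =
        y⁻¹ * (pw s d * c (c (y * MulAut.conj t y))) := by group
    rw [h2] at hw'
    exact (V.inv_mem_iff).1 ((V.mul_mem_cancel_right (V.mul_mem (hpV d) (hcV _ (hcV _ hw)))).1 hw')
  · exact ⟨_, Q.mul_mem hy (C.mem_t hy), C.fixed_mul hy, hw⟩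

end CfsgLib.AltEightRecog
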