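import Cfsg.Agent.Lib.AltEightRecog.Word
import Cfsg.Agent.Lib.AltEightRecog.Model
import Cfsg.Agent.Lib.M12Recog.Facts

/-!
The two centraliser models as systems of seven letters, and facts on normal forms checked by enumeration.
-/

set_option autoImplicit false
set_option maxRecDepth 100000

namespace CfsgLib.AltEightRecog

open CfsgLib.M12Recog (CM mz)

/-- The letters in the model of the centraliser in the alternating group. -/
def caSys : Sys CA :=
  ⟨⟨7, 0⟩, ⟨0, 7⟩, ⟨0, 16⟩, ⟨3, 7⟩, ⟨5, 16⟩, ⟨0, 3⟩, ⟨0, 1⟩⟩

/-- The parameters of the alternating case. -/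
def caPar : Par := ⟨false, false, true, false⟩

theorem caRel : caSys.Rel caPar := by constructor <;> decide +kernel

theorem caSys_bijective : Function.Bijective caSys.word := by
  have hs : Function.Surjective caSys.word := by unfold Function.Surjective; decide +kernel
  exact ((Fintype.bijective_iff_surjective_and_card _).2 ⟨hs, by
    rw [← Nat.card_eq_fintype_card, ← Nat.card_eq_fintype_card, NF.card, CA.card]⟩)

theorem caSys_z : caSys.z = az := by decide +kernel

/-- The letters in the model of the centraliser in M12. -/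
def cmSys : Sys CM :=
  ⟨CM.ofNat 53, CM.ofNat 34, CM.ofNat 41, CM.ofNat 190, CM.ofNat 100, CM.ofNat 8, CM.ofNat 4⟩

/-- The parameters of the Mathieu case. -/
def cmPar : Par := ⟨true, true, false, false⟩

theorem cmRel : cmSys.Rel cmPar := by constructor <;> decide +kernel

theorem cmSys_bijective : Function.Bijective cmSys.word := by
  have hs : Function.Surjective cmSys.word := by unfold Function.Surjective; decide +kernel
  exact ((Fintype.bijective_iff_surjective_and_card _).2 ⟨hs, by
    rw [← Nat.card_eq_fintype_card, ← Nat.card_eq_fintype_card, NF.card, CfsgLib.M12Recog.CM.card]⟩)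

theorem cmSys_z : cmSys.z = mz := by decide +kernel

/-- The normal forms of the extraspecial part. -/
def qForm (i x y u v : Bool) : NF := ⟨i, x, y, u, v, 0, false⟩

/-- The parameters with a form commuting with all of the extraspecial part. -/
theorem central_of_bad : ∀ p q m e : Bool,
    ((p = false ∧ q = false ∧ m = false) ∨ (p = true ∧ q = true ∧ m = true) ∨
      (p ≠ q ∧ m = false)) →
    ∃ i x y u v : Bool, qForm i x y u v ≠ NF.one ∧ qForm i x y u v ≠ NF.zed ∧
      ∀ i' x' y' u' v' : Bool, nMul ⟨p, q, m, e⟩ (qForm i x y u v) (qForm i' x' y' u' v') =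
        nMul ⟨p, q, m, e⟩ (qForm i' x' y' u' v') (qForm i x y u v) := by
  decide +kernel

/-- When the inverting element squares to the central letter every involution lies in the extraspecial part. -/
theorem invol_mem_core : ∀ p m : Bool, p ≠ m → ∀ n : NF, nMul ⟨p, p, m, true⟩ n n = NF.one → n.inQ = true := by
  decide +kernel

/-- Two non-commuting involutions in the centraliser of an involution of the extraspecial part. -/
theorem invol_pair : ∀ p m : Bool, p ≠ m → ∀ i x y u v : Bool,
    nMul ⟨p, p, m, true⟩ (qForm i x y u v) (qForm i x y u v) = NF.one →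
    qForm i x y u v ≠ NF.one → qForm i x y u v ≠ NF.zed →
    ∃ i' x' y' u' v' : Bool, ∃ i'' x'' y'' u'' v'' : Bool,
      nMul ⟨p, p, m, true⟩ (qForm i' x' y' u' v') (qForm i' x' y' u' v') = NF.one ∧
      nMul ⟨p, p, m, true⟩ (qForm i'' x'' y'' u'' v'') (qForm i'' x'' y'' u'' v'') = NF.one ∧
      nMul ⟨p, p, m, true⟩ (qForm i x y u v) (qForm i' x' y' u' v') =
        nMul ⟨p, p, m, true⟩ (qForm i' x' y' u' v') (qForm i x y u v) ∧
      nMul ⟨p, p, m, true⟩ (qForm i x y u v) (qForm i'' x'' y'' u'' v'') =
        nMul ⟨p, p, m, true⟩ (qForm i'' x'' y'' u'' v'') (qForm i x y u v) ∧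
      nMul ⟨p, p, m, true⟩ (qForm i' x' y' u' v') (qForm i'' x'' y'' u'' v'') ≠
        nMul ⟨p, p, m, true⟩ (qForm i'' x'' y'' u'' v'') (qForm i' x' y' u' v') := by
  decide +kernel

/-- The extraspecial forms are closed under products. -/
theorem qForm_mul : ∀ p q m e i x y u v i' x' y' u' v' : Bool,
    (nMul ⟨p, q, m, e⟩ (qForm i x y u v) (qForm i' x' y' u' v')).inQ = true := by
  decide +kernel

/-- Cancellation for extraspecial forms. -/
theorem qForm_cancel : ∀ p q m e i x y u v i' x' y' u' v' : Bool,
    nMul ⟨p, q, m, e⟩ (nMul ⟨p, q, m, e⟩ (qForm i x y u v) (nMul ⟨p, q, m, e⟩ (qForm i x y u v) (qForm i x y u v)))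
      (qForm i' x' y' u' v') = NF.one → qForm i x y u v = qForm i' x' y' u' v' := by
  decide +kernel

/-- The image of the word map in the symmetric group on three points. -/
theorem perm_three : ∀ A B x : Equiv.Perm (Fin 3), A * A * A = 1 → A ≠ 1 → Equiv.Perm.sign B = -1 →
    B * A ≠ A * B ∧ ∃ k : Fin 3, ∃ l : Bool, x = A ^ (k : ℕ) * pw B l := by
  decide +kernel

end CfsgLib.AltEightRecog
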