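import Cfsg.Agent.Lib.AltEightRecog.Facts
import Cfsg.Agent.Lib.AltEightRecog.Generic

/-!
# Normalising the fusion pattern by an automorphism of the model; simplicity and the affine alternative
-/

set_option autoImplicit false
set_option linter.style.haveILetI false
set_option maxHeartbeats 800000

namespace CfsgLib.AltEightRecog

open scoped Classical

/-- The automorphisms as equivalences. -/
noncomputable def autE (k : Fin 6) : CA ≃* CA :=
  MulEquiv.ofBijective (MonoidHom.mk' (autF k) (autF_mul k)) (by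
    rw [← Finite.injective_iff_bijective, injective_iff_map_eq_one]
    exact fun x hx => autF_inj k x hx)

theorem autE_apply (k : Fin 6) (x : CA) : autE k x = autF k x := rfl

variable {G : Type*} [Group G]

/-- Composition with an automorphism. -/
noncomputable def AltCent.comp (D : AltCent G) (k : Fin 6) : AltCent G where
  hom := D.hom.comp (autE k).toMonoidHom
  inj := D.inj.comp (autE k).injective
  range_eq := by
    show (D.hom.comp (autE k).toMonoidHom).range = Subgroup.centralizer ({D.hom (autE k az)} : Set G)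
    rw [MonoidHom.range_comp, (MonoidHom.range_eq_top.2 (autE k).surjective : (autE k).toMonoidHom.range = ⊤), ← MonoidHom.range_eq_map,
      autE_apply, autF_az k]
    exact D.range_eq

theorem AltCent.comp_apply (D : AltCent G) (k : Fin 6) (x : CA) : (D.comp k).hom x = D.hom (autF k x) := rfl

theorem AltCent.comp_az (D : AltCent G) (k : Fin 6) : (D.comp k).hom az = D.hom az := by
  rw [AltCent.comp_apply, autF_az k]

theorem AltCent.isConj_of_lab (D : AltCent G) {x y : CA} (hx : lab x ≠ 0) (h : lab x = lab y) :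
    IsConj (D.hom x) (D.hom y) := by
  have e1 := conj_crep x hx
  have e2 := conj_crep y (h ▸ hx)
  rw [← h] at e2
  refine isConj_iff.2 ⟨D.hom (cjr y * (cjr x)⁻¹), ?_⟩
  rw [← map_inv, ← map_mul, ← map_mul]
  congr 1
  conv_rhs => rw [← e2]
  conv_lhs => arg 1; arg 2; rw [← e1]
  group

theorem AltCent.conj_lab_iff (D : AltCent G) {x : CA} (hx : lab x ≠ 0) (h0 : lab (crep (lab x)) = lab x) :
    IsConj (D.hom az) (D.hom x) ↔ IsConj (D.hom az) (D.hom (crep (lab x))) :=
  ⟨fun h => h.trans (D.isConj_of_lab hx h0.symm), fun h => h.trans (D.isConj_of_lab hx h0.symm).symm⟩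

theorem lab_crep : ∀ k : Fin 7, (k : ℕ) ≠ 0 → lab (crep k) = k := by decide +kernel

theorem AltCent.az_ne_one (D : AltCent G) : D.hom az ≠ 1 := fun h => by
  have h1 : az = 1 := D.inj (h.trans (map_one _).symm)
  exact absurd h1 (by decide +kernel)

theorem AltCent.conj_lab_ne_zero (D : AltCent G) {x : CA} (h : IsConj (D.hom az) (D.hom x)) : lab x ≠ 0 := by
  intro h0
  obtain ⟨g, hg⟩ := isConj_iff.1 h
  refine (lab_eq_zero_iff x).1 h0 ⟨D.inj ?_, fun hx => D.az_ne_one ?_⟩
  · rw [map_mul, map_one, ← hg, show g * D.hom az * g⁻¹ * (g * D.hom az * g⁻¹) = g * (D.hom az * D.hom az) * g⁻¹ by group,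
      ← map_mul, show az * az = 1 by decide +kernel, map_one, mul_one, mul_inv_cancel]
  · rw [hx, map_one] at hg
    exact conj_eq_one_iff.1 hg

/-- The standard pattern of fusion. -/
def Standard (D : AltCent G) : Prop :=
  ∀ x : CA, IsConj (D.hom az) (D.hom x) ↔ lab x = 1 ∨ lab x = 2 ∨ lab x = 3 ∨ lab x = 5

/-- An automorphism brings two classes in the core and one outside to standard position. -/
theorem exists_standard (D : AltCent G) (c : ℕ → Bool)
    (hc : ∀ k : ℕ, 2 ≤ k → k ≤ 6 → (c k = true ↔ IsConj (D.hom az) (D.hom (crep k))))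
    (h2 : (c 2).toNat + (c 3).toNat + (c 4).toNat = 2) (h1 : (c 5).toNat + (c 6).toNat = 1) :
    ∃ k : Fin 6, Standard (D.comp k) := by
  have key : ∀ b2 b3 b4 b5 b6 : Bool, b2.toNat + b3.toNat + b4.toNat = 2 → b5.toNat + b6.toNat = 1 →
      ∃ k : Fin 6, ∀ j : Fin 7, (j : ℕ) ≠ 0 →
        ([false, true, b2, b3, b4, b5, b6].getD ((labPerm k).getD j 0) false = true ↔
          ((j : ℕ) = 1 ∨ (j : ℕ) = 2 ∨ (j : ℕ) = 3 ∨ (j : ℕ) = 5)) := by
    decide +kernel
  obtain ⟨k, hk⟩ := key (c 2) (c 3) (c 4) (c 5) (c 6) h2 h1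
  refine ⟨k, fun x => ?_⟩
  rw [AltCent.comp_az, AltCent.comp_apply]
  by_cases hx : lab x = 0
  · refine iff_of_false (fun h => D.conj_lab_ne_zero h ?_) (by omega)
    rw [autF_lab k x, hx]
    exact (show ∀ k : Fin 6, (labPerm k).getD 0 0 = 0 by decide +kernel) k
  have hj := hk ⟨lab x, Nat.lt_succ_of_le (lab_le x)⟩ hx
  have hperm : ∀ k : Fin 6, ∀ j : Fin 7, (j : ℕ) ≠ 0 → (labPerm k).getD j 0 ≠ 0 ∧ (labPerm k).getD j 0 ≤ 6 := by
    decide +kernel
  obtain ⟨hp0, hp6⟩ := hperm k ⟨lab x, Nat.lt_succ_of_le (lab_le x)⟩ hx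
  simp only at hp0 hp6 hj
  have hlab := autF_lab k x
  have hne : lab (autF k x) ≠ 0 := by rw [hlab]; exact hp0
  rw [D.conj_lab_iff hne (lab_crep ⟨lab (autF k x), Nat.lt_succ_of_le (lab_le _)⟩ hne), hlab]
  refine Iff.trans ?_ hj
  generalize hm : (labPerm k).getD (lab x) 0 = m at hp0 hp6 ⊢
  have hm1 : 1 ≤ m := Nat.pos_of_ne_zero hp0
  interval_cases m
  · exact iff_of_true (IsConj.refl _) (by simp)
  all_goals (rw [← hc _ (by norm_num) (by norm_num)]; simp)

/-- The Sylow subgroup of the model. -/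
noncomputable def aS : Subgroup CA where
  carrier := {x | inS x = true}
  one_mem' := by decide +kernel
  mul_mem' := fun ha hb => inS_facts.2.1 _ _ ha hb
  inv_mem' := fun {a} ha => (show ∀ a : CA, inS a = true → inS a⁻¹ = true by decide +kernel) a ha

theorem card_aS : Nat.card aS = 64 := by
  rw [← inS_facts.2.2.1, Nat.card_eq_fintype_card]
  exact Fintype.card_of_subtype _ (fun x => by simp [aS, Subgroup.mem_mk])

theorem az_mem_of_normal (N : Subgroup CA) (hN : N.Normal) (h : N ≠ ⊥) : az ∈ N := by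
  obtain ⟨x, hx, hx1⟩ : ∃ x ∈ N, x ≠ 1 := by
    by_contra! h0
    exact h (eq_bot_iff.2 fun x hx => Subgroup.mem_bot.2 (h0 x hx))
  have hcomm : ∀ u ∈ N, ∀ y : CA, u * y * u⁻¹ * y⁻¹ ∈ N := fun u hu y => by
    rw [show u * y * u⁻¹ * y⁻¹ = u * (y * u⁻¹ * y⁻¹) by group]
    exact N.mul_mem hu (hN.conj_mem _ (N.inv_mem hu) y)
  have hcore : ∀ u ∈ N, inCore u = true → u ≠ 1 → az ∈ N := fun u hu huc hu1 => by
    by_cases huz : u = az
    · exact huz ▸ hu
    obtain ⟨y, hy⟩ := comm_center u huc hu1 huz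
    exact hy ▸ hcomm u hu y
  by_cases hxz : x = az
  · exact hxz ▸ hx
  obtain ⟨y, -, hy2, hy3⟩ := comm_core x hx1 hxz
  exact hcore _ (hcomm x hx y) hy2 hy3

/-- A group with the standard pattern is simple. -/
theorem simple_standard [Finite G] (D : AltCent G) (h : Standard D) :
    IsSimpleGroup G ∧ ¬ IsMulCommutative G := by
  have hS : IsPGroup 2 aS := IsPGroup.of_card (n := 6) (by rw [card_aS]; norm_num)
  have hidx : ¬ 2 ∣ aS.index := by
    have h := Subgroup.card_mul_index aS
    rw [card_aS, CA.card] at h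
    omega
  have hac : IsConj (D.hom az) (D.hom ac) := (h ac).2 (Or.inr (Or.inl lab_reps.2.1))
  refine simple_of_local D.hom D.inj D.range_eq (by decide +kernel) (by decide +kernel) aS hS hidx
    (fun m hm hc => inS_facts.2.2.2 m hm hc) inS_facts.1 az_mem_of_normal ?_ ?_ ?_
  · obtain ⟨l, hl⟩ := ac_flip
    exact ⟨ac, l, by decide +kernel, by decide +kernel, by decide +kernel, hac, hl⟩
  · intro N hN hK
    have hsub : ∀ x ∈ outerSet 5, x ∈ N := by
      intro x hx
      have hu : ∀ u : CA, lab u = 5 → u ∈ N := fun u hu => hK u ((h u).2 (by omega))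
      have hz : az ∈ N := hK az (IsConj.refl _)
      simp only [outerSet, Finset.mem_union, Finset.mem_image, Finset.mem_product, Finset.mem_filter,
        Finset.mem_univ, true_and, beq_iff_eq] at hx
      rcases hx with (hx | ⟨⟨a, b⟩, ⟨ha, hb⟩, rfl⟩) | ⟨y, hy, rfl⟩
      · exact hu x hx
      · exact N.mul_mem (hu a ha) (hu b hb)
      · rcases hy with hy | ⟨⟨a, b⟩, ⟨ha, hb⟩, rfl⟩
        · exact N.mul_mem (hu y hy) hz
        · exact N.mul_mem (N.mul_mem (hu a ha) (hu b hb)) hz
    have hcard : 96 < Nat.card N := by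
      refine lt_of_lt_of_le outer_gen.1 ?_
      have := Set.ncard_le_ncard (show (↑(outerSet 5) : Set CA) ⊆ (N : Set CA) from fun x hx => hsub x hx)
        (Set.toFinite _)
      rw [Set.ncard_coe_finset, ← Nat.card_coe_set_eq] at this
      exact this
    refine Subgroup.eq_top_of_card_eq N ?_
    obtain ⟨q, hq⟩ := Subgroup.card_subgroup_dvd_card N
    rw [CA.card] at hq ⊢
    have : q < 2 := by nlinarith
    interval_cases q <;> omega
  · obtain ⟨g, hg⟩ := isConj_iff.1 hac
    exact ⟨g, fun h' => absurd (D.inj (hg.symm.trans h')) (by decide +kernel)⟩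

/-- A single class in the core gives the affine group. -/
theorem affine_single [Finite G] (D : AltCent G) (j : ℕ) (hj : j = 2 ∨ j = 3 ∨ j = 4)
    (h : ∀ x : CA, IsConj (D.hom az) (D.hom x) ↔ lab x = 1 ∨ lab x = j) :
    ∃ (N : Subgroup G) (_ : N.Normal), IsMulCommutative N ∧ (∀ n ∈ N, n ^ 2 = 1) ∧ Nat.card N = 8 ∧
      Nonempty (G ⧸ N ≃* Matrix.ProjectiveSpecialLinearGroup (Fin 3) (ZMod 2)) := by
  obtain ⟨k, hk⟩ : ∃ k : Fin 5, (k : ℕ) = j := ⟨⟨j, by omega⟩, rfl⟩
  have hk2 : 2 ≤ (k : ℕ) := by omega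
  have hsq : ∀ x : CA, lab x ≠ 0 → x * x = 1 ∧ x ≠ 1 := fun x hx => by
    by_contra hn
    exact hx ((lab_eq_zero_iff x).2 hn)
  let Em : Subgroup CA :=
    { carrier := {x | x = 1 ∨ lab x = 1 ∨ lab x = j}
      one_mem' := Or.inl rfl
      mul_mem' := fun {x y} hx hy => by
        rcases hx with rfl | hx
        · rwa [one_mul]
        rcases hy with rfl | hy
        · rw [mul_one]; exact Or.inr hx
        by_cases hb : lab x = 1 ∧ lab y = 1
        · left
          rw [(lab_one_iff x).1 hb.1, (lab_one_iff y).1 hb.2]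
          decide +kernel
        rcases lab_closed x y (by omega) (by omega) (by omega) (by omega) (by omega) with e | e | e | e
        · left
          rw [e]
          exact (hsq y (by omega)).1
        · exact Or.inr (Or.inl e)
        · exact Or.inr (Or.inr (by omega))
        · exact Or.inr (Or.inr (by omega))
      inv_mem' := fun {x} hx => by
        have : x⁻¹ = x := by
          rcases hx with rfl | hx
          · exact inv_one
          · exact inv_eq_of_mul_eq_one_right (hsq x (by omega)).1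
        rw [this]; exact hx }
  have hmem : ∀ x, x ∈ Em ↔ x = 1 ∨ lab x = 1 ∨ lab x = j := fun x => Iff.rfl
  have hcard : Nat.card Em = 8 := by
    rw [← class_card k hk2, Nat.card_eq_fintype_card]
    exact Fintype.card_of_subtype _ (fun x => by simp [hmem, hk])
  have hinv : ∀ x l : CA, lab x ≠ 0 → lab (l * x * l⁻¹) = lab x :=
    (show ∀ x l : CA, lab x ≠ 0 → lab (l * x * l⁻¹) = lab x by decide +kernel)
  refine affine_of_local D.hom D.inj D.range_eq CA.card Em hcard
    (fun e he => by
      rcases he with rfl | he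
      · exact mul_one 1
      · exact (hsq e (by omega)).1)
    ((hmem az).2 (Or.inr (Or.inl lab_reps.1))) (by decide +kernel)
    ⟨fun e he g => by
      rcases he with rfl | he
      · simp [hmem]
      · rw [hmem, hinv e g (by omega)]; exact Or.inr he⟩ ?_ ?_ ?_
  · intro m hm
    rw [hmem]
    have := (show ∀ k : Fin 5, 2 ≤ (k : ℕ) → ∀ m : CA,
      (∀ e : CA, (e = 1 ∨ lab e = 1 ∨ lab e = k) → m * e = e * m) → m = 1 ∨ lab m = 1 ∨ lab m = k by decide +kernel)
      k hk2 m (fun e he => hm e ((hmem e).2 (by rwa [← hk])))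
    rwa [hk] at this
  · refine ⟨au, ?_, by decide +kernel⟩
    rw [hmem, lab_reps.2.2.2.2.2]
    have : (au : CA) ≠ 1 := by decide +kernel
    simp [this]
    omega
  · intro x
    rw [h x, hmem]
    constructor
    · exact fun hx => ⟨Or.inr hx, fun h1 => by
        rw [h1, (lab_eq_zero_iff 1).2 (by simp)] at hx
        omega⟩
    · rintro ⟨hx | hx, hx1⟩
      · exact absurd hx hx1
      · exact hx

end CfsgLib.AltEightRecog
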