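import Mathlib.Algebra.Group.Subgroup.Basic
import Mathlib.Data.Fintype.Prod
import Mathlib.Data.Fintype.Card
import Mathlib.GroupTheory.QuotientGroup.Basic
import Mathlib.SetTheory.Cardinal.Finite
import Mathlib.Tactic.FinCases

/-!
Normal forms for a group `2^{1+4}.S₃` given by seven letters and relations with four parameters.
-/

set_option autoImplicit false

namespace CfsgLib.AltEightRecog

/-- Normal forms: sign, four bits of the extraspecial part, a power of the element of order 3, a bit. -/
structure NF : Type where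
  /-- the sign -/
  i : Bool
  /-- exponent of the first letter -/
  x : Bool
  /-- exponent of the second letter -/
  y : Bool
  /-- exponent of the third letter -/
  u : Bool
  /-- exponent of the fourth letter -/
  v : Bool
  /-- exponent of the element of order 3 -/
  k : Fin 3
  /-- exponent of the inverting element -/
  l : Bool
deriving DecidableEq

/-- Normal forms as tuples. -/
def NF.equivProd : NF ≃ Bool × Bool × Bool × Bool × Bool × Fin 3 × Bool :=
  ⟨fun n => (n.i, n.x, n.y, n.u, n.v, n.k, n.l), fun p => ⟨p.1, p.2.1, p.2.2.1, p.2.2.2.1, p.2.2.2.2.1,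
    p.2.2.2.2.2.1, p.2.2.2.2.2.2⟩, fun _ => rfl, fun _ => rfl⟩

instance : Fintype NF := Fintype.ofEquiv _ NF.equivProd.symm

theorem NF.card : Nat.card NF = 192 := by
  rw [Nat.card_eq_fintype_card]
  rfl

/-- The empty word. -/
def NF.one : NF := ⟨false, false, false, false, false, 0, false⟩
/-- The central letter. -/
def NF.zed : NF := ⟨true, false, false, false, false, 0, false⟩
/-- Membership in the extraspecial part. -/
def NF.inQ (n : NF) : Bool := n.k == 0 && !n.l

/-- The four parameters. -/
structure Par : Type where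
  /-- square of the first pair -/
  p : Bool
  /-- square of the second pair -/
  q : Bool
  /-- commutator of the two pairs -/
  m : Bool
  /-- square of the inverting element -/
  e : Bool

variable (P : Par)

/-- Toggle the sign. -/
def flip' (c : Bool) (n : NF) : NF := { n with i := Bool.xor c n.i }
/-- Insert the first letter. -/
def insA (n : NF) : NF := { n with x := !n.x, i := Bool.xor (n.x && P.p) n.i }
/-- Insert the second letter. -/
def insA1 (n : NF) : NF := { n with y := !n.y, i := Bool.xor (n.x && P.p) (Bool.xor (n.y && P.p) n.i) }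
/-- Insert the third letter. -/
def insB (n : NF) : NF := { n with u := !n.u, i := Bool.xor (n.y && P.m) (Bool.xor (n.u && P.q) n.i) }
/-- Insert the fourth letter. -/
def insB1 (n : NF) : NF :=
  { n with v := !n.v, i := Bool.xor (n.x && P.m) (Bool.xor (n.u && P.q) (Bool.xor (n.v && P.q) n.i)) }

/-- Insert the element of order 3. -/
def insR (n : NF) : NF :=
  let n0 : NF := ⟨false, false, false, false, false, n.k + 1, n.l⟩
  let n1 := bif n.v then insB P (insB1 P n0) else n0
  let n2 := bif n.u then insB1 P n1 else n1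
  let n3 := bif n.y then insA P (insA1 P n2) else n2
  let n4 := bif n.x then insA1 P n3 else n3
  flip' n.i n4

/-- Insert the inverting element. -/
def insT (n : NF) : NF :=
  let n0 : NF := ⟨n.l && P.e, false, false, false, false, -n.k, !n.l⟩
  let n1 := bif n.v then flip' P.q (insB P (insB1 P n0)) else n0
  let n2 := bif n.u then flip' P.q (insB P n1) else n1
  let n3 := bif n.y then flip' P.p (insA P (insA1 P n2)) else n2
  let n4 := bif n.x then flip' P.p (insA P n3) else n3
  flip' n.i n4

/-- The product of normal forms. -/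
def nMul (n m : NF) : NF :=
  let m0 := bif n.l then insT P m else m
  let m1 := if n.k = 1 then insR P m0 else if n.k = 2 then insR P (insR P m0) else m0
  let m2 := bif n.v then insB1 P m1 else m1
  let m3 := bif n.u then insB P m2 else m2
  let m4 := bif n.y then insA1 P m3 else m3
  let m5 := bif n.x then insA P m4 else m4
  flip' n.i m5

/-- Seven letters. -/
structure Sys (G : Type*) where
  /-- the central letter -/
  z : G
  /-- the first letter -/
  a : G
  /-- the second letter -/
  a1 : G
  /-- the third letter -/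
  b : G
  /-- the fourth letter -/
  b1 : G
  /-- the element of order 3 -/
  r : G
  /-- the inverting element -/
  t : G

variable {G : Type*} [Group G] (S : Sys G)

/-- A power with exponent a bit. -/
def pw (g : G) (c : Bool) : G := bif c then g else 1

theorem pw_true (g : G) : pw g true = g := rfl

theorem pw_false (g : G) : pw g false = 1 := rfl

/-- The element of a normal form. -/
def Sys.word (n : NF) : G :=
  pw S.z n.i * (pw S.a n.x * (pw S.a1 n.y * (pw S.b n.u * (pw S.b1 n.v * (S.r ^ (n.k : ℕ) * pw S.t n.l)))))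

/-- The relations. -/
structure Sys.Rel (S : Sys G) (P : Par) : Prop where
  zz : S.z * S.z = 1
  za : S.a * S.z = S.z * S.a
  za1 : S.a1 * S.z = S.z * S.a1
  zb : S.b * S.z = S.z * S.b
  zb1 : S.b1 * S.z = S.z * S.b1
  zr : S.r * S.z = S.z * S.r
  zt : S.t * S.z = S.z * S.t
  aa : S.a * S.a = pw S.z P.p
  a1a1 : S.a1 * S.a1 = pw S.z P.p
  bb : S.b * S.b = pw S.z P.q
  b1b1 : S.b1 * S.b1 = pw S.z P.q
  a1a : S.a1 * S.a = pw S.z P.p * (S.a * S.a1)
  ba : S.b * S.a = S.a * S.b
  ba1 : S.b * S.a1 = pw S.z P.m * (S.a1 * S.b)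
  b1a : S.b1 * S.a = pw S.z P.m * (S.a * S.b1)
  b1a1 : S.b1 * S.a1 = S.a1 * S.b1
  b1b : S.b1 * S.b = pw S.z P.q * (S.b * S.b1)
  ra : S.r * S.a = S.a1 * S.r
  ra1 : S.r * S.a1 = S.a * (S.a1 * S.r)
  rb : S.r * S.b = S.b1 * S.r
  rb1 : S.r * S.b1 = S.b * (S.b1 * S.r)
  rrr : S.r * (S.r * S.r) = 1
  ta : S.t * S.a = pw S.z P.p * (S.a * S.t)
  ta1 : S.t * S.a1 = pw S.z P.p * (S.a * (S.a1 * S.t))
  tb : S.t * S.b = pw S.z P.q * (S.b * S.t)
  tb1 : S.t * S.b1 = pw S.z P.q * (S.b * (S.b1 * S.t))
  tr : S.t * S.r = S.r * (S.r * S.t)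
  tt : S.t * S.t = pw S.z P.e

variable {S P} (h : S.Rel P)
include h

theorem Sys.Rel.pw_xor (c d : Bool) : pw S.z c * pw S.z d = pw S.z (Bool.xor c d) := by
  cases c <;> cases d <;> simp [pw, h.zz]

theorem Sys.Rel.pw_xor' (c d : Bool) (w : G) : pw S.z c * (pw S.z d * w) = pw S.z (Bool.xor c d) * w := by
  rw [← mul_assoc, h.pw_xor]

/-- The letters that commute with the central one. -/
theorem Sys.Rel.pw_comm {g : G} (hg : g * S.z = S.z * g) (c : Bool) (w : G) :
    g * (pw S.z c * w) = pw S.z c * (g * w) := by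
  cases c
  · simp [pw_false]
  · rw [pw_true, ← mul_assoc, hg, mul_assoc]

theorem Sys.Rel.word_flip (c : Bool) (n : NF) : S.word (flip' c n) = pw S.z c * S.word n := by
  rw [Sys.word, Sys.word, h.pw_xor']
  rfl

theorem Sys.Rel.word_insA (n : NF) : S.word (insA P n) = S.a * S.word n := by
  obtain ⟨i, x, y, u, v, k, l⟩ := n
  simp only [Sys.word, insA]
  rw [h.pw_comm h.za]
  cases x
  · simp [pw_true, pw_false]
  · rw [pw_true, ← mul_assoc S.a S.a, h.aa, h.pw_xor']
    simp [pw_false, Bool.xor_comm]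

theorem Sys.Rel.word_insA1 (n : NF) : S.word (insA1 P n) = S.a1 * S.word n := by
  obtain ⟨i, x, y, u, v, k, l⟩ := n
  simp only [Sys.word, insA1]
  rw [h.pw_comm h.za1]
  have hx : ∀ w : G, S.a1 * (pw S.a x * w) = pw S.z (x && P.p) * (pw S.a x * (S.a1 * w)) := by
    intro w
    cases x
    · simp [pw_false]
    · rw [pw_true, ← mul_assoc, h.a1a, Bool.true_and, mul_assoc, mul_assoc]
  rw [hx, h.pw_xor']
  cases y
  · simp [pw_true, pw_false, Bool.xor_comm]
  · rw [pw_true, ← mul_assoc S.a1 S.a1, h.a1a1]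
    have : pw S.a x * (pw S.z P.p * (pw S.b u * (pw S.b1 v * (S.r ^ (k : ℕ) * pw S.t l)))) =
        pw S.z P.p * (pw S.a x * (pw S.b u * (pw S.b1 v * (S.r ^ (k : ℕ) * pw S.t l)))) := by
      cases x
      · simp [pw_false]
      · exact h.pw_comm h.za _ _
    rw [this, h.pw_xor']
    simp only [pw_false, one_mul, Bool.not_true, Bool.true_and]
    congr 2
    cases i <;> cases x <;> cases P.p <;> rfl

theorem Sys.Rel.word_insB (n : NF) : S.word (insB P n) = S.b * S.word n := by
  obtain ⟨i, x, y, u, v, k, l⟩ := n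
  simp only [Sys.word, insB]
  rw [h.pw_comm h.zb]
  have hx : ∀ w : G, S.b * (pw S.a x * w) = pw S.a x * (S.b * w) := by
    intro w
    cases x
    · simp [pw_false]
    · rw [pw_true, ← mul_assoc, h.ba, mul_assoc]
  have hy : ∀ w : G, S.b * (pw S.a1 y * w) = pw S.z (y && P.m) * (pw S.a1 y * (S.b * w)) := by
    intro w
    cases y
    · simp [pw_false]
    · rw [pw_true, ← mul_assoc, h.ba1, Bool.true_and, mul_assoc, mul_assoc]
  have ha : ∀ (c : Bool) (w : G), pw S.a x * (pw S.z c * w) = pw S.z c * (pw S.a x * w) := by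
    intro c w
    cases x
    · simp [pw_false]
    · exact h.pw_comm h.za _ _
  have ha1 : ∀ (c : Bool) (w : G), pw S.a1 y * (pw S.z c * w) = pw S.z c * (pw S.a1 y * w) := by
    intro c w
    cases y
    · simp [pw_false]
    · exact h.pw_comm h.za1 _ _
  rw [hx, hy, ha, h.pw_xor']
  cases u
  · simp [pw_true, pw_false, Bool.xor_comm]
  · rw [pw_true, ← mul_assoc S.b S.b, h.bb, ha1, ha, h.pw_xor']
    simp only [pw_false, one_mul, Bool.not_true, Bool.true_and]
    congr 2
    cases i <;> cases y <;> cases P.m <;> cases P.q <;> rfl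

theorem Sys.Rel.word_insB1 (n : NF) : S.word (insB1 P n) = S.b1 * S.word n := by
  obtain ⟨i, x, y, u, v, k, l⟩ := n
  simp only [Sys.word, insB1]
  rw [h.pw_comm h.zb1]
  have hx : ∀ w : G, S.b1 * (pw S.a x * w) = pw S.z (x && P.m) * (pw S.a x * (S.b1 * w)) := by
    intro w
    cases x
    · simp [pw_false]
    · rw [pw_true, ← mul_assoc, h.b1a, Bool.true_and, mul_assoc, mul_assoc]
  have hy : ∀ w : G, S.b1 * (pw S.a1 y * w) = pw S.a1 y * (S.b1 * w) := by
    intro w
    cases y
    · simp [pw_false]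
    · rw [pw_true, ← mul_assoc, h.b1a1, mul_assoc]
  have hu : ∀ w : G, S.b1 * (pw S.b u * w) = pw S.z (u && P.q) * (pw S.b u * (S.b1 * w)) := by
    intro w
    cases u
    · simp [pw_false]
    · rw [pw_true, ← mul_assoc, h.b1b, Bool.true_and, mul_assoc, mul_assoc]
  have ha : ∀ (c : Bool) (w : G), pw S.a x * (pw S.z c * w) = pw S.z c * (pw S.a x * w) := by
    intro c w
    cases x
    · simp [pw_false]
    · exact h.pw_comm h.za _ _
  have ha1 : ∀ (c : Bool) (w : G), pw S.a1 y * (pw S.z c * w) = pw S.z c * (pw S.a1 y * w) := by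
    intro c w
    cases y
    · simp [pw_false]
    · exact h.pw_comm h.za1 _ _
  have hb : ∀ (c : Bool) (w : G), pw S.b u * (pw S.z c * w) = pw S.z c * (pw S.b u * w) := by
    intro c w
    cases u
    · simp [pw_false]
    · exact h.pw_comm h.zb _ _
  rw [hx, hy, hu, ha1, ha, h.pw_xor', h.pw_xor']
  cases v
  · simp only [pw_true, pw_false, one_mul, Bool.not_false, Bool.false_and]
    congr 2
    cases i <;> cases x <;> cases u <;> cases P.m <;> cases P.q <;> rfl
  · rw [pw_true, ← mul_assoc S.b1 S.b1, h.b1b1, hb, ha1, ha, h.pw_xor']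
    simp only [pw_false, one_mul, Bool.not_true, Bool.true_and]
    congr 2
    cases i <;> cases x <;> cases u <;> cases P.m <;> cases P.q <;> rfl

omit h in
theorem pw_tail (k : Fin 3) (l : Bool) (i : Bool) :
    S.word ⟨i, false, false, false, false, k, l⟩ = pw S.z i * (S.r ^ (k : ℕ) * pw S.t l) := by
  simp [Sys.word, pw_false]

theorem Sys.Rel.r_pow (k : Fin 3) : S.r * S.r ^ (k : ℕ) = S.r ^ ((k + 1 : Fin 3) : ℕ) := by
  fin_cases k
  · simp
  · simp [pow_two]
  · simp [pow_two, h.rrr]

theorem Sys.Rel.t_pow (k : Fin 3) : S.t * S.r ^ (k : ℕ) = S.r ^ ((-k : Fin 3) : ℕ) * S.t := by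
  fin_cases k
  · simp
  · show S.t * S.r ^ (1 : ℕ) = S.r ^ (2 : ℕ) * S.t
    rw [pow_one, h.tr, pow_two, mul_assoc]
  · show S.t * S.r ^ (2 : ℕ) = S.r ^ (1 : ℕ) * S.t
    rw [pow_one, pow_two, ← mul_assoc, h.tr, mul_assoc, mul_assoc, h.tr]
    calc S.r * (S.r * (S.r * (S.r * S.t))) = S.r * (S.r * S.r) * (S.r * S.t) := by simp only [mul_assoc]
      _ = S.r * S.t := by rw [h.rrr, one_mul]

theorem Sys.Rel.word_insR (n : NF) : S.word (insR P n) = S.r * S.word n := by
  obtain ⟨i, x, y, u, v, k, l⟩ := n
  show _ = S.r * (pw S.z i * (pw S.a x * (pw S.a1 y * (pw S.b u * (pw S.b1 v * (S.r ^ (k : ℕ) * pw S.t l))))))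
  rw [h.pw_comm h.zr]
  simp only [insR]
  rw [h.word_flip]
  congr 1
  have e0 : S.word ⟨false, false, false, false, false, k + 1, l⟩ = S.r * (S.r ^ (k : ℕ) * pw S.t l) := by
    rw [pw_tail, pw_false, one_mul, ← mul_assoc, h.r_pow]
  have c1 : ∀ w : G, S.r * (S.a * w) = S.a1 * (S.r * w) := fun w => by rw [← mul_assoc, h.ra, mul_assoc]
  have c2 : ∀ w : G, S.r * (S.a1 * w) = S.a * (S.a1 * (S.r * w)) := fun w => by
    rw [← mul_assoc, h.ra1, mul_assoc, mul_assoc]
  have c3 : ∀ w : G, S.r * (S.b * w) = S.b1 * (S.r * w) := fun w => by rw [← mul_assoc, h.rb, mul_assoc]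
  have c4 : ∀ w : G, S.r * (S.b1 * w) = S.b * (S.b1 * (S.r * w)) := fun w => by
    rw [← mul_assoc, h.rb1, mul_assoc, mul_assoc]
  cases x <;> cases y <;> cases u <;> cases v <;>
    simp only [cond_true, cond_false, h.word_insA, h.word_insA1, h.word_insB, h.word_insB1, e0, pw_true,
      pw_false, one_mul, c1, c2, c3, c4]

theorem Sys.Rel.word_insT (n : NF) : S.word (insT P n) = S.t * S.word n := by
  obtain ⟨i, x, y, u, v, k, l⟩ := n
  show _ = S.t * (pw S.z i * (pw S.a x * (pw S.a1 y * (pw S.b u * (pw S.b1 v * (S.r ^ (k : ℕ) * pw S.t l))))))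
  rw [h.pw_comm h.zt]
  simp only [insT]
  rw [h.word_flip]
  congr 1
  have e0 : S.word ⟨l && P.e, false, false, false, false, -k, !l⟩ = S.t * (S.r ^ (k : ℕ) * pw S.t l) := by
    rw [pw_tail, ← mul_assoc S.t, h.t_pow, mul_assoc]
    cases l
    · simp [pw_true, pw_false]
    · simp only [Bool.not_true, Bool.true_and, pw_true, h.tt, pw_false, mul_one]
      cases P.e
      · simp [pw_false]
      · rw [pw_true]
        exact (show Commute (S.r ^ ((-k : Fin 3) : ℕ)) S.z from (show Commute S.r S.z from h.zr).pow_left _).eq.symm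
  have c1 : ∀ w : G, S.t * (S.a * w) = pw S.z P.p * (S.a * (S.t * w)) := fun w => by
    rw [← mul_assoc, h.ta, mul_assoc, mul_assoc]
  have c2 : ∀ w : G, S.t * (S.a1 * w) = pw S.z P.p * (S.a * (S.a1 * (S.t * w))) := fun w => by
    rw [← mul_assoc, h.ta1, mul_assoc, mul_assoc, mul_assoc]
  have c3 : ∀ w : G, S.t * (S.b * w) = pw S.z P.q * (S.b * (S.t * w)) := fun w => by
    rw [← mul_assoc, h.tb, mul_assoc, mul_assoc]
  have c4 : ∀ w : G, S.t * (S.b1 * w) = pw S.z P.q * (S.b * (S.b1 * (S.t * w))) := fun w => by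
    rw [← mul_assoc, h.tb1, mul_assoc, mul_assoc, mul_assoc]
  cases x <;> cases y <;> cases u <;> cases v <;>
    simp only [cond_true, cond_false, h.word_flip, h.word_insA, h.word_insA1, h.word_insB, h.word_insB1, e0,
      pw_true, pw_false, one_mul, c1, c2, c3, c4, h.pw_comm h.za, h.pw_comm h.za1, h.pw_comm h.zb,
      h.pw_comm h.zb1, h.pw_comm h.zt]

/-- The product of normal forms is the product in the group. -/
theorem Sys.Rel.word_mul (n m : NF) : S.word (nMul P n m) = S.word n * S.word m := by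
  obtain ⟨i, x, y, u, v, k, l⟩ := n
  show _ = pw S.z i * (pw S.a x * (pw S.a1 y * (pw S.b u * (pw S.b1 v * (S.r ^ (k : ℕ) * pw S.t l))))) * S.word m
  simp only [nMul]
  rw [h.word_flip, mul_assoc]
  congr 1
  have hA : ∀ (c : Bool) (w : NF), S.word (bif c then insA P w else w) = pw S.a c * S.word w := fun c w => by
    cases c <;> simp [pw_true, pw_false, h.word_insA]
  have hA1 : ∀ (c : Bool) (w : NF), S.word (bif c then insA1 P w else w) = pw S.a1 c * S.word w := fun c w => by
    cases c <;> simp [pw_true, pw_false, h.word_insA1]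
  have hB : ∀ (c : Bool) (w : NF), S.word (bif c then insB P w else w) = pw S.b c * S.word w := fun c w => by
    cases c <;> simp [pw_true, pw_false, h.word_insB]
  have hB1 : ∀ (c : Bool) (w : NF), S.word (bif c then insB1 P w else w) = pw S.b1 c * S.word w := fun c w => by
    cases c <;> simp [pw_true, pw_false, h.word_insB1]
  have hT : ∀ (c : Bool) (w : NF), S.word (bif c then insT P w else w) = pw S.t c * S.word w := fun c w => by
    cases c <;> simp [pw_true, pw_false, h.word_insT]
  have hR : ∀ w : NF, S.word (if k = 1 then insR P w else if k = 2 then insR P (insR P w) else w) =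
      S.r ^ (k : ℕ) * S.word w := by
    intro w
    fin_cases k
    · simp
    · simp [h.word_insR]
    · simp [h.word_insR, pow_two, mul_assoc]
  rw [hA, hA1, hB, hB1, hR, hT]
  simp only [mul_assoc]

omit h in
theorem Sys.word_one : S.word NF.one = 1 := by simp [Sys.word, NF.one, pw_false]

omit h in
theorem Sys.word_zed : S.word NF.zed = S.z := by simp [Sys.word, NF.zed, pw_false, pw_true]

/-- A group generated by the letters is the range of the word map. -/
theorem Sys.Rel.range_closed {n m : NF} : S.word n * S.word m ∈ Set.range S.word :=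
  ⟨_, h.word_mul n m⟩

/-- Two systems with the same parameters: the word map of the second factors through the first. -/
theorem Sys.Rel.exists_hom {M : Type*} [Group M] {T : Sys M} (hT : T.Rel P)
    (hbij : Function.Bijective T.word) :
    ∃ f : M →* G, (∀ n, f (T.word n) = S.word n) := by
  let e := Equiv.ofBijective _ hbij
  refine ⟨MonoidHom.mk' (fun x => S.word (e.symm x)) fun x y => ?_, fun n => ?_⟩
  · obtain ⟨n, rfl⟩ := hbij.2 x
    obtain ⟨m, rfl⟩ := hbij.2 y
    rw [← hT.word_mul, show e.symm (T.word n) = n from e.symm_apply_apply n,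
      show e.symm (T.word m) = m from e.symm_apply_apply m,
      show e.symm (T.word (nMul P n m)) = nMul P n m from e.symm_apply_apply _, h.word_mul]
  · show S.word (e.symm (T.word n)) = S.word n
    rw [show e.symm (T.word n) = n from e.symm_apply_apply n]

end CfsgLib.AltEightRecog
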